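import Mathlib
import Cfsg.Agent.S2904

/-!
Divisibility facts for numbers `2 ^ n - 1`.
-/

set_option autoImplicit false

namespace Cfsg.Agent.RealClassGraph.Arith

theorem dvd_iff {k d : ℕ} : 2 ^ k - 1 ∣ 2 ^ d - 1 ↔ k ∣ d := by
  refine ⟨fun h => ?_, fun h => Nat.pow_sub_one_dvd_pow_sub_one _ h⟩
  have := Nat.gcd_eq_left h
  rw [Nat.pow_sub_one_gcd_pow_sub_one] at this
  have h1 : 2 ^ Nat.gcd k d = 2 ^ k := by
    have := Nat.one_le_two_pow (n := k)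
    have := Nat.one_le_two_pow (n := Nat.gcd k d)
    omega
  exact (Nat.pow_right_injective le_rfl h1) ▸ Nat.gcd_dvd_right k d

theorem two_mul_le {e D : ℕ} (hD : 0 < D) (h : e ∣ D) (hne : e ≠ D) : 2 * e ≤ D := by
  obtain ⟨t, rfl⟩ := h
  rcases Nat.lt_or_ge t 2 with ht | ht
  · interval_cases t
    · omega
    · omega
  · calc 2 * e = e * 2 := mul_comm _ _
      _ ≤ e * t := Nat.mul_le_mul_left _ ht

theorem dvd_gcd {f a b : ℕ} (ha : f ∣ 2 ^ a - 1) (hb : f ∣ 2 ^ b - 1) : f ∣ 2 ^ Nat.gcd a b - 1 := by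
  rw [← Nat.pow_sub_one_gcd_pow_sub_one]
  exact Nat.dvd_gcd ha hb

/-- the quotient `(2 ^ D - 1) / (2 ^ k - 1)` lies in no smaller field -/
theorem dvd_of_quot_dvd {D k f e : ℕ} (hD : 0 < D) (hk : k ∣ D) (hkD : k ≠ D)
    (hf : f * (2 ^ k - 1) = 2 ^ D - 1) (h : f ∣ 2 ^ e - 1) : D ∣ e := by
  have hf' : f ∣ 2 ^ D - 1 := hf ▸ dvd_mul_right _ _
  have hg := dvd_gcd h hf'
  by_contra hne
  have hgD : Nat.gcd e D ≠ D := fun he => hne (he ▸ Nat.gcd_dvd_left e D)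
  have h1 := two_mul_le hD (Nat.gcd_dvd_right e D) hgD
  have h2 := two_mul_le hD hk hkD
  have hk0 : 0 < k := Nat.pos_of_dvd_of_pos hk hD
  rcases Nat.eq_zero_or_pos (Nat.gcd e D) with h0 | h0
  · exact absurd (Nat.gcd_eq_zero_iff.1 h0).2 hD.ne'
  have h3 : f ≤ 2 ^ Nat.gcd e D - 1 := Nat.le_of_dvd (Nat.sub_pos_of_lt (Nat.one_lt_two_pow h0.ne')) hg
  have h4 : (2 ^ Nat.gcd e D - 1) * (2 ^ k - 1) < 2 ^ D - 1 := by
    have hA := Nat.one_lt_two_pow h0.ne'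
    have hB := Nat.one_lt_two_pow hk0.ne'
    have hle : 2 ^ Nat.gcd e D * 2 ^ k ≤ 2 ^ D := by
      rw [← pow_add]
      exact Nat.pow_le_pow_right (by norm_num) (by omega)
    obtain ⟨a, ha⟩ := Nat.exists_eq_add_of_le hA
    obtain ⟨b, hb⟩ := Nat.exists_eq_add_of_le hB
    rw [ha, hb] at hle ⊢
    simp only [Nat.add_sub_cancel_left, Nat.succ_eq_add_one] at *
    have : (1 + 1 + a - 1) * (1 + 1 + b - 1) = a * b + a + b + 1 := by
      rw [show 1 + 1 + a - 1 = a + 1 by omega, show 1 + 1 + b - 1 = b + 1 by omega]; ring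
    rw [this]
    have : (1 + 1 + a) * (1 + 1 + b) = a * b + 2 * a + 2 * b + 4 := by ring
    omega
  exact absurd (hf ▸ (Nat.mul_le_mul_right _ h3).trans_lt h4) (lt_irrefl _)

/-- the full `p`-part of `2 ^ (D * 2 ^ s) - 1` already divides `2 ^ D - 1` -/
theorem prime_pow_dvd {p a D : ℕ} (hp : p.Prime) (hp2 : p ≠ 2) (hD : p ∣ 2 ^ D - 1) :
    ∀ s : ℕ, p ^ a ∣ 2 ^ (D * 2 ^ s) - 1 → p ^ a ∣ 2 ^ D - 1 := by
  intro s
  induction s with
  | zero => simp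
  | succ s ih =>
    intro h
    refine ih ?_
    set E := D * 2 ^ s with hE
    have hmul : 2 ^ (D * 2 ^ (s + 1)) - 1 = (2 ^ E - 1) * (2 ^ E + 1) := by
      rw [show D * 2 ^ (s + 1) = E + E by rw [hE, pow_succ]; ring, pow_add, mul_comm (2 ^ E - 1),
        ← Nat.sq_sub_sq, one_pow, pow_two]
    rw [hmul] at h
    refine (Nat.Coprime.pow_left a (hp.coprime_iff_not_dvd.2 fun hd => ?_)).dvd_of_dvd_mul_right h
    have h1 : p ∣ 2 ^ E - 1 := hD.trans (Nat.pow_sub_one_dvd_pow_sub_one _ (dvd_mul_right _ _))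
    have h2 : p ∣ 2 := by
      have h3 := Nat.dvd_sub hd h1
      rwa [show 2 ^ E + 1 - (2 ^ E - 1) = 2 by have := Nat.one_le_two_pow (n := E); omega] at h3
    exact hp2 ((Nat.prime_dvd_prime_iff_eq hp Nat.prime_two).1 h2)

theorem six_dvd_of_nine {e : ℕ} (h : 9 ∣ 2 ^ e - 1) : 6 ∣ e := by
  have hg : 9 ∣ 2 ^ Nat.gcd e 6 - 1 := dvd_gcd h (by norm_num)
  have h6 : Nat.gcd e 6 ∣ 6 := Nat.gcd_dvd_right e 6
  have h7 := Nat.gcd_dvd_left e 6
  have hle := Nat.le_of_dvd (by norm_num) h6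
  interval_cases hh : Nat.gcd e 6 <;> simp_all

/-- a primitive prime divisor of `2 ^ n - 1` -/
theorem exists_primitive {n : ℕ} (hn : 1 < n) (h6 : n ≠ 6) :
    ∃ r : ℕ, r.Prime ∧ r ≠ 2 ∧ r ∣ 2 ^ n - 1 ∧ ∀ e : ℕ, r ∣ 2 ^ e - 1 → n ∣ e := by
  obtain ⟨r, hr, hd, hmin⟩ := Cfsg.Agent.S2904.result 2 n (by norm_num) hn (fun h => h6 h.2)
    (fun ⟨_, m, hm⟩ => by
      rcases m.eq_zero_or_pos with rfl | hm0
      · norm_num at hm
      · have h1 : 2 ∣ 2 ^ m := dvd_pow_self 2 hm0.ne'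
        omega)
  refine ⟨r, hr, fun e => ?_, hd, fun e he => ?_⟩
  · subst e
    have h1 : 2 ∣ 2 ^ n := dvd_pow_self 2 (by omega)
    have h2 := Nat.one_le_two_pow (n := n)
    omega
  · by_contra hne
    refine hmin (Nat.gcd e n) (Nat.gcd_pos_of_pos_right _ (by omega)) ?_ (dvd_gcd he hd)
    exact lt_of_le_of_ne (Nat.le_of_dvd (by omega) (Nat.gcd_dvd_right e n))
      fun h => hne (h ▸ Nat.gcd_dvd_left e n)

end Cfsg.Agent.RealClassGraph.Arith
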