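import Mathlib
import Cfsg.Agent.Lib.Grp.Real
import Cfsg.Agent.S3861
import Cfsg.Agent.S0205

/-!
Real elements: class sizes, lifting along homomorphisms, coprime class sizes.
-/

set_option autoImplicit false

set_option linter.unusedSectionVars false

namespace Cfsg.Agent.RealClassGraph

open Subgroup

section Defs

variable {G : Type*} [Group G]

/-- `x` is conjugate to its inverse -/
def Real (x : G) : Prop := ∃ g : G, g * x * g⁻¹ = x⁻¹

/-- the size of the conjugacy class of `x` -/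
noncomputable def csize (x : G) : ℕ := (centralizer ({x} : Set G)).index

theorem real_iff {x : G} : IsConj x x⁻¹ ↔ Real x := isConj_iff

theorem Real.pow {x : G} (h : Real x) (n : ℕ) : Real (x ^ n) := by
  obtain ⟨g, hg⟩ := h
  exact ⟨g, by rw [← conj_pow, hg, inv_pow]⟩

theorem conj_inv_eq {g x : G} (h : g * x * g⁻¹ = x⁻¹) : g * x⁻¹ * g⁻¹ = x := by
  rw [← conj_inv, h, inv_inv]

theorem conj_inv_odd {g x : G} (h : g * x * g⁻¹ = x⁻¹) {m : ℕ} (hm : Odd m) :
    g ^ m * x * (g ^ m)⁻¹ = x⁻¹ := by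
  obtain ⟨j, rfl⟩ := hm
  induction j with
  | zero => simpa using h
  | succ j ih =>
    rw [show g ^ (2 * (j + 1) + 1) * x * (g ^ (2 * (j + 1) + 1))⁻¹ =
      g * (g * (g ^ (2 * j + 1) * x * (g ^ (2 * j + 1))⁻¹) * g⁻¹) * g⁻¹ by
        rw [show 2 * (j + 1) + 1 = 2 + (2 * j + 1) by ring, pow_add, pow_two]; group,
      ih, conj_inv_eq h, h]

theorem exists_two_part (g : G) [Finite G] : ∃ m a : ℕ, Odd m ∧ (g ^ m) ^ 2 ^ a = 1 := by
  obtain ⟨k, m, hm, hkm⟩ := Nat.exists_eq_two_pow_mul_odd (orderOf_pos g).ne'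
  exact ⟨m, k, hm, by rw [← pow_mul, mul_comm, ← hkm, pow_orderOf_eq_one]⟩

theorem Real.exists_two_inverter [Finite G] {x : G} (h : Real x) :
    ∃ g : G, (∃ a : ℕ, g ^ 2 ^ a = 1) ∧ g * x * g⁻¹ = x⁻¹ := by
  obtain ⟨g, hg⟩ := h
  obtain ⟨m, a, hm, ha⟩ := exists_two_part g
  exact ⟨g ^ m, ⟨a, ha⟩, conj_inv_odd hg hm⟩

theorem real_of_sq_one {x : G} (h : x * x = 1) : Real x :=
  ⟨1, by rw [one_mul, inv_one, mul_one]; exact eq_inv_of_mul_eq_one_left h⟩

theorem real_conj {x : G} (h : Real x) (g : G) : Real (g * x * g⁻¹) := by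
  obtain ⟨u, hu⟩ := h
  refine ⟨g * u * g⁻¹, ?_⟩
  rw [show g * u * g⁻¹ * (g * x * g⁻¹) * (g * u * g⁻¹)⁻¹ = g * (u * x * u⁻¹) * g⁻¹ by group, hu,
    conj_inv]

theorem mem_cent {x g : G} : g ∈ centralizer ({x} : Set G) ↔ g * x = x * g :=
  mem_centralizer_singleton_iff

theorem conj_eq_of_mem_cent {x g : G} (h : g ∈ centralizer ({x} : Set G)) : g * x * g⁻¹ = x := by
  rw [mem_cent.1 h, mul_inv_cancel_right]

theorem mem_cent_of_conj_eq {x g : G} (h : g * x * g⁻¹ = x) : g ∈ centralizer ({x} : Set G) :=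
  mem_cent.2 (mul_inv_eq_iff_eq_mul.1 h)

end Defs

variable {G : Type*} [Group G] [Finite G]

theorem csize_pos (x : G) : 0 < csize x := Nat.pos_of_ne_zero index_ne_zero_of_finite

theorem csize_eq_one_iff {x : G} : csize x = 1 ↔ x ∈ center G := by
  rw [csize, index_eq_one, Subgroup.eq_top_iff', mem_center_iff]
  simp only [mem_cent]

theorem two_dvd_csize {x : G} (hx : x * x ≠ 1) (h : Real x) : 2 ∣ csize x := by
  obtain ⟨g, hg⟩ := h
  have := Grp.two_dvd_relIndex_centralizer_of_real hx hg ⊤ (mem_top g) le_top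
  rwa [relIndex_top_right] at this

theorem sq_ne_one_of_odd {x : G} (hx : x ≠ 1) (ho : Odd (orderOf x)) : x * x ≠ 1 :=
  fun e => hx (Grp.eq_one_of_odd_of_sq ho e)

/-- coprime indices give a factorisation -/
theorem exists_mul_of_coprime {H K : Subgroup G} (h : Nat.Coprime H.index K.index) (g : G) :
    ∃ a ∈ H, ∃ b ∈ K, g = a * b := by
  have hinf : (H ⊓ K).index = H.index * K.index :=
    le_antisymm index_inf_le (Nat.le_of_dvd (Nat.pos_of_ne_zero index_ne_zero_of_finite)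
      (Nat.Coprime.mul_dvd_of_dvd_of_dvd h (index_dvd_of_le inf_le_left)
        (index_dvd_of_le inf_le_right)))
  rw [← relIndex_mul_index (inf_le_left : H ⊓ K ≤ H), inf_relIndex_left, mul_comm] at hinf
  have hrel : K.relIndex H = K.index :=
    Nat.eq_of_mul_eq_mul_left (Nat.pos_of_ne_zero index_ne_zero_of_finite) hinf
  have hstab : MulAction.stabilizer H ((1 : G) : G ⧸ K) = K.subgroupOf H := by
    ext x
    rw [MulAction.mem_stabilizer_iff, mem_subgroupOf]
    show ((((x : G) * 1 : G)) : G ⧸ K) = _ ↔ _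
    rw [mul_one, QuotientGroup.eq, mul_one]
    exact K.inv_mem_iff
  have horb : MulAction.orbit H ((1 : G) : G ⧸ K) = Set.univ := by
    refine Set.eq_of_subset_of_ncard_le (Set.subset_univ _) ?_
    rw [Set.ncard_univ, ← MulAction.index_stabilizer, hstab, ← index_eq_card]
    exact hrel.ge
  obtain ⟨a, ha⟩ := (horb.symm ▸ Set.mem_univ _ : (g : G ⧸ K) ∈ MulAction.orbit H ((1 : G) : G ⧸ K))
  refine ⟨a, a.2, (a : G)⁻¹ * g, ?_, by group⟩
  have h1 : ((((a : G) * 1 : G)) : G ⧸ K) = (g : G ⧸ K) := ha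
  rw [mul_one, QuotientGroup.eq] at h1
  exact h1

theorem normal_sylow_two_of_no_real {H : Type*} [Group H] [Finite H]
    (h : ∀ (x : H) (p : ℕ), p.Prime → p ≠ 2 → orderOf x = p → ¬ Real x) (P : Sylow 2 H) :
    (P : Subgroup H).Normal := by
  refine (Cfsg.Agent.S3861.result P).1 fun x hx ho hr => ?_
  obtain ⟨p, hp, hd⟩ := Nat.exists_prime_and_dvd (n := orderOf x)
    (fun e => hx (orderOf_eq_one_iff.1 e))
  have hp2 : p ≠ 2 := fun e => (Nat.not_even_iff_odd.2 ho) (even_iff_two_dvd.2 (e ▸ hd))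
  refine h (x ^ (orderOf x / p)) p hp hp2 ?_ ((real_iff.1 hr).pow _)
  rw [orderOf_pow_of_dvd ((Nat.div_pos (Nat.le_of_dvd (orderOf_pos x) hd) hp.pos).ne')
    (Nat.div_dvd_of_dvd hd), Nat.div_div_self hd (orderOf_pos x).ne']

theorem isSolvable_of_normal_sylow_two {H : Type*} [Group H] [Finite H] (P : Sylow 2 H)
    (hP : (P : Subgroup H).Normal) : Group.IsSolvable H := by
  haveI := hP
  haveI : Group.IsNilpotent (P : Subgroup H) := P.isPGroup'.isNilpotent
  haveI : Group.IsSolvable (H ⧸ (P : Subgroup H)) := Cfsg.Agent.S0205.result (by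
    rw [← index_eq_card]
    exact Nat.odd_iff.2 (Nat.two_dvd_ne_zero.1 P.not_dvd_index))
  exact Group.isSolvable_of_ker_le_range (P : Subgroup H).subtype (QuotientGroup.mk' (P : Subgroup H))
    (by rw [QuotientGroup.ker_mk', range_subtype])

/-- a real element of odd prime order in a quotient lifts to a real element of prime power order -/
theorem exists_real_lift {A B : Type*} [Group A] [Finite A] [Group B] (f : A →* B)
    (hf : Function.Surjective f) {p : ℕ} [Fact p.Prime] (hp : p ≠ 2) {z : B} (hz : orderOf z = p)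
    (hr : Real z) : ∃ x : A, f x = z ∧ Real x ∧ ∃ a : ℕ, x ^ p ^ a = 1 := by
  obtain ⟨s, hs⟩ := hr
  obtain ⟨t, rfl⟩ := hf s
  set L := (zpowers z).comap f
  have hnorm : ∀ w : A, f w * z * (f w)⁻¹ = z⁻¹ → ∀ l ∈ L, w * l * w⁻¹ ∈ L := by
    intro w hw l hl
    obtain ⟨j, hj⟩ := mem_zpowers_iff.1 (mem_comap.1 hl)
    rw [mem_comap, map_mul, map_mul, map_inv, ← hj, ← conj_zpow, hw]
    exact zpow_mem (inv_mem (mem_zpowers z)) j
  obtain ⟨P⟩ : Nonempty (Sylow p L) := inferInstance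
  -- move the conjugate of `P` back inside `L`
  have key : ∃ l : L, ∀ q : L, q ∈ (P : Subgroup L) →
      ∃ q' ∈ (P : Subgroup L), ((l : A) * t) * (q : A) * ((l : A) * t)⁻¹ = q' := by
    let φ : L →* L :=
      { toFun := fun l => ⟨t * l * t⁻¹, hnorm t hs l l.2⟩
        map_one' := Subtype.ext (by simp)
        map_mul' := fun a b => Subtype.ext (by simp [mul_assoc]) }
    have hφ : Function.Injective φ := fun a b e => Subtype.ext (by
      have := congrArg Subtype.val e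
      simpa [φ] using this)
    obtain ⟨Q, hQ⟩ := (P.isPGroup'.map φ).exists_le_sylow
    obtain ⟨l, hl⟩ := MulAction.exists_smul_eq L Q P
    refine ⟨l, fun q hq => ⟨l * φ q * l⁻¹, ?_, ?_⟩⟩
    · have : MulAut.conj l • φ q ∈ ((l • Q : Sylow p L) : Subgroup L) :=
        Subgroup.smul_mem_pointwise_smul _ _ _ (hQ (mem_map_of_mem φ hq))
      rw [hl] at this
      simpa [MulAut.smul_def] using this
    · simp [φ, mul_assoc]
  obtain ⟨l, hl⟩ := key
  set n := (l : A) * t
  obtain ⟨m, a, hm, ha⟩ := exists_two_part n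
  have hn : f n * z * (f n)⁻¹ = z⁻¹ := by
    obtain ⟨j, hj⟩ := mem_zpowers_iff.1 (mem_comap.1 l.2)
    rw [map_mul, show f l * f t * z * (f l * f t)⁻¹ = f l * (f t * z * (f t)⁻¹) * (f l)⁻¹ by group,
      hs, ← hj, ((Commute.refl z).inv_right.zpow_left j).eq, mul_inv_cancel_right]
  have hnm : f (n ^ m) * z * (f (n ^ m))⁻¹ = z⁻¹ := by
    rw [map_pow]; exact conj_inv_odd hn hm
  set PA := (P : Subgroup L).map L.subtype
  have hnP : ∀ (j : ℕ), ∀ q ∈ PA, n ^ j * q * (n ^ j)⁻¹ ∈ PA := by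
    intro j
    induction j with
    | zero => intro q hq; simpa using hq
    | succ j ih =>
      intro q hq
      obtain ⟨q₁, hq₁, e⟩ := mem_map.1 (ih q hq)
      obtain ⟨q₂, hq₂, e₂⟩ := hl q₁ hq₁
      rw [show n ^ (j + 1) * q * (n ^ (j + 1))⁻¹ = n * (n ^ j * q * (n ^ j)⁻¹) * n⁻¹ by
        rw [pow_succ']; group, ← e]
      exact e₂ ▸ mem_map_of_mem _ hq₂
  -- the fibre over `z` in `PA`
  have hsurj : ∃ q ∈ PA, f q = z := by
    let g : L →* zpowers z := (f.comp L.subtype).codRestrict _ fun l => mem_comap.1 l.2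
    have hg : Function.Surjective g := fun w => by
      obtain ⟨y, hy⟩ := hf w
      exact ⟨⟨y, mem_comap.2 (hy ▸ w.2)⟩, Subtype.ext hy⟩
    have htop : (P.mapSurjective hg : Subgroup (zpowers z)) = ⊤ := by
      haveI : Finite (zpowers z) := Nat.finite_of_card_ne_zero (by
        rw [Nat.card_zpowers, hz]; exact (Fact.out : p.Prime).ne_zero)
      have h1 := (P.mapSurjective hg).not_dvd_index
      have h2 := Subgroup.index_dvd_card ((P.mapSurjective hg : Subgroup (zpowers z)))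
      rw [Nat.card_zpowers, hz] at h2
      rcases (Nat.dvd_prime Fact.out).1 h2 with e | e
      · exact index_eq_one.1 e
      · exact absurd (e.symm ▸ dvd_refl p) h1
    have : (⟨z, mem_zpowers z⟩ : zpowers z) ∈ (P.mapSurjective hg : Subgroup (zpowers z)) := by
      rw [htop]; exact mem_top _
    rw [Sylow.coe_mapSurjective] at this
    obtain ⟨q, hq, hqe⟩ := this
    exact ⟨q, mem_map_of_mem _ hq, congrArg Subtype.val hqe⟩
  let S := {q : A // q ∈ PA ∧ f q = z}
  have hcard : ¬ 2 ∣ Nat.card S := by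
    obtain ⟨q₀, hq₀, hq₀z⟩ := hsurj
    have e : S ≃ ↥(PA ⊓ f.ker) :=
      { toFun := fun q => ⟨q₀⁻¹ * q.1, Subgroup.mem_inf.2 ⟨mul_mem (inv_mem hq₀) q.2.1, by
          rw [MonoidHom.mem_ker, map_mul, map_inv, hq₀z, q.2.2, inv_mul_cancel]⟩⟩
        invFun := fun q => ⟨q₀ * q.1, mul_mem hq₀ (Subgroup.mem_inf.1 q.2).1, by
          rw [map_mul, hq₀z, MonoidHom.mem_ker.1 (Subgroup.mem_inf.1 q.2).2, mul_one]⟩
        left_inv := fun q => Subtype.ext (by simp)
        right_inv := fun q => Subtype.ext (by simp) }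
    rw [Nat.card_congr e]
    obtain ⟨b, hb⟩ := IsPGroup.iff_card.1 ((P.isPGroup'.map L.subtype).to_le
      (inf_le_left : PA ⊓ f.ker ≤ PA))
    rw [hb]
    exact fun h2 => hp ((Nat.prime_dvd_prime_iff_eq Nat.prime_two Fact.out).1
      (Nat.prime_two.dvd_of_dvd_pow h2)).symm
  let φ : Equiv.Perm S :=
    { toFun := fun q => ⟨n ^ m * q.1⁻¹ * (n ^ m)⁻¹, hnP m _ (inv_mem q.2.1), by
        rw [map_mul, map_mul, map_inv, map_inv, q.2.2, conj_inv_eq hnm]⟩
      invFun := fun q => ⟨(n ^ m)⁻¹ * q.1⁻¹ * n ^ m, by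
        have hh := hnP (m * (2 ^ a - 1)) _ (inv_mem q.2.1)
        have e : n ^ (m * (2 ^ a - 1)) = (n ^ m)⁻¹ := by
          rw [pow_mul]
          exact eq_inv_of_mul_eq_one_left (by
            rw [← pow_succ, Nat.sub_add_cancel (Nat.one_le_two_pow), ha])
        rwa [e, inv_inv] at hh, by
        rw [map_mul, map_mul, map_inv, map_inv, q.2.2, ← hnm]
        group⟩
      left_inv := fun q => Subtype.ext (by group)
      right_inv := fun q => Subtype.ext (by group) }
  have hφ : ∀ (j : ℕ) (q : S), ((φ ^ (2 * j)) q).1 = (n ^ m) ^ (2 * j) * q.1 * ((n ^ m) ^ (2 * j))⁻¹ := by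
    intro j
    induction j with
    | zero => intro q; simp
    | succ j ih =>
      intro q
      rw [show 2 * (j + 1) = 1 + (1 + 2 * j) by ring, pow_add φ, pow_add φ, pow_one,
        Equiv.Perm.mul_apply, Equiv.Perm.mul_apply]
      show n ^ m * (n ^ m * ((φ ^ (2 * j)) q).1⁻¹ * (n ^ m)⁻¹)⁻¹ * (n ^ m)⁻¹ = _
      rw [ih, pow_add, pow_add, pow_one]
      group
  haveI : Fintype S := Fintype.ofFinite S
  obtain ⟨q, hq⟩ := Equiv.Perm.exists_fixed_point_of_prime (p := 2) (n := a + 1)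
    (by rwa [← Nat.card_eq_fintype_card]) (σ := φ) (Equiv.ext fun q => Subtype.ext (by
      rw [pow_succ', hφ, pow_mul, ← pow_mul, mul_comm, pow_mul, ha, one_pow]; simp))
  have hq' : n ^ m * q.1⁻¹ * (n ^ m)⁻¹ = q.1 := congrArg Subtype.val hq
  refine ⟨q.1, q.2.2, ⟨n ^ m, ?_⟩, ?_⟩
  · conv_rhs => rw [← hq']
    group
  · obtain ⟨b, hb⟩ := (P.isPGroup'.map L.subtype) ⟨q.1, q.2.1⟩
    exact ⟨b, congrArg Subtype.val hb⟩

end Cfsg.Agent.RealClassGraph
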