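import Cfsg.Agent.Lib.Block.RealClassGraph.Setup
import Cfsg.Agent.S0215
import Cfsg.Agent.Lib.Grp.Cores

/-!
If no involution of odd-side class size lies in `O₂(G)`, then `G` is solvable.
-/

set_option autoImplicit false
set_option linter.unusedSectionVars false

namespace Cfsg.Agent.RealClassGraph

open Subgroup

variable {G : Type*} [Group G] [Finite G]

/-- the preimage of the centre of `G / O(G)` -/
def ZS (G : Type*) [Group G] : Set G := {x | ∀ g : G, g * x * g⁻¹ * x⁻¹ ∈ Cfsg.pPrimeCore 2 G}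

theorem odd_core : Odd (Nat.card (Cfsg.pPrimeCore 2 G)) :=
  Nat.coprime_two_right.1 Grp.pPrimeCore_coprime

theorem eq_one_of_core {x : G} (h : x ∈ Cfsg.pPrimeCore 2 G) {a : ℕ} (ha : x ^ 2 ^ a = 1) :
    x = 1 := by
  have h1 : orderOf x ∣ 2 ^ a := orderOf_dvd_of_pow_eq_one ha
  have h2 : Odd (orderOf x) := Odd.of_dvd_nat odd_core ((Cfsg.pPrimeCore 2 G).orderOf_dvd_natCard h)
  exact orderOf_eq_one_iff.1 (Nat.eq_one_of_dvd_coprimes
    (Nat.Coprime.pow_left a (Nat.coprime_two_left.2 h2)) h1 dvd_rfl)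

theorem isPGroup_zpowers {g : G} {a : ℕ} (ha : g ^ 2 ^ a = 1) : IsPGroup 2 (zpowers g) := by
  obtain ⟨i, -, hi⟩ := (Nat.dvd_prime_pow Nat.prime_two).1 (orderOf_dvd_of_pow_eq_one ha)
  exact IsPGroup.of_card (n := i) (by rw [Nat.card_zpowers, hi])

theorem relIndex_dvd_index_right (C N : Subgroup G) [hN : N.Normal] :
    C.relIndex N ∣ C.index := by
  have h1 := Grp.card_sup_mul_card_inf_normal (H := C) (N := N)
  have h2 := Grp.card_mul_relIndex (le_sup_left : C ≤ C ⊔ N)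
  have h3 := Grp.relIndex_mul_card_inf N C
  have e : C.relIndex N = C.relIndex (C ⊔ N) := by
    refine Nat.eq_of_mul_eq_mul_left (Nat.mul_pos (Nat.card_pos (α := C))
      (Nat.card_pos (α := ↥(C ⊓ N)))) ?_
    rw [inf_comm] at h3
    calc Nat.card C * Nat.card ↥(C ⊓ N) * C.relIndex N = Nat.card C * Nat.card N := by
          rw [← h3]; ring
      _ = Nat.card ↥(C ⊔ N) * Nat.card ↥(C ⊓ N) := h1.symm
      _ = Nat.card C * Nat.card ↥(C ⊓ N) * C.relIndex (C ⊔ N) := by rw [← h2]; ring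
  rw [e, ← relIndex_mul_index (le_sup_left : C ≤ C ⊔ N)]
  exact dvd_mul_right _ _

/-- involutions whose conjugates commute generate an elementary abelian normal 2-subgroup -/
theorem normalClosure_elementary {y : G} (hy : y * y = 1)
    (hc : ∀ g : G, Commute y (g * y * g⁻¹)) {n : G} (hn : n ∈ normalClosure {y}) :
    (∀ m ∈ normalClosure {y}, Commute n m) ∧ n * n = 1 := by
  have hgen : ∀ n ∈ normalClosure {y}, ∀ g : G, Commute n (g * y * g⁻¹) := by
    intro n hn
    induction hn using closure_induction with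
    | mem t ht =>
      intro g
      obtain ⟨c, rfl, hk⟩ := Group.mem_conjugatesOfSet_iff.1 ht
      obtain ⟨k, rfl⟩ := isConj_iff.1 hk
      have e := (hc (k⁻¹ * g)).map (MulAut.conj k).toMonoidHom
      simp only [MulEquiv.coe_toMonoidHom, MulAut.conj_apply] at e
      rwa [show k * (k⁻¹ * g * c * (k⁻¹ * g)⁻¹) * k⁻¹ = g * c * g⁻¹ by group] at e
    | one => intro g; exact Commute.one_left _
    | mul a b _ _ ha hb => intro g; exact (ha g).mul_left (hb g)
    | inv a _ ha => intro g; exact (ha g).inv_left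
  refine ⟨fun m hm => ?_, ?_⟩
  · induction hm using closure_induction with
    | mem t ht =>
      obtain ⟨c, rfl, hk⟩ := Group.mem_conjugatesOfSet_iff.1 ht
      obtain ⟨k, rfl⟩ := isConj_iff.1 hk
      exact hgen n hn k
    | one => exact Commute.one_right _
    | mul a b _ _ ha hb => exact ha.mul_right hb
    | inv a _ ha => exact ha.inv_right
  · induction hn using closure_induction with
    | mem t ht =>
      obtain ⟨c, rfl, hk⟩ := Group.mem_conjugatesOfSet_iff.1 ht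
      obtain ⟨k, rfl⟩ := isConj_iff.1 hk
      rw [show k * c * k⁻¹ * (k * c * k⁻¹) = k * (c * c) * k⁻¹ by group, hy, mul_one, mul_inv_cancel]
    | one => exact one_mul _
    | mul a b ha' hb' ha hb =>
      have : Commute a b := by
        clear ha hb
        induction hb' using closure_induction with
        | mem t ht =>
          obtain ⟨c, rfl, hk⟩ := Group.mem_conjugatesOfSet_iff.1 ht
          obtain ⟨k, rfl⟩ := isConj_iff.1 hk
          exact hgen a ha' k
        | one => exact Commute.one_right _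
        | mul c d _ _ hc hd => exact hc.mul_right hd
        | inv c _ hc => exact hc.inv_right
      rw [this.symm.mul_mul_mul_comm, ha, hb, one_mul]
    | inv a _ ha => rw [← mul_inv_rev, ha, inv_one]

theorem mem_pCore_of_commute_conj {y : G} (hy : y * y = 1)
    (hc : ∀ g : G, Commute y (g * y * g⁻¹)) : y ∈ Cfsg.pCore 2 G := by
  refine Grp.le_pCore normalClosure_normal ?_ (subset_normalClosure (Set.mem_singleton y))
  intro n
  exact ⟨1, Subtype.ext (by rw [pow_one, coe_pow, pow_two]; exact (normalClosure_elementary hy hc n.2).2)⟩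

variable {P : ℕ → Prop} (h : Disc P G)
include h

/-- an odd-side involution central modulo the odd core forces solvability -/
theorem solvable_of_mem_ZS {y : G} (hy : Yset P y) (hz : y ∈ ZS G) : Group.IsSolvable G := by
  haveI : (Cfsg.pPrimeCore 2 G).Normal := Grp.pPrimeCore_isNormal
  have key : ∀ g : G, ∃ m ∈ Cfsg.pPrimeCore 2 G, ∃ c ∈ centralizer ({y} : Set G), g = m * c := by
    intro g
    set n := g * y * g⁻¹ * y⁻¹ with hn
    have hyi : y⁻¹ = y := inv_eq_of_mul_eq_one_right hy.1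
    have hny : y * n * y⁻¹ = n⁻¹ := by
      rw [hn, hyi, mul_inv_rev, conj_inv, hyi,
        show y * (g * y * g⁻¹ * y) * y = y * (g * y * g⁻¹) * (y * y) by group, hy.1, mul_one]
    obtain ⟨j, hj⟩ := Odd.of_dvd_nat odd_core
      ((Cfsg.pPrimeCore 2 G).orderOf_dvd_natCard (hz g))
    set m := n ^ (j + 1) with hm
    have hm2 : m * m = n := by
      rw [hm, ← pow_add, show j + 1 + (j + 1) = (2 * j + 1) + 1 by ring, pow_succ, ← hj,
        pow_orderOf_eq_one, one_mul]
    have hmy : y * m * y⁻¹ = m⁻¹ := by rw [hm, ← conj_pow, hny, inv_pow]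
    refine ⟨m, pow_mem (hz g) _, m⁻¹ * g, mem_cent_of_conj_eq ?_, by group⟩
    rw [show m⁻¹ * g * y * (m⁻¹ * g)⁻¹ = m⁻¹ * n * (y * m * y⁻¹) * y by rw [hn]; group, hmy, ← hm2]
    group
  set O := Cfsg.pPrimeCore 2 G
  haveI : Group.IsSolvable O := Cfsg.Agent.S0205.result odd_core
  haveI := hy.solvable_centralizer h
  haveI : Group.IsSolvable (G ⧸ O) := Group.isSolvable_of_surjective
    (f := (QuotientGroup.mk' O).comp (centralizer ({y} : Set G)).subtype) fun q => by
      obtain ⟨g, rfl⟩ := QuotientGroup.mk'_surjective O q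
      obtain ⟨m, hm, c, hc, rfl⟩ := key g
      exact ⟨⟨c, hc⟩, by
        simp [show (QuotientGroup.mk m : G ⧸ O) = 1 from (QuotientGroup.eq_one_iff m).2 hm]⟩
  exact Group.isSolvable_of_ker_le_range O.subtype (QuotientGroup.mk' O)
    (by rw [QuotientGroup.ker_mk', range_subtype])

/-- a real element commuting with `y ∉ O₂(G)` is on the odd side or central modulo the odd core -/
theorem real_commute {x y : G} (hy : Yset P y) (hyO : y ∉ Cfsg.pCore 2 G) (hx : Real x)
    (hc : Commute x y) : Yset P x ∨ x ∈ ZS G := by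
  rcases off_or_Yset h hx with ho | hY
  · refine Or.inr ?_
    rcases mul_dichotomy h hx ho hy hc with ⟨-, hd⟩ | ⟨-, hd⟩
    · exfalso
      have h1 : (centralizer ({y} : Set G)).relIndex (comG y) ∣ Nat.card (comG y) :=
        relIndex_dvd_card _ _
      have h2 := relIndex_dvd_index_right (centralizer ({y} : Set G)) (comG y)
      have hle : comG y ≤ centralizer ({y} : Set G) := relIndex_eq_one.1
        (Nat.eq_one_of_dvd_coprimes (coprime_off h ho hy) (h1.trans hd) h2)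
      refine hyO (mem_pCore_of_commute_conj hy.1 fun g => ?_)
      have hm : Commute (g * y * g⁻¹ * y⁻¹) y :=
        mem_cent.1 (hle (subset_normalClosure ⟨g, rfl⟩))
      have := hm.mul_left (Commute.refl y)
      rw [inv_mul_cancel_right] at this
      exact this.symm
    · intro g
      refine Grp.le_pPrimeCore normalClosure_normal (Nat.coprime_two_right.2 ?_)
        (subset_normalClosure (s := {c | ∃ g : G, c = g * x * g⁻¹ * x⁻¹}) ⟨g, rfl⟩)
      exact Nat.odd_iff.2 (Nat.two_dvd_ne_zero.1 fun h2 => hy.two_not_dvd h (h2.trans hd))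
  · exact Or.inl hY

/-- real 2-elements commuting with `y` are involutions -/
theorem sq_eq_one_of_real {x y : G} (hy : Yset P y) (hyO : y ∉ Cfsg.pCore 2 G) (hx : Real x)
    (hc : Commute x y) {a : ℕ} (ha : x ^ 2 ^ a = 1) : x * x = 1 := by
  rcases real_commute h hy hyO hx hc with hY | hZ
  · exact hY.1
  · obtain ⟨g, hg⟩ := hx
    have h1 := hZ g
    rw [hg, ← mul_inv_rev] at h1
    refine eq_one_of_core (inv_mem_iff.1 h1) (a := a) ?_
    rw [(Commute.refl x).mul_pow, ha, one_mul]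

theorem commute_of_sq_one {y u v : G} (hy : Yset P y) (hyO : y ∉ Cfsg.pCore 2 G)
    (hu : u * u = 1) (huc : Commute u y) (hv : v * v = 1) (hvc : Commute v y) : Commute u v := by
  obtain ⟨S, -, hS, -⟩ := hy.exists_sylow h
  have h2 : ∀ w : G, w * w = 1 → Commute w y → w ∈ (S : Subgroup G) := fun w hw hc =>
    hS w (mem_cent.2 hc) ⟨1, by rw [pow_one, pow_two, hw]⟩
  obtain ⟨a, ha⟩ := S.isPGroup' ⟨u * v, mul_mem (h2 u hu huc) (h2 v hv hvc)⟩
  have hui : u⁻¹ = u := inv_eq_of_mul_eq_one_right hu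
  have hvi : v⁻¹ = v := inv_eq_of_mul_eq_one_right hv
  have hreal : Real (u * v) := ⟨u, by rw [mul_inv_rev, hui, hvi, ← mul_assoc u u v, hu, one_mul]⟩
  have := sq_eq_one_of_real h hy hyO hreal (huc.mul_left hvc) (congrArg Subtype.val ha)
  show u * v = v * u
  rw [eq_inv_of_mul_eq_one_left this, mul_inv_rev, hui, hvi]

/-- the involutions of `C(y)`, with `1` -/
def ASub {y : G} (hy : Yset P y) (hyO : y ∉ Cfsg.pCore 2 G) : Subgroup G where
  carrier := {u | u * u = 1 ∧ Commute u y}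
  one_mem' := ⟨one_mul 1, Commute.one_left y⟩
  mul_mem' {u v} hu hv :=
    ⟨by rw [(commute_of_sq_one h hy hyO hu.1 hu.2 hv.1 hv.2).symm.mul_mul_mul_comm, hu.1, hv.1,
      one_mul], hu.2.mul_left hv.2⟩
  inv_mem' {u} hu := ⟨by rw [← mul_inv_rev, hu.1, inv_one], hu.2.inv_left⟩

theorem mem_ASub_iff {y : G} (hy : Yset P y) (hyO : y ∉ Cfsg.pCore 2 G) {u : G} :
    u ∈ ASub h hy hyO ↔ u * u = 1 ∧ Commute u y := Iff.rfl

theorem solvable_of_not_mem_core (hall : ∀ y : G, Yset P y → y ∉ Cfsg.pCore 2 G) :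
    Group.IsSolvable G := by
  classical
  haveI : Fact (Nat.Prime 2) := ⟨Nat.prime_two⟩
  haveI : (Cfsg.pPrimeCore 2 G).Normal := Grp.pPrimeCore_isNormal
  by_cases hdone : ∃ y : G, Yset P y ∧ y ∈ ZS G
  · obtain ⟨y, hy, hz⟩ := hdone
    exact solvable_of_mem_ZS h hy hz
  push Not at hdone
  by_contra _hG
  obtain ⟨y, hy⟩ := exists_Yset h
  set A := ASub h hy (hall y hy) with hA
  have hyA : y ∈ A := ⟨hy.1, Commute.refl y⟩
  have hsame : ∀ u ∈ A, Yset P u → ∀ v, v ∈ A ↔ v * v = 1 ∧ Commute v u := by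
    intro u hu hY v
    exact ⟨fun hv => ⟨hv.1, commute_of_sq_one h hy (hall y hy) hv.1 hv.2 hu.1 hu.2⟩,
      fun hv => ⟨hv.1, commute_of_sq_one h hY (hall u hY) hv.1 hv.2 hy.1 hu.2.symm⟩⟩
  set M := normalizer (A : Set G)
  have hAtwo : IsPGroup 2 A := fun u => ⟨1, Subtype.ext (by rw [coe_pow, pow_one, pow_two]; exact u.2.1)⟩
  have hCM : centralizer ({y} : Set G) ≤ M := by
    intro g hg
    have hg' := conj_eq_of_mem_cent hg
    rw [mem_normalizer_iff]
    intro u
    show u ∈ A ↔ g * u * g⁻¹ ∈ A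
    simp only [hA, mem_ASub_iff]
    refine and_congr ?_ ?_
    · rw [show g * u * g⁻¹ * (g * u * g⁻¹) = g * (u * u) * g⁻¹ by group, conj_eq_one_iff]
    · conv_rhs => rw [← hg']
      exact (Commute.conj_iff g).symm
  obtain ⟨S, hSC, hS, -⟩ := hy.exists_sylow h
  have hyS : y ∈ (S : Subgroup G) :=
    hS y (mem_cent.2 rfl) ⟨1, by rw [pow_one, pow_two, hy.1]⟩
  have hSA : ∀ s ∈ (S : Subgroup G), s * s = 1 → s ∈ A :=
    fun s hs h1 => ⟨h1, mem_cent.1 (hSC hs)⟩
  -- 2-elements of `M`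
  have hMtwo : ∀ g ∈ M, (∃ a : ℕ, g ^ 2 ^ a = 1) → ∃ w ∈ M, w⁻¹ * g * w ∈ (S : Subgroup G) := by
    rintro g hg ⟨a, ha⟩
    obtain ⟨Q, hQ⟩ := (isPGroup_zpowers (g := (⟨g, hg⟩ : M)) (a := a)
      (Subtype.ext (by simpa using ha))).exists_le_sylow
    obtain ⟨w, hw⟩ := MulAction.exists_smul_eq M (S.subtype (hSC.trans hCM)) Q
    have hgQ : (⟨g, hg⟩ : M) ∈ (w • S.subtype (hSC.trans hCM) : Sylow 2 M) := by
      rw [hw]; exact hQ (mem_zpowers _)
    have := Subgroup.mem_pointwise_smul_iff_inv_smul_mem.1 hgQ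
    refine ⟨w, w.2, ?_⟩
    simpa [MulAut.smul_def, Subgroup.mem_subgroupOf] using this
  have hMinv : ∀ t ∈ M, t * t = 1 → t ∈ A := by
    intro t ht h1
    obtain ⟨w, hw, hwS⟩ := hMtwo t ht ⟨1, by rw [pow_one, pow_two, h1]⟩
    have := hSA _ hwS (by rw [show w⁻¹ * t * w * (w⁻¹ * t * w) = w⁻¹ * (t * t) * w by group, h1,
      mul_one, inv_mul_cancel])
    have := (mem_normalizer_iff.1 hw _).1 this
    rwa [show w * (w⁻¹ * t * w) * w⁻¹ = t by group] at this
  have hMreal : ∀ m ∈ M, Real m → (∃ a : ℕ, m ^ 2 ^ a = 1) → m * m = 1 := by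
    rintro m hm hr ⟨a, ha⟩
    obtain ⟨w, -, hwS⟩ := hMtwo m hm ⟨a, ha⟩
    have h1 := sq_eq_one_of_real h hy (hall y hy) (x := w⁻¹ * m * w) (by
        have := real_conj hr w⁻¹
        rwa [inv_inv] at this) (mem_cent.1 (hSC hwS)) (a := a) (by
        rw [show w⁻¹ * m * w = w⁻¹ * m * (w⁻¹)⁻¹ by rw [inv_inv], conj_pow, ha, mul_one,
          mul_inv_cancel])
    rwa [show w⁻¹ * m * w * (w⁻¹ * m * w) = w⁻¹ * (m * m) * (w⁻¹)⁻¹ by group, conj_eq_one_iff] at h1
  -- `M` holds no real element of odd prime order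
  have hMnoreal : ∀ m ∈ M, ∀ p : ℕ, p.Prime → p ≠ 2 → orderOf m = p → ¬ Real m := by
    intro m hm p hp hp2 hord hr
    have hne : m ≠ 1 := fun e => by rw [e, orderOf_one] at hord; exact hp.ne_one hord.symm
    have hodd : Odd (orderOf m) := hord ▸ hp.odd_of_ne_two hp2
    have hoff := off_of_sq_ne_one h hr (sq_ne_one_of_odd hne hodd)
    have hmK : m ∈ M.normalCore := by
      intro g
      obtain ⟨a, ha, b, hb, e⟩ := exists_factor h hoff hy g⁻¹
      have e' : g = b⁻¹ * a⁻¹ := by rw [← mul_inv_rev, ← e, inv_inv]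
      rw [e', show b⁻¹ * a⁻¹ * m * (b⁻¹ * a⁻¹)⁻¹ = b⁻¹ * (a⁻¹ * m * (a⁻¹)⁻¹) * b by group,
        conj_eq_of_mem_cent (inv_mem ha)]
      exact mul_mem (mul_mem (inv_mem (hCM hb)) hm) (hCM hb)
    set z := m * y * m⁻¹ * y⁻¹ with hz
    have hzA : z ∈ A := mul_mem ((mem_normalizer_iff.1 hm y).1 hyA) (inv_mem hyA)
    have hzK : z ∈ M.normalCore := by
      rw [hz, mul_assoc, mul_assoc, ← mul_assoc y]
      exact mul_mem hmK ((normalCore_normal M).conj_mem _ (inv_mem hmK) y)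
    have hzZ : z ∈ ZS G := by
      rcases real_commute h hy (hall y hy) (real_of_sq_one hzA.1) hzA.2 with hY | hZ
      · exfalso
        refine hall y hy (Grp.le_pCore (N := A) ⟨fun u hu g => ?_⟩ hAtwo hyA)
        have h1 : g⁻¹ * z * g ∈ A := by
          have hcz := (normalCore_normal M).conj_mem _ hzK g⁻¹
          rw [inv_inv] at hcz
          exact hMinv _ (normalCore_le M hcz)
            (by rw [show g⁻¹ * z * g * (g⁻¹ * z * g) = g⁻¹ * (z * z) * g by group, hY.1, mul_one,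
              inv_mul_cancel])
        have hY' : Yset P (g⁻¹ * z * g) := by
          have := hY.conj h g⁻¹
          rwa [inv_inv] at this
        have h2 := ((hsame _ h1 hY' u).1 hu).2
        rw [hsame z hzA hY]
        refine ⟨by rw [show g * u * g⁻¹ * (g * u * g⁻¹) = g * (u * u) * g⁻¹ by group, hu.1, mul_one,
          mul_inv_cancel], ?_⟩
        have := (Commute.conj_iff g).2 h2
        rwa [show g * (g⁻¹ * z * g) * g⁻¹ = z by group] at this
      · exact hZ
    have hmz : m * z * m⁻¹ = z := by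
      have hA' : m * z * m⁻¹ * z⁻¹ ∈ A := mul_mem ((mem_normalizer_iff.1 hm z).1 hzA) (inv_mem hzA)
      exact mul_inv_eq_one.1 (eq_one_of_core (hzZ m) (a := 1)
        (by rw [pow_one, pow_two]; exact hA'.1))
    have hit : ∀ i : ℕ, m ^ i * y * (m ^ i)⁻¹ = z ^ i * y := by
      intro i
      induction i with
      | zero => simp
      | succ i ih =>
        rw [pow_succ', show m * m ^ i * y * (m * m ^ i)⁻¹ = m * (m ^ i * y * (m ^ i)⁻¹) * m⁻¹ by group,
          ih, show m * (z ^ i * y) * m⁻¹ = (m * z ^ i * m⁻¹) * (m * y * m⁻¹) by group, ← conj_pow, hmz,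
          show m * y * m⁻¹ = z * y by rw [hz]; group, ← mul_assoc, ← pow_succ]
    have h1 := hit p
    rw [← hord, pow_orderOf_eq_one, one_mul, inv_one, mul_one, hord] at h1
    have hzp : z ^ p = 1 := mul_right_cancel (by rw [← h1, one_mul] : z ^ p * y = 1 * y)
    obtain ⟨i, hi⟩ := hp.odd_of_ne_two hp2
    rw [hi, pow_succ, pow_mul, pow_two, hzA.1, one_pow, one_mul] at hzp
    refine hy.odd_real_not_commute h hr hodd hne (mul_inv_eq_iff_eq_mul.1 (mul_inv_eq_one.1 ?_))
    rw [← hzp, hz]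
  -- counting
  have hne : M ≠ ⊤ := fun e =>
    hall y hy (Grp.le_pCore (N := A) (normalizer_eq_top_iff.1 e) hAtwo hyA)
  set J := {u : G // u ∈ A ∧ Yset P u}
  set C0 := {u : G // u ∈ A ∧ u ∈ ZS G}
  set Ys := {t : G // Yset P t}
  have hlow : M.index * Nat.card J ≤ Nat.card Ys := by
    rw [index_eq_card, ← Nat.card_prod]
    refine Nat.card_le_card_of_injective
      (fun q => ⟨q.1.out * q.2.1 * q.1.out⁻¹, q.2.2.2.conj h _⟩) fun ⟨q, u⟩ ⟨q', u'⟩ e => ?_
    have e' : q.out * u.1 * q.out⁻¹ = q'.out * u'.1 * q'.out⁻¹ := congrArg Subtype.val e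
    have hq : q'.out⁻¹ * q.out ∈ M := by
      set g := q'.out⁻¹ * q.out with hg
      have hgu : g * u.1 * g⁻¹ = u'.1 := by
        rw [hg, show q'.out⁻¹ * q.out * u.1 * (q'.out⁻¹ * q.out)⁻¹ =
          q'.out⁻¹ * (q.out * u.1 * q.out⁻¹) * q'.out by group, e']
        group
      rw [mem_normalizer_iff]
      intro v
      show v ∈ A ↔ g * v * g⁻¹ ∈ A
      rw [hsame _ u.2.1 u.2.2, hsame _ u'.2.1 u'.2.2]
      refine and_congr ?_ ?_
      · rw [show g * v * g⁻¹ * (g * v * g⁻¹) = g * (v * v) * g⁻¹ by group, conj_eq_one_iff]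
      · rw [← hgu]; exact (Commute.conj_iff g).symm
    have hqq : q = q' := by
      rw [← q.out_eq', ← q'.out_eq']
      exact (QuotientGroup.eq.2 hq).symm
    subst hqq
    exact Prod.ext rfl (Subtype.ext (mul_left_cancel (mul_right_cancel e')))
  have hup : Nat.card Ys ≤ Nat.card J + (M.index - 1) * Nat.card C0 := by
    have hQ : Nat.card {q : G ⧸ M // q ≠ ((1 : G) : G ⧸ M)} = M.index - 1 := by
      rw [index_eq_card]
      haveI := Fintype.ofFinite (G ⧸ M)
      rw [Nat.card_eq_fintype_card, Nat.card_eq_fintype_card, Fintype.card_subtype_compl,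
        Fintype.card_subtype_eq]
    have hpick : ∀ t : Ys, t.1 ∉ A → ∀ t' : Ys, t'.1 ∉ A →
        (t.1 : G ⧸ M) = (t'.1 : G ⧸ M) → t.1⁻¹ * t'.1 ∈ A ∧ t.1⁻¹ * t'.1 ∈ ZS G := by
      intro t htA t' _ e
      set m := t.1⁻¹ * t'.1 with hm
      have hmM : m ∈ M := QuotientGroup.eq.1 e
      have hti : t.1⁻¹ = t.1 := inv_eq_of_mul_eq_one_right t.2.1
      have hinv : t.1 * m * t.1⁻¹ = m⁻¹ := by
        rw [hm, mul_inv_rev, inv_inv, hti, inv_eq_of_mul_eq_one_right t'.2.1, ← mul_assoc, t.2.1,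
          one_mul]
      obtain ⟨k, r, hr, hkr⟩ := Nat.exists_eq_two_pow_mul_odd (orderOf_pos m).ne'
      have hr1 : r = 1 := by
        by_contra hr1
        obtain ⟨p, hp, hd⟩ := Nat.exists_prime_and_dvd hr1
        have hd' : p ∣ orderOf m := hkr ▸ hd.mul_left _
        have hdiv : orderOf m / p ≠ 0 :=
          (Nat.div_pos (Nat.le_of_dvd (orderOf_pos m) hd') hp.pos).ne'
        refine hMnoreal _ (pow_mem hmM (orderOf m / p)) p hp ?_ ?_ (Real.pow ⟨t.1, hinv⟩ _)
        · rintro rfl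
          exact (Nat.not_even_iff_odd.2 hr) (even_iff_two_dvd.2 hd)
        · rw [orderOf_pow_of_dvd hdiv (Nat.div_dvd_of_dvd hd'), Nat.div_div_self hd' (orderOf_pos m).ne']
      have hm1 : m * m = 1 := hMreal m hmM ⟨t.1, hinv⟩
        ⟨k, by rw [show 2 ^ k = orderOf m by rw [hkr, hr1, mul_one], pow_orderOf_eq_one]⟩
      have hmA := hMinv m hmM hm1
      refine ⟨hmA, ?_⟩
      have hcomm : Commute m t.1 := by
        rw [inv_eq_of_mul_eq_one_right hm1] at hinv
        exact (mul_inv_eq_iff_eq_mul.1 hinv).symm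
      rcases real_commute h hy (hall y hy) (real_of_sq_one hm1) hmA.2 with hY | hZ
      · exact absurd ((hsame m hmA hY t.1).2 ⟨t.2.1, hcomm.symm⟩) htA
      · exact hZ
    haveI : Nonempty C0 := ⟨⟨1, A.one_mem, fun g => by simp⟩⟩
    haveI : DecidablePred fun t : Ys => t.1 ∈ A := fun _ => Classical.dec _
    rw [← Nat.card_congr (Equiv.sumCompl (fun t : Ys => t.1 ∈ A)), Nat.card_sum, ← hQ]
    refine Nat.add_le_add (le_of_eq (Nat.card_congr
      ⟨fun t => ⟨t.1.1, t.2, t.1.2⟩, fun u => ⟨⟨u.1, u.2.2⟩, u.2.1⟩, fun _ => rfl, fun _ => rfl⟩)) ?_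
    rw [← Nat.card_prod]
    have hq : ∀ t : Ys, t.1 ∉ A → (t.1 : G ⧸ M) ≠ ((1 : G) : G ⧸ M) := fun t ht e => ht
      (hMinv _ (by simpa using QuotientGroup.eq.1 e.symm) t.2.1)
    have hrep : ∀ q : G ⧸ M, ∀ t : Ys, t.1 ∉ A → (t.1 : G ⧸ M) = q →
        ∃ t0 : Ys, t0.1 ∉ A ∧ (t0.1 : G ⧸ M) = q := fun q t ht e => ⟨t, ht, e⟩
    let rep : {t : Ys // t.1 ∉ A} → {t : Ys // t.1 ∉ A} := fun t =>
      ⟨(hrep _ t.1 t.2 rfl).choose, (hrep _ t.1 t.2 rfl).choose_spec.1⟩
    have hrepq : ∀ t, ((rep t).1.1 : G ⧸ M) = (t.1.1 : G ⧸ M) := fun t =>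
      (hrep _ t.1 t.2 rfl).choose_spec.2
    refine Nat.card_le_card_of_injective
      (fun t => (⟨(t.1.1 : G ⧸ M), hq t.1 t.2⟩,
        ⟨(rep t).1.1⁻¹ * t.1.1, hpick (rep t).1 (rep t).2 t.1 t.2 (hrepq t)⟩)) ?_
    intro t t' e
    have e1 : (t.1.1 : G ⧸ M) = (t'.1.1 : G ⧸ M) := congrArg Subtype.val (congrArg Prod.fst e)
    have e2 : (rep t).1.1⁻¹ * t.1.1 = (rep t').1.1⁻¹ * t'.1.1 :=
      congrArg Subtype.val (congrArg Prod.snd e)
    have e3 : (rep t).1.1 = (rep t').1.1 := by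
      simp only [rep]
      congr 2
      simp only [e1]
    rw [e3] at e2
    exact Subtype.ext (Subtype.ext (mul_left_cancel e2))
  have hJC : Nat.card J ≤ Nat.card C0 := by
    have h2 : 2 ≤ M.index := by
      have := one_lt_index_of_ne_top hne
      omega
    obtain ⟨n, hn⟩ := Nat.exists_eq_add_of_le h2
    rw [hn] at hlow hup
    rw [show 2 + n - 1 = n + 1 by omega] at hup
    refine Nat.le_of_mul_le_mul_left ?_ (Nat.succ_pos n)
    have := hlow.trans hup
    linarith [this, (by ring : (2 + n) * Nat.card J = (n + 1) * Nat.card J + Nat.card J)]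
  -- `A` is the union of two cosets of its part central modulo the core
  have hC0mul : ∀ v : C0, y * v.1 ∈ A ∧ y * v.1 ∉ ZS G := by
    refine fun v => ⟨mul_mem hyA v.2.1, fun hZ => hdone y hy fun g => ?_⟩
    have := mul_mem (hZ g) (Grp.pPrimeCore_isNormal.conj_mem _ (inv_mem (v.2.2 g)) y)
    rwa [show g * (y * v.1) * g⁻¹ * (y * v.1)⁻¹ *
      (y * (g * v.1 * g⁻¹ * v.1⁻¹)⁻¹ * y⁻¹) = g * y * g⁻¹ * y⁻¹ by group] at this
  have hcover : ∀ u ∈ A, Yset P u → ∃ v : C0, u = y * v.1 := by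
    have key : ∀ v : C0, Yset P (y * v.1) := fun v => by
      rcases real_commute h hy (hall y hy) (real_of_sq_one (hC0mul v).1.1) (hC0mul v).1.2 with hY | hZ
      · exact hY
      · exact absurd hZ (hC0mul v).2
    let f : C0 → J := fun v => ⟨y * v.1, (hC0mul v).1, key v⟩
    have hf : Function.Injective f := fun a b e =>
      Subtype.ext (mul_left_cancel (congrArg Subtype.val e))
    have hbij := (Nat.bijective_iff_injective_and_card f).2
      ⟨hf, le_antisymm (Nat.card_le_card_of_injective f hf) hJC⟩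
    intro u hu hY
    obtain ⟨v, hv⟩ := hbij.2 ⟨u, hu, hY⟩
    exact ⟨v, (congrArg Subtype.val hv).symm⟩
  -- `y` is isolated in `S`
  have hiso : ∀ g : G, g * y * g⁻¹ ∈ (S : Subgroup G) → g * y * g⁻¹ = y := by
    intro g hg
    have hY := hy.conj h g
    have hgA := hSA _ hg hY.1
    have hgM : g ∈ M := by
      rw [mem_normalizer_iff]
      intro v
      show v ∈ A ↔ g * v * g⁻¹ ∈ A
      rw [hsame _ hyA hy, hsame _ hgA hY]
      refine and_congr ?_ (Commute.conj_iff g).symm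
      rw [show g * v * g⁻¹ * (g * v * g⁻¹) = g * (v * v) * g⁻¹ by group, conj_eq_one_iff]
    obtain ⟨z, hz⟩ := hcover _ hgA hY
    have hgz : ∀ g' ∈ M, g' * z.1 * g'⁻¹ = z.1 := fun g' hg' =>
      mul_inv_eq_one.1 (eq_one_of_core (z.2.2 g') (a := 1) (by
        rw [pow_one, pow_two]
        exact (mul_mem ((mem_normalizer_iff.1 hg' _).1 z.2.1) (inv_mem z.2.1)).1))
    have hit : ∀ i : ℕ, g ^ i * y * (g ^ i)⁻¹ = y * z.1 ^ i := by
      intro i
      induction i with
      | zero => simp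
      | succ i ih =>
        rw [pow_succ', show g * g ^ i * y * (g * g ^ i)⁻¹ = g * (g ^ i * y * (g ^ i)⁻¹) * g⁻¹ by group,
          ih, show g * (y * z.1 ^ i) * g⁻¹ = (g * y * g⁻¹) * (g * z.1 ^ i * g⁻¹) by group, hz,
          ← conj_pow, hgz g hgM, mul_assoc, ← pow_succ']
    obtain ⟨m, a, hm, ha⟩ := exists_two_part g
    obtain ⟨w, hw, hwS⟩ := hMtwo _ (pow_mem hgM m) ⟨a, ha⟩
    have hc : Commute (g ^ m) (w * y * w⁻¹) := by
      have := (Commute.conj_iff w).2 (mem_cent.1 (hSC hwS) : Commute (w⁻¹ * g ^ m * w) y)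
      rwa [show w * (w⁻¹ * g ^ m * w) * w⁻¹ = g ^ m by group] at this
    obtain ⟨z2, hz2⟩ := hcover _ ((mem_normalizer_iff.1 hw y).1 hyA) (hy.conj h w)
    rw [hz2] at hc
    have hz2' : Commute (g ^ m) z2.1 := mul_inv_eq_iff_eq_mul.1
      (mul_inv_eq_one.1 (eq_one_of_core (z2.2.2 (g ^ m)) (a := 1) (by
        rw [pow_one, pow_two]
        exact (mul_mem ((mem_normalizer_iff.1 (pow_mem hgM m) _).1 z2.2.1) (inv_mem z2.2.1)).1)))
    have hcy : Commute (g ^ m) y := by
      have := hc.mul_right hz2'.inv_right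
      rwa [mul_inv_cancel_right] at this
    have h1 := hit m
    rw [hcy.eq, mul_inv_cancel_right] at h1
    have h2 : z.1 ^ m = 1 := left_eq_mul.1 h1
    obtain ⟨i, rfl⟩ := hm
    rw [pow_succ, pow_mul, pow_two, z.2.1.1, one_pow, one_mul] at h2
    rw [hz, h2, mul_one]
  obtain ⟨N, hN, hNodd, hNc⟩ := Cfsg.Agent.S0215.result S y (hy.order_two h) hyS hiso
  refine hdone y hy fun g => ?_
  have := inv_mem (hNc g)
  rw [show (y * g * y⁻¹ * g⁻¹)⁻¹ = g * y * g⁻¹ * y⁻¹ by group] at this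
  exact Grp.le_pPrimeCore hN (Nat.coprime_two_right.2 hNodd) this

end Cfsg.Agent.RealClassGraph
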