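import Cfsg.Agent.Lib.Block.RealClassGraph.Pigeon

/-!
The commutant of an element of primitive prime order: a field, regular on the nonzero vectors.
-/

set_option autoImplicit false
set_option linter.unusedSectionVars false
set_option linter.style.haveILetI false

open scoped Pointwise

namespace Cfsg.Agent.RealClassGraph

variable {X V : Type*} [Group X] [Finite X] [AddCommGroup V] [Finite V] [DistribMulAction X V]

/-- `c` has prime order, primitive for `2 ^ d - 1`, where `2 ^ d` is the size of the module -/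
structure Sing (X V : Type*) [Group X] [AddCommGroup V] [DistribMulAction X V] (c : X) (d r : ℕ) :
    Prop where
  two : ∀ v : V, v + v = 0
  faithful : ∀ x : X, (∀ v : V, x • v = v) → x = 1
  card : Nat.card V = 2 ^ d
  pos : 0 < d
  prime : r.Prime
  ne_two : r ≠ 2
  order : orderOf c = r
  prim : ∀ e : ℕ, r ∣ 2 ^ e - 1 → d ∣ e

theorem exists_card_eq (htwo : ∀ v : V, v + v = 0) (U : AddSubgroup V) :
    ∃ e : ℕ, Nat.card U = 2 ^ e := by
  haveI : Fact (Nat.Prime 2) := ⟨Nat.prime_two⟩
  have h : IsPGroup 2 (Multiplicative U) := fun a => ⟨1, by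
    rw [pow_one, pow_two]
    exact congrArg Multiplicative.ofAdd
      (Subtype.ext (htwo (Multiplicative.toAdd a).1) : Multiplicative.toAdd a + Multiplicative.toAdd a = 0)⟩
  obtain ⟨e, he⟩ := IsPGroup.iff_card.1 h
  exact ⟨e, (Nat.card_congr Multiplicative.ofAdd).trans he⟩

namespace Sing

variable {c : X} {d r : ℕ} (hs : Sing X V c d r)
include hs

theorem fix_eq_bot : Act.fix (U := V) c = ⊥ := by
  obtain ⟨f, hf⟩ := exists_card_eq hs.two (Act.fix (U := V) c)
  let S := {v : V // c • v ≠ v}
  letI : MulAction (Subgroup.zpowers c) S :=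
    { smul := fun g v => ⟨(g : X) • v.1, fun e => v.2 (by
        obtain ⟨j, hj⟩ := Subgroup.mem_zpowers_iff.1 g.2
        have hgc : (g : X) * c = c * g := hj ▸ ((Commute.refl c).zpow_left j).eq
        exact MulAction.injective (g : X) (((mul_smul (g : X) c v.1).symm.trans
          ((congrArg (fun a : X => a • v.1) hgc).trans (mul_smul c (g : X) v.1))).trans e))⟩
      one_smul := fun v => Subtype.ext (one_smul X v.1)
      mul_smul := fun g k v => Subtype.ext (mul_smul (g : X) (k : X) v.1) }
  have hd := Act.orderOf_dvd_card (⟨c, Subgroup.mem_zpowers c⟩ : Subgroup.zpowers c) (S := S)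
    fun j v e => by
      have e' : c ^ j • v.1 = v.1 := congrArg Subtype.val e
      by_contra hne
      have hcop : Nat.Coprime j (orderOf c) := by
        rw [hs.order]
        refine (hs.prime.coprime_iff_not_dvd.2 fun hd => hne ?_).symm
        obtain ⟨t, rfl⟩ := hd
        exact Subtype.ext (by
          show c ^ (r * t) = 1
          rw [pow_mul, ← hs.order, pow_orderOf_eq_one, one_pow])
      obtain ⟨m, hm⟩ := exists_pow_eq_self_of_coprime hcop
      have key : ∀ m : ℕ, (c ^ j) ^ m • v.1 = v.1 := by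
        intro m
        induction m with
        | zero => rw [pow_zero, one_smul]
        | succ m ih => rw [pow_succ, mul_smul, e', ih]
      exact v.2 ((congrArg (fun a : X => a • v.1) hm).symm.trans (key m))
  rw [Subgroup.orderOf_mk, hs.order] at hd
  have hcard : Nat.card S + 2 ^ f = 2 ^ d := by
    classical
    haveI := Fintype.ofFinite V
    rw [← hs.card, ← hf, Nat.card_eq_fintype_card, Nat.card_eq_fintype_card (α := V),
      Nat.card_eq_fintype_card]
    have := Fintype.card_subtype_compl (fun v : V => c • v = v)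
    have h2 : Fintype.card (Act.fix (U := V) c) = Fintype.card {v : V // c • v = v} :=
      Fintype.card_congr (Equiv.subtypeEquivRight fun _ => Act.mem_fix)
    have h3 := Fintype.card_subtype_le (fun v : V => c • v = v)
    rw [h2]
    show Fintype.card {v : V // ¬ c • v = v} + _ = _
    omega
  have hfd : f ≤ d := (Nat.pow_le_pow_iff_right (by norm_num : 1 < 2)).1 (by omega)
  have hd2 : r ∣ 2 ^ f * (2 ^ (d - f) - 1) := by
    rw [Nat.mul_sub, ← pow_add, Nat.add_sub_cancel' hfd, mul_one]
    rwa [show 2 ^ d - 2 ^ f = Nat.card S by omega]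
  have hd3 : r ∣ 2 ^ (d - f) - 1 :=
    (Nat.Coprime.pow_right f ((Nat.coprime_primes hs.prime Nat.prime_two).2 hs.ne_two)).dvd_of_dvd_mul_left hd2
  obtain ⟨t, ht⟩ := hs.prim _ hd3
  rcases Nat.eq_zero_or_pos t with rfl | htp
  · exfalso
    rw [mul_zero] at ht
    have hfd' : f = d := by omega
    have hS : IsEmpty S := Finite.card_eq_zero_iff.1 (by rw [hfd'] at hcard; omega)
    have := hs.faithful c fun v => by
      by_contra h
      exact hS.false ⟨v, h⟩
    exact hs.prime.ne_one (hs.order.symm.trans (by rw [this, orderOf_one]))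
  · have : f = 0 := by
      have := Nat.le_mul_of_pos_right d htp
      omega
    subst this
    exact AddSubgroup.eq_bot_of_card_eq _ (by rw [hf, pow_zero])

theorem irred {U : AddSubgroup V} (hU : ∀ u ∈ U, c • u ∈ U) : U = ⊥ ∨ U = ⊤ := by
  obtain ⟨e, he⟩ := exists_card_eq hs.two U
  rcases Nat.eq_zero_or_pos e with rfl | hpos
  · exact Or.inl (AddSubgroup.eq_bot_of_card_eq _ (by rw [he, pow_zero]))
  have hst : ∀ g ∈ Subgroup.zpowers c, ∀ u ∈ U, g • u ∈ U := fun g hg =>
    Act.stab_iff.1 (MulAction.mem_stabilizer_iff.1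
      (Subgroup.zpowers_le.2 (MulAction.mem_stabilizer_iff.2 (Act.stab_iff.2 hU)) hg))
  let S := {u : U // u ≠ 0}
  letI : MulAction (Subgroup.zpowers c) S :=
    { smul := fun g u => ⟨⟨(g : X) • (u.1 : V), hst g g.2 _ u.1.2⟩, fun h => u.2 (Subtype.ext (by
        exact MulAction.injective (g : X) ((congrArg Subtype.val h).trans (smul_zero (g : X)).symm)))⟩
      one_smul := fun v => Subtype.ext (Subtype.ext (one_smul X (v.1 : V)))
      mul_smul := fun g k v => Subtype.ext (Subtype.ext (mul_smul (g : X) (k : X) (v.1 : V))) }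
  have hd := Act.orderOf_dvd_card (⟨c, Subgroup.mem_zpowers c⟩ : Subgroup.zpowers c) (S := S)
    fun j v h => by
      have e' : c ^ j • (v.1 : V) = (v.1 : V) := congrArg (fun s : S => (s.1 : V)) h
      by_contra hne
      refine v.2 (Subtype.ext ?_)
      have hcop : Nat.Coprime j (orderOf c) := by
        rw [hs.order]
        refine (hs.prime.coprime_iff_not_dvd.2 fun hd => hne ?_).symm
        obtain ⟨t, rfl⟩ := hd
        exact Subtype.ext (by
          show c ^ (r * t) = 1
          rw [pow_mul, ← hs.order, pow_orderOf_eq_one, one_pow])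
      obtain ⟨m, hm⟩ := exists_pow_eq_self_of_coprime hcop
      have : c • (v.1 : V) = v.1 := by
        rw [← hm]
        clear hm
        induction m with
        | zero => rw [pow_zero, one_smul]
        | succ m ih => rw [pow_succ, mul_smul, e', ih]
      have h2 : (v.1 : V) ∈ (⊥ : AddSubgroup V) := hs.fix_eq_bot ▸ this
      exact AddSubgroup.mem_bot.1 h2
  rw [Subgroup.orderOf_mk, hs.order] at hd
  classical
  haveI := Fintype.ofFinite U
  rw [Nat.card_eq_fintype_card] at hd he
  rw [Fintype.card_subtype_compl, Fintype.card_subtype_eq, he] at hd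
  refine Or.inr (AddSubgroup.eq_top_of_card_eq _ (le_antisymm
    (Nat.card_le_card_of_injective _ U.subtype_injective) ?_))
  rw [hs.card, Nat.card_eq_fintype_card, he]
  exact Nat.pow_le_pow_right (by norm_num) (Nat.le_of_dvd hpos (hs.prim _ hd))

/-- the commutant -/
def comm (c : X) : Subring (AddMonoid.End V) :=
  Subring.centralizer {DistribMulAction.toAddMonoidEnd X V c}

omit hs in
theorem mem_comm {a : AddMonoid.End V} : a ∈ comm (V := V) c ↔ ∀ v : V, a (c • v) = c • a v := by
  rw [comm, Subring.mem_centralizer_iff]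
  constructor
  · intro h v
    exact (DFunLike.congr_fun (h _ rfl) v).symm
  · rintro h _ rfl
    exact DFunLike.ext _ _ fun v => (h v).symm

theorem eval_inj {v₀ : V} (hv₀ : v₀ ≠ 0) {a b : AddMonoid.End V} (ha : a ∈ comm c) (hb : b ∈ comm c)
    (h : a v₀ = b v₀) : a = b := by
  have hab := (comm (V := V) c).sub_mem ha hb
  rcases hs.irred (U := (a - b : V →+ V).ker) (fun u hu => by
      show (a - b) (c • u) = 0
      rw [mem_comm.1 hab u]
      show c • (a - b) u = 0
      rw [show (a - b) u = 0 from hu, smul_zero]) with h1 | h1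
  · exact absurd (AddSubgroup.mem_bot.1 (h1 ▸ (AddMonoidHom.mem_ker.2
      (show (a - b : V →+ V) v₀ = 0 from by
        show a v₀ - b v₀ = 0
        rw [h, sub_self])))) hv₀
  · exact DFunLike.ext _ _ fun v => sub_eq_zero.1 (AddMonoidHom.mem_ker.1
      (h1.symm ▸ AddSubgroup.mem_top v : v ∈ (a - b : V →+ V).ker))

theorem eval_surj {v₀ : V} (hv₀ : v₀ ≠ 0) (R : Subring (AddMonoid.End V))
    (hcR : DistribMulAction.toAddMonoidEnd X V c ∈ R) (v : V) : ∃ a ∈ R, a v₀ = v := by
  let φ : R →+ V :=
    { toFun := fun a => (a : AddMonoid.End V) v₀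
      map_zero' := rfl
      map_add' := fun _ _ => rfl }
  rcases hs.irred (U := φ.range) (by
    rintro _ ⟨a, rfl⟩
    exact ⟨⟨_, R.mul_mem hcR a.2⟩, rfl⟩) with h | h
  · exact absurd (AddSubgroup.mem_bot.1 (h ▸ (⟨⟨1, R.one_mem⟩, rfl⟩ : v₀ ∈ φ.range))) hv₀
  · obtain ⟨a, ha⟩ := (h.symm ▸ AddSubgroup.mem_top v : v ∈ φ.range)
    exact ⟨a, a.2, ha⟩

theorem comm_mul_comm {a b : AddMonoid.End V} (ha : a ∈ comm c) (hb : b ∈ comm c) :
    a * b = b * a := by
  obtain ⟨v₀, hv₀⟩ : ∃ v : V, v ≠ 0 := by
    by_contra hc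
    push Not at hc
    have : Nat.card V ≤ 1 :=
      Finite.card_le_one_iff_subsingleton.2 ⟨fun x y => by rw [hc x, hc y]⟩
    rw [hs.card] at this
    exact absurd (Nat.one_lt_two_pow hs.pos.ne') this.not_gt
  set cc := DistribMulAction.toAddMonoidEnd X V c
  have hcl : Subring.closure {cc} ≤ comm (V := V) c :=
    Subring.closure_le.2 (Set.singleton_subset_iff.2 (mem_comm.2 fun v => rfl))
  obtain ⟨b', hb', e⟩ := hs.eval_surj hv₀ (Subring.closure {cc})
    (Subring.subset_closure rfl) (b v₀)
  rw [← hs.eval_inj hv₀ (hcl hb') hb e]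
  have h1 : Subring.closure {cc} ≤ Subring.centralizer {a} := by
    refine Subring.closure_le.2 (Set.singleton_subset_iff.2 (Subring.mem_centralizer_iff.2 ?_))
    rintro _ rfl
    exact DFunLike.ext _ _ fun v => (mem_comm.1 ha v)
  exact (Subring.mem_centralizer_iff.1 (h1 hb') a rfl)

theorem centralizer_mem {x : X} (hx : x ∈ Subgroup.centralizer ({c} : Set X)) :
    DistribMulAction.toAddMonoidEnd X V x ∈ comm c := by
  refine mem_comm.2 fun v => ?_
  show x • c • v = c • x • v
  rw [← mul_smul, ← mul_smul, mem_cent.1 hx]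

/-- the centralizer of `c` acts semiregularly -/
theorem semiregular {x : X} (hx : x ∈ Subgroup.centralizer ({c} : Set X)) {v : V} (hv : v ≠ 0)
    (h : x • v = v) : x = 1 :=
  hs.faithful x fun w => DFunLike.congr_fun
    (hs.eval_inj hv (hs.centralizer_mem hx) (comm (V := V) c).one_mem h) w

theorem centralizer_card_dvd :
    Nat.card (Subgroup.centralizer ({c} : Set X)) ∣ 2 ^ d - 1 := by
  classical
  let S := {v : V // v ≠ 0}
  letI : MulAction (Subgroup.centralizer ({c} : Set X)) S :=
    { smul := fun g v => ⟨(g : X) • v.1,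
        fun h => v.2 (MulAction.injective (g : X) (h.trans (smul_zero (g : X)).symm))⟩
      one_smul := fun v => Subtype.ext (one_smul X v.1)
      mul_smul := fun g k v => Subtype.ext (mul_smul (g : X) (k : X) v.1) }
  have hfree : ∀ v : S, MulAction.stabilizer (Subgroup.centralizer ({c} : Set X)) v = ⊥ := fun v => by
    rw [eq_bot_iff]
    intro g hg
    exact Subtype.ext (hs.semiregular g.2 v.2 (congrArg Subtype.val hg))
  have h := Nat.card_congr (MulAction.selfEquivOrbitsQuotientProd hfree)
  haveI := Fintype.ofFinite V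
  rw [Nat.card_prod, Nat.card_eq_fintype_card, Fintype.card_subtype_compl, Fintype.card_subtype_eq,
    ← Nat.card_eq_fintype_card, hs.card] at h
  exact h ▸ dvd_mul_left _ _

theorem centralizer_cyclic : IsCyclic (Subgroup.centralizer ({c} : Set X)) := by
  obtain ⟨v₀, hv₀⟩ : ∃ v : V, v ≠ 0 := by
    by_contra hc
    push Not at hc
    exact hs.prime.ne_one (hs.order.symm.trans (orderOf_eq_one_iff.2
      (hs.faithful c fun v => by rw [hc v, smul_zero])))
  letI : CommRing (comm (V := V) c) := { (comm (V := V) c).toRing with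
    mul_comm := fun a b => Subtype.ext (hs.comm_mul_comm a.2 b.2) }
  haveI : Nontrivial (comm (V := V) c) :=
    ⟨⟨0, 1, fun e => hv₀ (DFunLike.congr_fun (congrArg Subtype.val e) v₀).symm⟩⟩
  haveI : NoZeroDivisors (comm (V := V) c) := ⟨fun {a b} hab => by
    by_cases hb : (b : AddMonoid.End V) v₀ = 0
    · exact Or.inr (Subtype.ext (hs.eval_inj hv₀ b.2 (comm (V := V) c).zero_mem hb))
    · exact Or.inl (Subtype.ext (hs.eval_inj hb a.2 (comm (V := V) c).zero_mem
        (DFunLike.congr_fun (congrArg Subtype.val hab) v₀)))⟩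
  haveI : IsDomain (comm (V := V) c) := NoZeroDivisors.to_isDomain _
  refine isCyclic_of_injective_ringHom (R := comm (V := V) c)
    { toFun := fun x => ⟨_, hs.centralizer_mem x.2⟩
      map_one' := Subtype.ext (DFunLike.ext _ _ fun v => one_smul X v)
      map_mul' := fun x y => Subtype.ext (DFunLike.ext _ _ fun v => mul_smul (x : X) (y : X) v) }
    fun x y h => Subtype.ext ?_
  refine (inv_mul_eq_one.1 (hs.faithful _ fun v => ?_)).symm
  rw [mul_smul, inv_smul_eq_iff]
  exact DFunLike.congr_fun (congrArg Subtype.val h) v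

/-- the field automorphism induced by an element normalising `⟨c⟩` and fixing a vector -/
theorem frobenius {g : X} (hg : g * c * g⁻¹ ∈ Subgroup.zpowers c) {v₀ : V} (hv₀ : v₀ ≠ 0)
    (hgv : g • v₀ = v₀) :
    Nat.card (Act.fix (U := V) g) ^ orderOf g = 2 ^ d ∧
      ∀ x ∈ Subgroup.centralizer ({c} : Set X),
        x ^ (Nat.card (Act.fix (U := V) g) - 1) = 1 → g * x * g⁻¹ = x := by
  classical
  set K := comm (V := V) c with hK
  letI : CommRing K := { K.toRing with mul_comm := fun a b => Subtype.ext (hs.comm_mul_comm a.2 b.2) }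
  haveI : Nontrivial K := ⟨⟨0, 1, fun e => hv₀ (DFunLike.congr_fun (congrArg Subtype.val e) v₀).symm⟩⟩
  haveI : NoZeroDivisors K := ⟨fun {a b} hab => by
    by_cases hb : (b : AddMonoid.End V) v₀ = 0
    · exact Or.inr (Subtype.ext (hs.eval_inj hv₀ b.2 K.zero_mem hb))
    · exact Or.inl (Subtype.ext (hs.eval_inj hb a.2 K.zero_mem
        (DFunLike.congr_fun (congrArg Subtype.val hab) v₀)))⟩
  haveI : IsDomain K := NoZeroDivisors.to_isDomain _
  haveI : Finite (AddMonoid.End V) := Finite.of_injective (fun f => (f : V → V)) DFunLike.coe_injective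
  letI : Field K := (Finite.isDomain_to_isField K).toField
  set ρ := DistribMulAction.toAddMonoidEnd X V
  have hgn : ∀ z ∈ Subgroup.zpowers g, z⁻¹ * c * z ∈ Subgroup.zpowers c := by
    intro z hz
    have h1 : g ∈ Subgroup.normalizer ((Subgroup.zpowers c : Subgroup X) : Set X) :=
      Subgroup.mem_normalizer_fintype fun n hn => by
        obtain ⟨j, rfl⟩ := Subgroup.mem_zpowers_iff.1 hn
        show g * c ^ j * g⁻¹ ∈ Subgroup.zpowers c
        rw [← conj_zpow]
        exact zpow_mem hg j
    have h2 := Subgroup.inv_mem _ (Subgroup.zpowers_le.2 h1 hz)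
    have h3 := (Subgroup.mem_normalizer_iff.1 h2 c).1 (Subgroup.mem_zpowers c)
    rwa [inv_inv] at h3
  have hmem : ∀ z ∈ Subgroup.zpowers g, ∀ a ∈ K, ρ z * a * ρ z⁻¹ ∈ K := by
    intro z hz a ha
    obtain ⟨j, hj⟩ := (mem_powers_iff_mem_zpowers.2 (hgn z hz) : z⁻¹ * c * z ∈ Submonoid.powers c)
    refine mem_comm.2 fun v => ?_
    have key : ∀ (m : ℕ) (w : V), a (c ^ m • w) = c ^ m • a w := by
      intro m
      induction m with
      | zero => intro w; simp
      | succ m ih => intro w; rw [pow_succ, mul_smul, ih, mem_comm.1 ha, ← mul_smul]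
    show z • a (z⁻¹ • c • v) = c • z • a (z⁻¹ • v)
    have hj' : c ^ j = z⁻¹ * c * z := hj
    rw [← mul_smul z⁻¹ c v, show z⁻¹ * c = c ^ j * z⁻¹ by rw [hj', mul_inv_cancel_right], mul_smul,
      key, ← mul_smul, ← mul_smul, hj']
    congr 1
    group
  have hρ : ∀ z : X, ρ z⁻¹ * ρ z = 1 := fun z => by rw [← map_mul, inv_mul_cancel, map_one]
  letI : MulSemiringAction (Subgroup.zpowers g) K :=
    { smul := fun z a => ⟨ρ z * a * ρ (z : X)⁻¹, hmem z z.2 a a.2⟩
      one_smul := fun a => Subtype.ext (by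
        show ρ ((1 : Subgroup.zpowers g) : X) * (a : AddMonoid.End V) * ρ _ = _
        simp)
      mul_smul := fun z w a => Subtype.ext (by
        show ρ ((z * w : Subgroup.zpowers g) : X) * (a : AddMonoid.End V) * ρ _ =
          ρ z * (ρ w * a * ρ (w : X)⁻¹) * ρ (z : X)⁻¹
        rw [Subgroup.coe_mul, mul_inv_rev, map_mul, map_mul]
        simp only [mul_assoc])
      smul_zero := fun z => Subtype.ext (by
        show ρ z * ((0 : K) : AddMonoid.End V) * ρ _ = ((0 : K) : AddMonoid.End V)
        simp)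
      smul_add := fun z a b => Subtype.ext (by
        show ρ z * ((a + b : K) : AddMonoid.End V) * ρ _ = _
        rw [Subring.coe_add, mul_add, add_mul]
        rfl)
      smul_one := fun z => Subtype.ext (by
        show ρ z * ((1 : K) : AddMonoid.End V) * ρ (z : X)⁻¹ = _
        rw [OneMemClass.coe_one, mul_one, ← map_mul, mul_inv_cancel, map_one])
      smul_mul := fun z a b => Subtype.ext (by
        show ρ z * ((a * b : K) : AddMonoid.End V) * ρ (z : X)⁻¹ =
          ρ z * a * ρ (z : X)⁻¹ * (ρ z * b * ρ (z : X)⁻¹)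
        rw [Subring.coe_mul]
        simp only [mul_assoc]
        rw [← mul_assoc (ρ (z : X)⁻¹) (ρ (z : X)), hρ, one_mul]) }
  have hsmul : ∀ (z : Subgroup.zpowers g) (a : K) (v : V),
      ((z • a : K) : AddMonoid.End V) v = (z : X) • (a : AddMonoid.End V) ((z : X)⁻¹ • v) :=
    fun _ _ _ => rfl
  have hstab : ∀ z ∈ Subgroup.zpowers g, z • v₀ = v₀ := fun z hz =>
    MulAction.mem_stabilizer_iff.1 (Subgroup.zpowers_le.2 (MulAction.mem_stabilizer_iff.2 hgv) hz)
  haveI : FaithfulSMul (Subgroup.zpowers g) K := ⟨fun {z w} h => by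
    set ci : K := ⟨ρ c, hs.centralizer_mem (mem_cent.2 rfl)⟩
    have h1 : (w⁻¹ * z) • ci = ci := by rw [mul_smul, h ci, inv_smul_smul]
    set u : X := ((w⁻¹ * z : Subgroup.zpowers g) : X)
    have hu : u ∈ Subgroup.centralizer ({c} : Set X) := by
      refine mem_cent_of_conj_eq ?_
      refine (inv_mul_eq_one.1 (hs.faithful _ fun v => ?_)).symm
      have h2 := DFunLike.congr_fun (congrArg Subtype.val h1) v
      rw [hsmul] at h2
      rw [mul_smul, inv_smul_eq_iff]
      show (u * c * u⁻¹) • v = c • v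
      rw [mul_smul, mul_smul]
      exact h2
    exact (inv_mul_eq_one.1 (Subtype.ext (hs.semiregular hu hv₀ (hstab u (w⁻¹ * z).2)))).symm⟩
  haveI := Fintype.ofFinite (Subgroup.zpowers g)
  set F := FixedPoints.subfield (Subgroup.zpowers g) K
  have hF : Nat.card F = Nat.card (Act.fix (U := V) g) := by
    refine Nat.card_congr (Equiv.ofBijective
      (fun a => ⟨((a.1 : K) : AddMonoid.End V) v₀, ?_⟩) ⟨?_, ?_⟩)
    · have h1 : (⟨g, Subgroup.mem_zpowers g⟩ : Subgroup.zpowers g) • a.1 = a.1 := a.2 _
      have h2 := DFunLike.congr_fun (congrArg Subtype.val h1) v₀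
      rw [hsmul, hstab g⁻¹ (inv_mem (Subgroup.mem_zpowers g))] at h2
      exact h2
    · intro a b h
      exact Subtype.ext (Subtype.ext (hs.eval_inj hv₀ a.1.2 b.1.2 (congrArg Subtype.val h)))
    · rintro ⟨w, hw⟩
      obtain ⟨a, ha, hav⟩ := hs.eval_surj hv₀ K (hs.centralizer_mem (mem_cent.2 rfl)) w
      refine ⟨⟨⟨a, ha⟩, ?_⟩, Subtype.ext hav⟩
      have h1 : (⟨g, Subgroup.mem_zpowers g⟩ : Subgroup.zpowers g) • (⟨a, ha⟩ : K) = ⟨a, ha⟩ := by
        refine Subtype.ext (hs.eval_inj hv₀ (Subtype.prop _) ha ?_)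
        rw [hsmul, hstab g⁻¹ (inv_mem (Subgroup.mem_zpowers g)), hav]
        exact hw
      intro z
      obtain ⟨j, hj⟩ := Subgroup.mem_zpowers_iff.1 z.2
      have hz : z = (⟨g, Subgroup.mem_zpowers g⟩ : Subgroup.zpowers g) ^ j := Subtype.ext hj.symm
      rw [hz]
      exact MulAction.mem_stabilizer_iff.1 (zpow_mem (MulAction.mem_stabilizer_iff.2 h1) j)
  have hKV : Nat.card K = 2 ^ d := by
    rw [← hs.card]
    refine Nat.card_congr (Equiv.ofBijective (fun a => (a : AddMonoid.End V) v₀) ⟨?_, fun v => ?_⟩)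
    · exact fun a b h => Subtype.ext (hs.eval_inj hv₀ a.2 b.2 h)
    · obtain ⟨a, ha, hav⟩ := hs.eval_surj hv₀ K (hs.centralizer_mem (mem_cent.2 rfl)) v
      exact ⟨⟨a, ha⟩, hav⟩
  refine ⟨?_, fun x hx hpow => ?_⟩
  · rw [← hF, ← hKV, Module.natCard_eq_pow_finrank (K := F) (V := K),
      FixedPoints.finrank_eq_card (Subgroup.zpowers g) K, ← Nat.card_eq_fintype_card, Nat.card_zpowers]
  · set q := Nat.card (Act.fix (U := V) g) with hq
    have hq1 : 1 < q := by
      rw [← hF]; exact Finite.one_lt_card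
    set xi : K := ⟨ρ x, hs.centralizer_mem hx⟩
    have hxi : xi ^ q = xi := by
      refine Subtype.ext ?_
      show ρ x ^ q = ρ x
      rw [← map_pow, show q = q - 1 + 1 by omega, pow_succ, hpow, one_mul]
    haveI := Fintype.ofFinite K
    haveI := Fintype.ofFinite F
    have hxF : xi ∈ F := by
      by_contra hnot
      let P : Polynomial K := Polynomial.X ^ q - Polynomial.X
      have hP : P ≠ 0 := FiniteField.X_pow_card_sub_X_ne_zero K hq1
      have hsub : insert xi (Finset.univ.image fun a : F => (a : K)) ⊆ P.roots.toFinset := by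
        intro a ha
        rw [Multiset.mem_toFinset, Polynomial.mem_roots hP, Polynomial.IsRoot]
        simp only [P, Polynomial.eval_sub, Polynomial.eval_pow, Polynomial.eval_X, sub_eq_zero]
        rcases Finset.mem_insert.1 ha with rfl | ha
        · exact hxi
        · obtain ⟨b, -, rfl⟩ := Finset.mem_image.1 ha
          rw [← SubmonoidClass.coe_pow, ← hF, Nat.card_eq_fintype_card, FiniteField.pow_card]
      have h1 := Finset.card_le_card hsub
      rw [Finset.card_insert_of_notMem (by simpa using hnot),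
        Finset.card_image_of_injective _ Subtype.val_injective, Finset.card_univ,
        ← Nat.card_eq_fintype_card, hF] at h1
      have h2 := (Multiset.toFinset_card_le P.roots).trans (Polynomial.card_roots' P)
      rw [FiniteField.X_pow_card_sub_X_natDegree_eq K hq1] at h2
      omega
    refine (inv_mul_eq_one.1 (hs.faithful _ fun v => ?_)).symm
    have h2 := DFunLike.congr_fun (congrArg Subtype.val (hxF ⟨g, Subgroup.mem_zpowers g⟩)) v
    rw [hsmul] at h2
    rw [mul_smul, inv_smul_eq_iff]
    show (g * x * g⁻¹) • v = x • v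
    rw [mul_smul, mul_smul]
    exact h2

end Sing

end Cfsg.Agent.RealClassGraph
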