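import Cfsg.Agent.Lib.Block.RealClassGraph.Module
import Cfsg.Agent.Lib.Block.RealClassGraph.Field
import Cfsg.Agent.Lib.Block.RealClassGraph.Arith

/-!
The partition of the nonzero vectors by Sylow 2-subgroups, and generic lemmas on 2-parts.
-/

set_option autoImplicit false
set_option linter.unusedSectionVars false
set_option linter.style.haveILetI false

open scoped Pointwise

namespace Cfsg.Agent.RealClassGraph

open Subgroup

variable {X V : Type*} [Group X] [Finite X] [AddCommGroup V] [Finite V] [DistribMulAction X V]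

/-- the common fixed points of a subgroup -/
def fixSub (H : Subgroup X) : AddSubgroup V where
  carrier := {v | ∀ g ∈ H, g • v = v}
  zero_mem' := fun g _ => smul_zero g
  add_mem' {a b} ha hb g hg := by rw [smul_add, ha g hg, hb g hg]
  neg_mem' {a} ha g hg := by rw [smul_neg, ha g hg]

theorem exists_sylow_le {q : ℕ} [Fact q.Prime] (H : Subgroup X) (h : ¬ q ∣ H.index) :
    ∃ R : Sylow q X, (R : Subgroup X) ≤ H := by
  obtain ⟨R0⟩ : Nonempty (Sylow q H) := inferInstance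
  obtain ⟨R, hR⟩ := (R0.isPGroup'.map H.subtype).exists_le_sylow
  refine ⟨R, ?_⟩
  rcases eq_or_lt_of_le hR with e | hlt
  · exact e ▸ map_subtype_le _
  · exfalso
    obtain ⟨k, hk⟩ := IsPGroup.iff_card.1 R.isPGroup'
    obtain ⟨j, -, hj⟩ := (Nat.dvd_prime_pow Fact.out).1
      (hk ▸ relIndex_dvd_card ((R0 : Subgroup H).map H.subtype) (R : Subgroup X))
    rcases j.eq_zero_or_pos with rfl | hpos
    · exact hlt.not_ge (relIndex_eq_one.1 (by simpa using hj))
    · have h1 := relIndex_mul_index hlt.le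
      rw [index_map_subtype] at h1
      exact ((Fact.out : q.Prime).dvd_mul.1 (h1 ▸ (hj ▸ dvd_pow_self q hpos.ne').mul_right _)).elim
        R0.not_dvd_index h

/-- a cyclic 2-group of the full 2-part inside the centralizer of its involution is a Sylow subgroup -/
theorem two_part_bound {n : ℕ} {g i : X} (hg : orderOf g = 2 ^ (n + 1)) (hi : i = g ^ 2 ^ n)
    (hC : ¬ 2 ^ (n + 2) ∣ Nat.card (centralizer ({i} : Set X))) : ¬ 2 ^ (n + 2) ∣ Nat.card X := by
  haveI : Fact (Nat.Prime 2) := ⟨Nat.prime_two⟩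
  intro hd
  set Z := zpowers g
  have hZ : Nat.card Z = 2 ^ (n + 1) := by rw [Nat.card_zpowers, hg]
  obtain ⟨K, hK, hZK⟩ := Sylow.exists_subgroup_card_pow_succ hd hZ
  refine hC (hK ▸ card_dvd_of_le ?_)
  have hidx : (Z.subgroupOf K).index = 2 := by
    have h1 := (Z.subgroupOf K).index_mul_card
    rw [Nat.card_congr (subgroupOfEquivOfLe hZK).toEquiv, hZ, hK, pow_succ' 2 (n + 1)] at h1
    exact Nat.eq_of_mul_eq_mul_right (Nat.two_pow_pos (n + 1)) h1
  have hn : (Z.subgroupOf K).Normal := normal_of_index_eq_two hidx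
  intro w hw
  refine mem_cent_of_conj_eq ?_
  have hiZ : i ∈ Z := hi ▸ pow_mem (mem_zpowers g) _
  have hmem : w * i * w⁻¹ ∈ Z := hn.conj_mem ⟨i, hZK hiZ⟩ hiZ ⟨w, hw⟩
  obtain ⟨j, hj⟩ := (mem_powers_iff_mem_zpowers.2 hmem : w * i * w⁻¹ ∈ Submonoid.powers g)
  have hj' : g ^ j = w * i * w⁻¹ := hj
  have hne : i ≠ 1 := fun e => by
    have h2 := orderOf_dvd_of_pow_eq_one (hi ▸ e : g ^ 2 ^ n = 1)
    rw [hg] at h2
    exact absurd (Nat.le_of_dvd (by positivity) h2)
      (not_le.2 (Nat.pow_lt_pow_right (by norm_num) (Nat.lt_succ_self n)))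
  have hsq : g ^ (j * 2) = 1 := by
    rw [pow_mul, hj', conj_pow, hi, ← pow_mul, ← pow_succ, ← hg, pow_orderOf_eq_one, mul_one,
      mul_inv_cancel]
  have h3 := orderOf_dvd_of_pow_eq_one hsq
  rw [hg, pow_succ] at h3
  obtain ⟨t, rfl⟩ := Nat.dvd_of_mul_dvd_mul_right (by norm_num) h3
  rcases Nat.even_or_odd' t with ⟨s, rfl | rfl⟩
  · exfalso
    rw [show 2 ^ n * (2 * s) = 2 ^ (n + 1) * s by rw [pow_succ]; ring, pow_mul, ← hg,
      pow_orderOf_eq_one, one_pow] at hj'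
    exact hne (conj_eq_one_iff.1 hj'.symm)
  · rw [← hj', hi, show 2 ^ n * (2 * s + 1) = 2 ^ (n + 1) * s + 2 ^ n by rw [pow_succ]; ring, pow_add,
      pow_mul, ← hg, pow_orderOf_eq_one, one_pow, one_mul]

theorem isSolvable_of_two_part {L : ℕ} {g : X} (hg : orderOf g = 2 ^ L)
    (h : ¬ 2 ^ (L + 1) ∣ Nat.card X) : Group.IsSolvable X := by
  haveI : Fact (Nat.Prime 2) := ⟨Nat.prime_two⟩
  rcases L.eq_zero_or_pos with rfl | hL
  · exact Cfsg.Agent.S0205.result (Nat.odd_iff.2 (Nat.two_dvd_ne_zero.1 (by simpa using h)))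
  obtain ⟨P, hP⟩ := (IsPGroup.of_card (n := L) (by rw [Nat.card_zpowers, hg]) :
    IsPGroup 2 (zpowers g)).exists_le_sylow
  obtain ⟨k, hk⟩ := IsPGroup.iff_card.1 P.isPGroup'
  have h1 := card_dvd_of_le hP
  rw [Nat.card_zpowers, hg, hk] at h1
  have hLk := Nat.pow_dvd_pow_iff_le_right'.1 h1
  have hkL : k ≤ L := by
    by_contra hc
    exact h ((pow_dvd_pow 2 (by omega)).trans (hk ▸ card_subgroup_dvd_card (P : Subgroup X)))
  have hPeq : zpowers g = (P : Subgroup X) := by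
    refine eq_of_le_of_card_ge hP ?_
    rw [Nat.card_zpowers, hg, hk]
    exact Nat.pow_le_pow_right (by norm_num) hkL
  have hc : IsCyclic P := hPeq ▸ isCyclic_zpowers g
  have hmin : (Nat.card X).minFac = 2 := Nat.minFac_eq_two_iff _ |>.2
    ((dvd_pow_self 2 hL.ne').trans (hg ▸ orderOf_dvd_natCard g))
  have hcomp := IsCyclic.isComplement' hmin hc
  set f := MonoidHom.transferSylow P (hc.normalizer_le_centralizer hmin)
  haveI : Group.IsSolvable f.ker := Cfsg.Agent.S0205.result (by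
    refine Nat.odd_iff.2 (Nat.two_dvd_ne_zero.1 fun hd => ?_)
    have h2 := hcomp.card_mul
    rw [hk, le_antisymm hkL (by omega)] at h2
    exact h (by rw [pow_succ', ← h2]; exact mul_dvd_mul hd dvd_rfl))
  haveI := P.isPGroup'.isNilpotent
  exact Group.isSolvable_of_ker_le_range f.ker.subtype f (by rw [range_subtype])

/-- an irreducibly normalised group without real elements of odd prime order fixes everything by 2-elements -/
theorem two_elements_trivial {Y U : Type*} [Group Y] [Finite Y] [AddCommGroup U] [Finite U]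
    [DistribMulAction Y U] (htwo : ∀ u : U, u + u = 0) (U' : AddSubgroup U) (hU' : U' ≠ ⊥)
    (Hs : Subgroup Y) (hstab : ∀ g ∈ Hs, g • U' = U')
    (hreal : ∀ m ∈ Hs, ∀ t ∈ Hs, ∀ p : ℕ, p.Prime → p ≠ 2 → orderOf m = p →
      t * m * t⁻¹ = m⁻¹ → False)
    (c : Y) (hc : c ∈ Hs)
    (hirr : ∀ W : AddSubgroup U, W ≤ U' → W ≠ ⊥ → (∀ w ∈ W, c • w ∈ W) → W = U')
    {g : Y} (hg : g ∈ Hs) {a : ℕ} (hga : g ^ 2 ^ a = 1) : ∀ u ∈ U', g • u = u := by
  haveI : Fact (Nat.Prime 2) := ⟨Nat.prime_two⟩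
  obtain ⟨Q⟩ : Nonempty (Sylow 2 Hs) := inferInstance
  have hQn : (Q : Subgroup Hs).Normal := normal_sylow_two_of_no_real (fun x p hp hp2 ho ⟨t, ht⟩ =>
    hreal x x.2 t t.2 p hp hp2 (by rw [orderOf_coe, ho]) (congrArg Subtype.val ht)) Q
  have hgQ : (⟨g, hg⟩ : Hs) ∈ (Q : Subgroup Hs) := by
    have h2 : IsPGroup 2 (zpowers (⟨g, hg⟩ : Hs)) := by
      obtain ⟨i, -, hi⟩ := (Nat.dvd_prime_pow Nat.prime_two).1
        (orderOf_dvd_of_pow_eq_one (show (⟨g, hg⟩ : Hs) ^ 2 ^ a = 1 from Subtype.ext (by simpa using hga)))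
      exact IsPGroup.of_card (n := i) (by rw [Nat.card_zpowers, hi])
    obtain ⟨Q', hQ'⟩ := h2.exists_le_sylow
    haveI := Sylow.unique_of_normal Q hQn
    exact Subsingleton.elim Q Q' ▸ hQ' (mem_zpowers _)
  set Q1 := (Q : Subgroup Hs).map Hs.subtype
  set W : AddSubgroup U := fixSub Q1 ⊓ U'
  have hQ1 : ∀ q ∈ Q1, ∀ u ∈ U', q • u ∈ U' := fun q hq => by
    obtain ⟨q', -, rfl⟩ := hq
    exact Act.stab_iff.1 (hstab _ q'.2)
  have hWne : W ≠ ⊥ := by
    letI : MulAction Q1 U' :=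
      { smul := fun q u => ⟨(q : Y) • (u : U), hQ1 q q.2 u u.2⟩
        one_smul := fun u => Subtype.ext (one_smul Y (u : U))
        mul_smul := fun q q' u => Subtype.ext (mul_smul (q : Y) (q' : Y) (u : U)) }
    obtain ⟨e, he⟩ := exists_card_eq htwo U'
    have he0 : e ≠ 0 := fun h => hU' (AddSubgroup.eq_bot_of_card_eq _ (by rw [he, h, pow_zero]))
    have h0 : (0 : U') ∈ MulAction.fixedPoints Q1 U' := fun q => Subtype.ext (smul_zero (q : Y))
    obtain ⟨b, hb, hb0⟩ := (Q.isPGroup'.map Hs.subtype).exists_fixed_point_of_prime_dvd_card_of_fixed_point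
      (α := U') (he ▸ dvd_pow_self 2 he0) h0
    intro hbot
    have : (b : U) ∈ W := ⟨fun q hq => congrArg Subtype.val (hb ⟨q, hq⟩), b.2⟩
    rw [hbot] at this
    exact hb0 (Subtype.ext (AddSubgroup.mem_bot.1 this).symm)
  have hWU := hirr W inf_le_right hWne fun w hw => by
    refine ⟨fun q hq => ?_, Act.stab_iff.1 (hstab c hc) w hw.2⟩
    obtain ⟨q', hq', rfl⟩ := hq
    have h1 : c⁻¹ * q' * c ∈ Q1 :=
      ⟨⟨c, hc⟩⁻¹ * q' * ⟨c, hc⟩, by
        have h3 := hQn.conj_mem q' hq' ⟨c, hc⟩⁻¹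
        rw [inv_inv] at h3
        exact h3, rfl⟩
    have h2 := hw.1 _ h1
    rw [mul_smul, mul_smul, inv_smul_eq_iff] at h2
    exact h2
  intro u hu
  exact (hWU.symm ▸ hu : u ∈ W).1 g ⟨⟨g, hg⟩, hgQ, rfl⟩

namespace Mod

variable {P : ℕ → Prop} (hM : Mod P X V)
include hM

/-- the Sylow subgroup fixing a nonzero vector -/
noncomputable def sylOf (v : {v : V // v ≠ 0}) : Sylow 2 X := (hM.stab v.1 v.2).choose

theorem sylOf_spec (v : {v : V // v ≠ 0}) : ∀ s ∈ (hM.sylOf v : Subgroup X), s • v.1 = v.1 :=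
  (hM.stab v.1 v.2).choose_spec

theorem mem_sylOf (v : {v : V // v ≠ 0}) {g : X} (hg : g • v.1 = v.1) {a : ℕ} (ha : g ^ 2 ^ a = 1) :
    g ∈ (hM.sylOf v : Subgroup X) := by
  haveI : Fact (Nat.Prime 2) := ⟨Nat.prime_two⟩
  set St := MulAction.stabilizer X v.1
  have hle : (hM.sylOf v : Subgroup X) ≤ St := fun s hs => hM.sylOf_spec v s hs
  set Q := (hM.sylOf v).subtype hle
  have hn : (Q : Subgroup St).Normal := normal_sylow_two_of_no_real (fun x p hp hp2 ho ⟨t, ht⟩ =>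
    v.2 (hM.fpf x.1 p hp hp2 (by rw [orderOf_coe, ho]) ⟨t.1, congrArg Subtype.val ht⟩ v.1 x.2)) Q
  obtain ⟨Q', hQ'⟩ := (IsPGroup.to_le (isPGroup_zpowers (g := (⟨g, hg⟩ : St)) (a := a)
    (Subtype.ext (by simpa using ha))) le_rfl).exists_le_sylow
  haveI := Sylow.unique_of_normal Q hn
  have h1 : (⟨g, hg⟩ : St) ∈ (Q : Subgroup St) := Subsingleton.elim Q Q' ▸ hQ' (mem_zpowers _)
  simpa [Q, mem_subgroupOf] using h1

theorem sylOf_unique (v : {v : V // v ≠ 0}) (S : Sylow 2 X)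
    (h : ∀ s ∈ (S : Subgroup X), s • v.1 = v.1) : S = hM.sylOf v := by
  refine Sylow.ext (eq_of_le_of_card_ge (fun s hs => ?_) (le_of_eq ?_))
  · obtain ⟨a, ha⟩ := S.isPGroup' ⟨s, hs⟩
    exact hM.mem_sylOf v (h s hs) (congrArg Subtype.val ha)
  · rw [(hM.sylOf v).card_eq_multiplicity, S.card_eq_multiplicity]

/-- the nonzero vectors of one component are exactly a fibre -/
theorem fixSub_iff (v w : {v : V // v ≠ 0}) :
    w.1 ∈ fixSub (V := V) (hM.sylOf v : Subgroup X) ↔ hM.sylOf w = hM.sylOf v :=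
  ⟨fun h => (hM.sylOf_unique w _ h).symm, fun h => h ▸ hM.sylOf_spec w⟩

theorem smul_fixSub (g : X) (S : Sylow 2 X) :
    g • fixSub (V := V) (S : Subgroup X) = fixSub (V := V) ((g • S : Sylow 2 X) : Subgroup X) := by
  ext u
  rw [AddSubgroup.mem_pointwise_smul_iff_inv_smul_mem]
  constructor
  · intro h s hs
    obtain ⟨t, ht, rfl⟩ := hs
    show (g * t * g⁻¹) • u = u
    rw [mul_smul, mul_smul, h t ht, smul_inv_smul]
  · intro h t ht
    have h1 := h (g * t * g⁻¹) ⟨t, ht, rfl⟩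
    rw [mul_smul, mul_smul, smul_eq_iff_eq_inv_smul] at h1
    exact h1

theorem exists_sylOf (S : Sylow 2 X) : ∃ v, hM.sylOf v = S := by
  haveI : Fact (Nat.Prime 2) := ⟨Nat.prime_two⟩
  obtain ⟨v, hv⟩ := hM.ne
  obtain ⟨g, hg⟩ := MulAction.exists_smul_eq X (hM.sylOf ⟨v, hv⟩) S
  refine ⟨⟨g • v, fun e => hv (MulAction.injective g (e.trans (smul_zero g).symm))⟩, ?_⟩
  refine (hM.sylOf_unique _ S fun s hs => ?_).symm
  rw [← hg] at hs
  obtain ⟨t, ht, rfl⟩ := hs
  show (g * t * g⁻¹) • g • v = g • v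
  rw [← mul_smul, inv_mul_cancel_right, mul_smul, hM.sylOf_spec ⟨v, hv⟩ t ht]

/-- all components have the same size, and they cover the nonzero vectors -/
theorem exists_k : ∃ k : ℕ, 0 < k ∧
    (∀ S : Sylow 2 X, Nat.card (fixSub (V := V) (S : Subgroup X)) = 2 ^ k) ∧
    (∀ W : AddSubgroup V, (∀ v : {v : V // v ≠ 0}, v.1 ∈ W →
        fixSub (V := V) (hM.sylOf v : Subgroup X) ≤ W) → 2 ^ k - 1 ∣ Nat.card W - 1) ∧
    Nat.card (Sylow 2 X) * (2 ^ k - 1) = Nat.card V - 1 := by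
  classical
  haveI : Fact (Nat.Prime 2) := ⟨Nat.prime_two⟩
  haveI := Fintype.ofFinite V
  obtain ⟨S0⟩ : Nonempty (Sylow 2 X) := inferInstance
  obtain ⟨k, hk⟩ := exists_card_eq hM.two (fixSub (V := V) (S0 : Subgroup X))
  have hall : ∀ S : Sylow 2 X, Nat.card (fixSub (V := V) (S : Subgroup X)) = 2 ^ k := fun S => by
    obtain ⟨g, rfl⟩ := MulAction.exists_smul_eq X S0 S
    rw [← hM.smul_fixSub, Act.card_smul, hk]
  have hfib : ∀ S : Sylow 2 X,
      Nat.card {v : {v : V // v ≠ 0} // hM.sylOf v = S} = 2 ^ k - 1 := fun S => by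
    obtain ⟨v, rfl⟩ := hM.exists_sylOf S
    rw [← hall (hM.sylOf v)]
    set F := fixSub (V := V) (hM.sylOf v : Subgroup X)
    haveI := Fintype.ofFinite F
    rw [Nat.card_congr (β := {u : F // u ≠ 0})
      { toFun := fun u => ⟨⟨u.1.1, (hM.fixSub_iff v u.1).2 u.2⟩, fun e => u.1.2 (congrArg Subtype.val e)⟩
        invFun := fun u => ⟨⟨u.1.1, fun e => u.2 (Subtype.ext e)⟩, (hM.fixSub_iff v _).1 u.1.2⟩
        left_inv := fun _ => rfl
        right_inv := fun _ => rfl },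
      Nat.card_eq_fintype_card, Fintype.card_subtype_compl, Fintype.card_subtype_eq,
      ← Nat.card_eq_fintype_card]
  refine ⟨k, ?_, hall, fun W hW => ?_, ?_⟩
  · rcases k.eq_zero_or_pos with rfl | h
    · obtain ⟨v, hv⟩ := hM.ne
      have h1 := hall (hM.sylOf ⟨v, hv⟩)
      rw [pow_zero] at h1
      have h2 := AddSubgroup.eq_bot_of_card_eq _ h1
      exact absurd (AddSubgroup.mem_bot.1 (h2 ▸ hM.sylOf_spec ⟨v, hv⟩ :
        v ∈ (⊥ : AddSubgroup V))) hv
    · exact h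
  · haveI := Fintype.ofFinite W
    have e1 : Nat.card {v : {v : V // v ≠ 0} // v.1 ∈ W} = Nat.card W - 1 := by
      rw [Nat.card_congr (β := {u : W // u ≠ 0})
        { toFun := fun u => ⟨⟨u.1.1, u.2⟩, fun e => u.1.2 (congrArg Subtype.val e)⟩
          invFun := fun u => ⟨⟨u.1.1, fun e => u.2 (Subtype.ext e)⟩, u.1.2⟩
          left_inv := fun _ => rfl
          right_inv := fun _ => rfl },
        Nat.card_eq_fintype_card (α := {u : W // u ≠ 0}), Fintype.card_subtype_compl,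
        Fintype.card_subtype_eq, ← Nat.card_eq_fintype_card]
    let T := {v : {v : V // v ≠ 0} // v.1 ∈ W}
    let I := {S : Sylow 2 X // ∃ v : T, hM.sylOf v.1 = S}
    let f : T → I := fun v => ⟨hM.sylOf v.1, v, rfl⟩
    haveI : Fintype I := Fintype.ofFinite I
    have hsum : ∀ S : I, Nat.card {v : T // f v = S} = 2 ^ k - 1 := fun S => by
      rw [← hfib S.1]
      obtain ⟨v0, hv0⟩ := S.2
      refine Nat.card_congr
        { toFun := fun v => ⟨v.1.1, congrArg Subtype.val v.2⟩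
          invFun := fun v => ⟨⟨v.1, hW v0.1 v0.2 ((hM.fixSub_iff v0.1 v.1).2 (v.2.trans hv0.symm))⟩,
            Subtype.ext v.2⟩
          left_inv := fun _ => rfl
          right_inv := fun _ => rfl }
    rw [← e1, Nat.card_congr (Equiv.sigmaFiberEquiv f).symm, Nat.card_sigma]
    simp only [hsum, Finset.sum_const, smul_eq_mul]
    exact dvd_mul_left _ _
  · haveI := Fintype.ofFinite (Sylow 2 X)
    have e : Nat.card {v : V // v ≠ 0} = Nat.card V - 1 := by
      rw [Nat.card_eq_fintype_card, Fintype.card_subtype_compl, Fintype.card_subtype_eq,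
        Nat.card_eq_fintype_card]
    rw [← e, Nat.card_congr (Equiv.sigmaFiberEquiv hM.sylOf).symm, Nat.card_sigma]
    simp only [hfib, Finset.sum_const, smul_eq_mul, Finset.card_univ, Nat.card_eq_fintype_card]

/-- a 2-element preserving a component fixes it pointwise -/
theorem two_fix_component (v : {v : V // v ≠ 0}) {g : X} {a : ℕ} (ha : g ^ 2 ^ a = 1)
    (hg : g • fixSub (V := V) (hM.sylOf v : Subgroup X) = fixSub (V := V) (hM.sylOf v : Subgroup X)) :
    ∀ u ∈ fixSub (V := V) (hM.sylOf v : Subgroup X), g • u = u := by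
  haveI : Fact (Nat.Prime 2) := ⟨Nat.prime_two⟩
  set S := hM.sylOf v
  have h1 : g • v.1 ∈ fixSub (V := V) (S : Subgroup X) := by
    rw [← hg]
    exact AddSubgroup.smul_mem_pointwise_smul _ g _ (hM.sylOf_spec v)
  set w : {v : V // v ≠ 0} :=
    ⟨g • v.1, fun e => v.2 (MulAction.injective g (e.trans (smul_zero g).symm))⟩
  have h2 : g • S = S := by
    refine (hM.sylOf_unique w (g • S) fun s hs => ?_).trans ((hM.fixSub_iff v w).1 h1)
    obtain ⟨t, ht, rfl⟩ := hs
    show (g * t * g⁻¹) • g • v.1 = g • v.1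
    rw [← mul_smul, inv_mul_cancel_right, mul_smul, hM.sylOf_spec v t ht]
  have hgN : g ∈ normalizer ((S : Subgroup X) : Set X) := Sylow.smul_eq_iff_mem_normalizer.1 h2
  set N := normalizer ((S : Subgroup X) : Set X)
  obtain ⟨Q, hQ⟩ := (isPGroup_zpowers (g := (⟨g, hgN⟩ : N)) (a := a)
    (Subtype.ext (by simpa using ha))).exists_le_sylow
  haveI := Sylow.unique_of_normal (S.subtype le_normalizer)
    (normal_subgroupOf_of_le_normalizer le_rfl)
  have h3 : (⟨g, hgN⟩ : N) ∈ (S.subtype le_normalizer : Subgroup N) :=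
    Subsingleton.elim Q (S.subtype le_normalizer) ▸ hQ (mem_zpowers _)
  intro u hu
  exact hu g (by simpa [mem_subgroupOf] using h3)

/-- a group without real elements of odd prime order acting irreducibly is of odd order -/
theorem solvable_of_no_real (h : ∀ (x : X) (p : ℕ), p.Prime → p ≠ 2 → orderOf x = p → ¬ Real x) :
    Group.IsSolvable X := by
  obtain ⟨S⟩ : Nonempty (Sylow 2 X) := inferInstance
  exact isSolvable_of_normal_sylow_two S (normal_sylow_two_of_no_real h S)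

end Mod

end Cfsg.Agent.RealClassGraph
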