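import Cfsg.Agent.Lib.Block.RealClassGraph.Top

/-!
The group induced on a subgroup of the module by its stabilizer.
-/

set_option autoImplicit false
set_option linter.unusedSectionVars false
set_option linter.style.haveILetI false

open scoped Pointwise

namespace Cfsg.Agent.RealClassGraph

open Subgroup

variable {X V : Type*} [Group X] [Finite X] [AddCommGroup V] [Finite V] [DistribMulAction X V]

/-- the permutation of `U` induced by an element of its stabilizer -/
def stabPerm (U : AddSubgroup V) : MulAction.stabilizer X U →* Equiv.Perm U where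
  toFun g :=
    { toFun := fun u => ⟨(g : X) • (u : V), Act.stab_iff.1 g.2 u u.2⟩
      invFun := fun u => ⟨(g : X)⁻¹ • (u : V), Act.stab_iff.1 (inv_mem g.2) u u.2⟩
      left_inv := fun u => Subtype.ext (inv_smul_smul (g : X) (u : V))
      right_inv := fun u => Subtype.ext (smul_inv_smul (g : X) (u : V)) }
  map_one' := Equiv.ext fun u => Subtype.ext (one_smul X (u : V))
  map_mul' g h := Equiv.ext fun u => Subtype.ext (mul_smul (g : X) (h : X) (u : V))

/-- the group induced on `U` -/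
abbrev Img (X : Type*) {V : Type*} [Group X] [Finite X] [AddCommGroup V] [Finite V]
    [DistribMulAction X V] (U : AddSubgroup V) : Subgroup (Equiv.Perm U) :=
  (stabPerm (X := X) U).range

instance imgAction (U : AddSubgroup V) : DistribMulAction (Img X U) U where
  smul y u := (y : Equiv.Perm U) u
  one_smul _ := rfl
  mul_smul _ _ _ := rfl
  smul_zero y := by
    obtain ⟨g, hg⟩ := y.2
    show (y : Equiv.Perm U) 0 = 0
    rw [← hg]
    exact Subtype.ext (smul_zero (g : X))
  smul_add y a b := by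
    obtain ⟨g, hg⟩ := y.2
    show (y : Equiv.Perm U) (a + b) = (y : Equiv.Perm U) a + (y : Equiv.Perm U) b
    rw [← hg]
    exact Subtype.ext (smul_add (g : X) (a : V) (b : V))

variable {U : AddSubgroup V}

theorem img_faithful (y : Img X U) (h : ∀ u : U, y • u = u) : y = 1 :=
  Subtype.ext (Equiv.ext h)

/-- the image of an element stabilizing `U` -/
def imgOf {g : X} (hg : g • U = U) : Img X U := (stabPerm U).rangeRestrict ⟨g, hg⟩

theorem imgOf_smul {g : X} (hg : g • U = U) (u : U) : ((imgOf hg • u : U) : V) = g • (u : V) := rfl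

theorem imgOf_conj {g h k : X} (hg : g • U = U) (hh : h • U = U) (hk : k • U = U)
    (e : g * h * g⁻¹ = k) : imgOf hg * imgOf hh * (imgOf hg)⁻¹ = imgOf hk := by
  rw [imgOf, imgOf, imgOf, ← map_inv, ← map_mul, ← map_mul]
  exact congrArg _ (Subtype.ext e)

theorem imgOf_commute {g h : X} (hg : g • U = U) (hh : h • U = U) (e : Commute g h) :
    Commute (imgOf hg) (imgOf hh) :=
  (show Commute (⟨g, hg⟩ : MulAction.stabilizer X U) ⟨h, hh⟩ from Subtype.ext e).map _

theorem imgOf_pow {g : X} (hg : g • U = U) (n : ℕ) (hgn : g ^ n • U = U) :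
    imgOf hg ^ n = imgOf hgn := by
  rw [imgOf, imgOf, ← map_pow]
  exact congrArg _ (Subtype.ext rfl)

theorem exists_preimage (y : Img X U) :
    ∃ (g : X) (_ : g • U = U), ∀ u : U, ((y • u : U) : V) = g • (u : V) := by
  obtain ⟨g, rfl⟩ := (stabPerm U).rangeRestrict_surjective y
  exact ⟨g, g.2, fun u => rfl⟩

theorem exists_two_preimage (y : Img X U) {a : ℕ} (ha : y ^ 2 ^ a = 1) :
    ∃ (g : X) (hg : g • U = U), (∃ b : ℕ, g ^ 2 ^ b = 1) ∧ imgOf hg = y := by
  obtain ⟨g, rfl⟩ := (stabPerm U).rangeRestrict_surjective y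
  obtain ⟨m, b, hm, hb⟩ := exists_two_part g
  obtain ⟨i, hi⟩ := exists_pow_eq_self_of_coprime (x := (stabPerm U).rangeRestrict g) (n := m)
    (Nat.Coprime.coprime_dvd_right (orderOf_dvd_of_pow_eq_one ha)
      (Nat.Coprime.pow_right a (Nat.coprime_two_right.2 hm)))
  refine ⟨((g ^ m) ^ i : MulAction.stabilizer X U), ((g ^ m) ^ i).2, ⟨b, ?_⟩, ?_⟩
  · rw [← SubgroupClass.coe_pow, pow_right_comm, hb, one_pow, OneMemClass.coe_one]
  · show (stabPerm U).rangeRestrict _ = _
    rw [← map_pow, ← map_pow] at hi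
    exact hi

variable {P : ℕ → Prop}

/-- real elements of prime order of the induced group lift to real elements of the same order -/
theorem lift_real (hM : Mod P X V) (hU : U ≠ ⊥) (y : Img X U) {p : ℕ} (hp : p.Prime) (hp2 : p ≠ 2)
    (ho : orderOf y = p) (hr : Real y) :
    ∃ (x : X) (hx : x • U = U), orderOf x = p ∧ Real x ∧ imgOf hx = y := by
  haveI := Fact.mk hp
  obtain ⟨g, hgy, hgr, a, ha⟩ :=
    exists_real_lift (stabPerm U).rangeRestrict (stabPerm U).rangeRestrict_surjective hp2 ho hr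
  have hgr' : Real (g : X) := by
    obtain ⟨k, hk⟩ := hgr
    exact ⟨k, congrArg Subtype.val hk⟩
  obtain ⟨b, -, hb⟩ := (Nat.dvd_prime_pow hp).1 (orderOf_dvd_of_pow_eq_one ha)
  refine ⟨g, g.2, ?_, hgr', hgy⟩
  rw [orderOf_coe, hb]
  match b, hb with
  | 0, hb =>
    rw [pow_zero, orderOf_eq_one_iff] at hb
    rw [hb, map_one] at hgy
    rw [← hgy, orderOf_one] at ho
    exact absurd ho.symm hp.ne_one
  | 1, _ => exact pow_one p
  | b + 2, hb =>
    exfalso
    obtain ⟨u, hu, hu0⟩ : ∃ u ∈ U, u ≠ 0 := by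
      by_contra hc
      push Not at hc
      exact hU (eq_bot_iff.2 fun u hu => AddSubgroup.mem_bot.2 (hc u hu))
    have hord : orderOf ((g : X) ^ p ^ (b + 1)) = p := by
      rw [orderOf_pow_of_dvd (pow_ne_zero _ hp.ne_zero) (by rw [orderOf_coe, hb]; exact pow_dvd_pow p (by omega)),
        orderOf_coe, hb, Nat.pow_div (by omega) hp.pos, show b + 2 - (b + 1) = 1 by omega, pow_one]
    have him : (stabPerm U).rangeRestrict (g ^ p ^ (b + 1)) = 1 := by
      rw [map_pow, hgy, pow_succ', pow_mul, ← ho, pow_orderOf_eq_one, one_pow]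
    refine hu0 (hM.fpf _ p hp hp2 hord (hgr'.pow _) u ?_)
    have h1 := congrArg (fun z : Img X U => ((z • (⟨u, hu⟩ : U) : U) : V)) him
    rw [← SubgroupClass.coe_pow]
    exact h1

theorem img_fpf (hM : Mod P X V) (y : Img X U) {p : ℕ} (hp : p.Prime) (hp2 : p ≠ 2)
    (ho : orderOf y = p) (hr : Real y) (u : U) (hu : y • u = u) : u = 0 := by
  by_contra hne
  obtain ⟨x, hx, hxo, hxr, rfl⟩ := lift_real hM (fun e => hne (Subtype.ext
    (AddSubgroup.mem_bot.1 (e ▸ u.2 : (u : V) ∈ (⊥ : AddSubgroup V))))) y hp hp2 ho hr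
  exact hne (Subtype.ext (hM.fpf x p hp hp2 hxo hxr u (congrArg Subtype.val hu)))

/-- an element acting freely on an invariant subgroup has order dividing the number of nonzero vectors -/
theorem orderOf_dvd_of_free {Y W : Type*} [Group Y] [Finite Y] [AddCommGroup W] [Finite W]
    [DistribMulAction Y W] (z : Y) (S : AddSubgroup W) (hS : ∀ w ∈ S, z • w ∈ S)
    (hfree : ∀ j : ℕ, ∀ w ∈ S, w ≠ 0 → z ^ j • w = w → z ^ j = 1) :
    orderOf z ∣ Nat.card S - 1 := by
  classical
  let T := {w : S // w ≠ 0}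
  have hst : ∀ g ∈ zpowers z, ∀ w ∈ S, g • w ∈ S := fun g hg =>
    Act.stab_iff.1 (MulAction.mem_stabilizer_iff.1
      (zpowers_le.2 (MulAction.mem_stabilizer_iff.2 (Act.stab_iff.2 hS)) hg))
  letI : MulAction (zpowers z) T :=
    { smul := fun g w => ⟨⟨(g : Y) • (w.1 : W), hst g g.2 _ w.1.2⟩, fun h => w.2 (Subtype.ext
        (MulAction.injective (g : Y) ((congrArg Subtype.val h).trans (smul_zero (g : Y)).symm)))⟩
      one_smul := fun w => Subtype.ext (Subtype.ext (one_smul Y (w.1 : W)))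
      mul_smul := fun g k w => Subtype.ext (Subtype.ext (mul_smul (g : Y) (k : Y) (w.1 : W))) }
  have h := Act.orderOf_dvd_card (⟨z, mem_zpowers z⟩ : zpowers z) (S := T) fun j w e =>
    Subtype.ext (hfree j (w.1 : W) w.1.2 (fun e0 => w.2 (Subtype.ext e0))
      (congrArg (fun s : T => (s.1 : W)) e))
  rw [Subgroup.orderOf_mk] at h
  haveI := Fintype.ofFinite S
  rwa [Nat.card_eq_fintype_card, Fintype.card_subtype_compl, Fintype.card_subtype_eq,
    ← Nat.card_eq_fintype_card] at h

theorem orderOf_dvd_of_prime {Y W : Type*} [Group Y] [Finite Y] [AddCommGroup W] [Finite W]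
    [DistribMulAction Y W] {z : Y} {p : ℕ} (hp : p.Prime) (hz : orderOf z = p) (S : AddSubgroup W)
    (hS : ∀ w ∈ S, z • w ∈ S) (hfix : ∀ w : W, z • w = w → w = 0) : p ∣ Nat.card S - 1 := by
  refine hz ▸ orderOf_dvd_of_free z S hS fun j w _ hw0 e => ?_
  by_contra hne
  have hcop : Nat.Coprime j (orderOf z) := by
    rw [hz]
    refine (hp.coprime_iff_not_dvd.2 fun hd => hne ?_).symm
    exact orderOf_dvd_iff_pow_eq_one.1 (hz ▸ hd)
  obtain ⟨m, hm⟩ := exists_pow_eq_self_of_coprime hcop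
  have key : ∀ m : ℕ, (z ^ j) ^ m • w = w := by
    intro m
    induction m with
    | zero => rw [pow_zero, one_smul]
    | succ m ih => rw [pow_succ, mul_smul, e, ih]
  exact hw0 (hfix w ((congrArg (fun a : Y => a • w) hm).symm.trans (key m)))

namespace Sing

variable {c : X} {d r : ℕ}

/-- no element of order seven of the centralizer is inverted -/
theorem not_inverted_seven (hs : Sing X V c d r) {y u : X} (hy : y ∈ centralizer ({c} : Set X))
    (ho : orderOf y = 7) (hu : u * y * u⁻¹ = y⁻¹) : False := by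
  classical
  set ρ := DistribMulAction.toAddMonoidEnd X V
  obtain ⟨v₀, hv₀⟩ : ∃ v : V, v ≠ 0 := by
    by_contra hc
    push Not at hc
    rw [hs.faithful y fun v => by rw [hc v, smul_zero], orderOf_one] at ho
    omega
  have hy7 : ∀ w : V, y ^ 7 • w = w := fun w => by rw [← ho, pow_orderOf_eq_one, one_smul]
  set a : AddMonoid.End V := ρ y + ρ (y ^ 2) + ρ (y ^ 4) with ha_def
  have hmem : ∀ j : ℕ, ρ (y ^ j) ∈ comm c := fun j => hs.centralizer_mem (pow_mem hy j)
  have ha : a ∈ comm c :=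
    (comm (V := V) c).add_mem ((comm (V := V) c).add_mem (hs.centralizer_mem hy) (hmem 2)) (hmem 4)
  have hav : ∀ w : V, a w = y • w + y ^ 2 • w + y ^ 4 • w := fun w => rfl
  have hidem : ∀ w : V, a (a w) = a w := by
    intro w
    have h8 : y ^ 8 • w = y • w := by
      rw [show 8 = 1 + 7 by norm_num, pow_add, pow_one, mul_smul, hy7]
    simp only [hav, smul_add, ← mul_smul, ← pow_add, ← pow_succ, ← pow_succ']
    norm_num
    rw [show y * y = y ^ 2 from (pow_two y).symm, h8]
    have h2 := hs.two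
    calc y ^ 2 • w + y ^ 3 • w + y ^ 5 • w + (y ^ 3 • w + y ^ 4 • w + y ^ 6 • w) +
          (y ^ 5 • w + y ^ 6 • w + y • w)
        = (y • w + y ^ 2 • w + y ^ 4 • w) + ((y ^ 3 • w + y ^ 3 • w) + (y ^ 5 • w + y ^ 5 • w) +
            (y ^ 6 • w + y ^ 6 • w)) := by abel
      _ = _ := by rw [h2 (y ^ 3 • w), h2 (y ^ 5 • w), h2 (y ^ 6 • w)]; abel
  have hfix : ∀ w : V, u • a w = a (u • w) := by
    intro w
    by_cases h0 : a v₀ = 0
    · have : a = 0 := hs.eval_inj hv₀ ha (comm (V := V) c).zero_mem h0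
      rw [this]
      exact smul_zero u
    · have : a = 1 := hs.eval_inj h0 ha (comm (V := V) c).one_mem (hidem v₀)
      rw [this]
      rfl
  have h1 : u * y = y⁻¹ * u := by rw [← hu, inv_mul_cancel_right]
  have hinv : y⁻¹ = y ^ 6 := inv_eq_of_mul_eq_one_right (by rw [← pow_succ', show 6 + 1 = orderOf y from ho.symm, pow_orderOf_eq_one])
  have hpow : ∀ (j : ℕ) (w : V), u • y ^ j • w = y ^ (6 * j) • u • w := by
    intro j
    induction j with
    | zero => intro w; simp
    | succ j ih =>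
      intro w
      rw [pow_succ, mul_smul, ih, ← mul_smul u y, h1, hinv, mul_smul, ← mul_smul, ← pow_add,
        Nat.mul_succ]
  have hlow : ∀ (j k : ℕ) (w : V), j % 7 = k % 7 → y ^ j • w = y ^ k • w := fun j k w h => by
    rw [← pow_mod_orderOf y j, ← pow_mod_orderOf y k, ho, h]
  have key : a v₀ = y ^ 6 • v₀ + y ^ 5 • v₀ + y ^ 3 • v₀ := by
    have h2 := hfix (u⁻¹ • v₀)
    rw [smul_inv_smul] at h2
    rw [← h2, hav, smul_add, smul_add, hpow 2, hpow 4,
      show u • y • u⁻¹ • v₀ = y ^ (6 * 1) • u • u⁻¹ • v₀ by rw [← hpow 1, pow_one],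
      smul_inv_smul, hlow (6 * 1) 6 _ (by norm_num), hlow (6 * 2) 5 _ (by norm_num),
      hlow (6 * 4) 3 _ (by norm_num)]
  set s := v₀ + y • v₀ + y ^ 2 • v₀ + y ^ 3 • v₀ + y ^ 4 • v₀ + y ^ 5 • v₀ + y ^ 6 • v₀ with hs_def
  have hsv : s = v₀ := by
    have h3 : s = v₀ + (a v₀ + (y ^ 6 • v₀ + y ^ 5 • v₀ + y ^ 3 • v₀)) := by rw [hs_def, hav]; abel
    rw [h3, ← key, hs.two, add_zero]
  have hys : y • s = s := by
    rw [hs_def]
    simp only [smul_add, ← mul_smul, ← pow_succ']
    rw [show y * y = y ^ 2 from (pow_two y).symm, show 6 + 1 = 7 from rfl, hy7]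
    abel
  have := hs.semiregular hy hv₀ (by rwa [hsv] at hys)
  rw [this, orderOf_one] at ho
  omega

end Sing

end Cfsg.Agent.RealClassGraph
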