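import Cfsg.Agent.Lib.Block.RealClassGraph.Image
import Cfsg.Agent.S0200

/-!
Descent along the fixed spaces of the powers of the Singer normalizer: the Sylow 2-subgroups are cyclic.
-/

set_option autoImplicit false
set_option linter.unusedSectionVars false
set_option linter.style.haveILetI false
set_option maxHeartbeats 1000000

open scoped Pointwise

namespace Cfsg.Agent.RealClassGraph

open Subgroup

/-- every involution of a group acting irreducibly, with real elements fixed-point-free, fixes half -/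
theorem half_of_irred {Y U : Type*} [Group Y] [Finite Y] [AddCommGroup U] [Finite U]
    [DistribMulAction Y U] (htwo : ∀ u : U, u + u = 0)
    (hfaith : ∀ y : Y, (∀ u : U, y • u = u) → y = 1) (hne : ∃ u : U, u ≠ 0)
    (hirr : ∀ W : AddSubgroup U, W ≠ ⊥ → (∀ y : Y, ∀ w ∈ W, y • w ∈ W) → W = ⊤)
    (hfpf : ∀ (m : Y) (p : ℕ), p.Prime → p ≠ 2 → orderOf m = p → Real m → ∀ u : U, m • u = u → u = 0)
    {j : Y} (hj : j * j = 1) (hj1 : j ≠ 1) :
    Nat.card (Act.fix (U := U) j) * Nat.card (Act.fix (U := U) j) = Nat.card U := by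
  haveI : Fact (Nat.Prime 2) := ⟨Nat.prime_two⟩
  have hjo : orderOf j = 2 := orderOf_eq_prime (by rw [pow_two]; exact hj) hj1
  obtain ⟨h, hh, hodd, hinv⟩ := Cfsg.Agent.S0200.result j hjo fun N hN hNp hjN => by
    set W : AddSubgroup U := fixSub N
    have hW : W ≠ ⊥ := by
      obtain ⟨u0, hu0⟩ := hne
      obtain ⟨e, he⟩ := exists_card_eq htwo (⊤ : AddSubgroup U)
      rw [Nat.card_congr AddSubgroup.topEquiv.toEquiv] at he
      have he0 : e ≠ 0 := fun h0 => hu0 (by
        rw [h0, pow_zero] at he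
        haveI := (Nat.card_eq_one_iff_unique.1 he).1
        exact Subsingleton.elim _ _)
      obtain ⟨b, hb, hb0⟩ := hNp.exists_fixed_point_of_prime_dvd_card_of_fixed_point (α := U)
        (he ▸ dvd_pow_self 2 he0) (a := 0) fun q => smul_zero (q : Y)
      intro hbot
      have : b ∈ W := fun q hq => hb ⟨q, hq⟩
      rw [hbot] at this
      exact hb0 (AddSubgroup.mem_bot.1 this).symm
    have hWtop := hirr W hW fun y w hw q hq => by
      have h1 : y⁻¹ * q * y ∈ N := by
        have := hN.conj_mem q hq y⁻¹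
        rwa [inv_inv] at this
      have h2 := hw _ h1
      rw [mul_smul, mul_smul, inv_smul_eq_iff] at h2
      exact h2
    exact hj1 (hfaith j fun u => (hWtop.symm ▸ AddSubgroup.mem_top u : u ∈ W) j hjN)
  obtain ⟨p, hp, hd⟩ := Nat.exists_prime_and_dvd (n := orderOf h) (fun e => hh (orderOf_eq_one_iff.1 e))
  have hp2 : p ≠ 2 := by
    rintro rfl
    exact (Nat.not_even_iff_odd.2 hodd) (even_iff_two_dvd.2 hd)
  set m := h ^ (orderOf h / p)
  have hmo : orderOf m = p := by
    rw [orderOf_pow_of_dvd ((Nat.div_pos (Nat.le_of_dvd (orderOf_pos h) hd) hp.pos).ne')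
      (Nat.div_dvd_of_dvd hd), Nat.div_div_self hd (orderOf_pos h).ne']
  have hminv : j * m * j⁻¹ = m⁻¹ := by rw [← conj_pow, hinv, inv_pow]
  exact Act.card_fix_sq htwo hj (hmo ▸ hp.odd_of_ne_two hp2) hminv
    (hfpf m p hp hp2 hmo ⟨j, hminv⟩)

variable {X V : Type*} [Group X] [Finite X] [AddCommGroup V] [Finite V] [DistribMulAction X V]
variable {P : ℕ → Prop} {c v : X} {v₀ : V} {d r k L : ℕ}

/-- the fixed space of `v ^ (2 ^ e)` -/
abbrev Lev (V : Type*) {X : Type*} [Group X] [AddCommGroup V] [DistribMulAction X V] (v : X) (e : ℕ) :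
    AddSubgroup V :=
  Act.fix (v ^ 2 ^ e)

namespace Data

variable (hD : Data P X V c v v₀ d r k L)
include hD

theorem norm_pow (j : ℕ) : v ^ j * c * (v ^ j)⁻¹ ∈ zpowers c :=
  (mem_normalizer_iff.1 (pow_mem (mem_normalizer_zpowers hD.norm) j) c).1 (mem_zpowers c)

theorem fix_pow (j : ℕ) : v ^ j • v₀ = v₀ := by
  induction j with
  | zero => rw [pow_zero, one_smul]
  | succ j ih => rw [pow_succ, mul_smul, hD.fixv, ih]

theorem v₀_mem (e : ℕ) : v₀ ∈ Lev V v e := hD.fix_pow _

theorem exists_card_lev : ∃ D0 : ℕ, 0 < D0 ∧ d = 2 ^ L * D0 ∧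
    ∀ e, e ≤ L → Nat.card (Lev V v e) = 2 ^ (2 ^ e * D0) := by
  obtain ⟨D0, hD0⟩ := exists_card_eq hD.sing.two (Lev V v 0)
  have hpow : ∀ e, e ≤ L → ∀ f, Nat.card (Lev V v e) = 2 ^ f → f * 2 ^ (L - e) = d := by
    intro e he f hf
    have h1 := (hD.sing.frobenius (hD.norm_pow (2 ^ e)) hD.ne (hD.fix_pow _)).1
    rw [hf, orderOf_pow_of_dvd (pow_ne_zero _ two_ne_zero) (hD.ord ▸ pow_dvd_pow 2 he), hD.ord,
      Nat.pow_div he (by norm_num), ← pow_mul] at h1
    exact Nat.pow_right_injective le_rfl h1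
  have hd0 := hpow 0 (Nat.zero_le _) D0 hD0
  rw [Nat.sub_zero] at hd0
  refine ⟨D0, ?_, by rw [← hd0, mul_comm], fun e he => ?_⟩
  · rcases D0.eq_zero_or_pos with rfl | h
    · rw [zero_mul] at hd0
      exact absurd hd0.symm hD.sing.pos.ne'
    · exact h
  · obtain ⟨f, hf⟩ := exists_card_eq hD.sing.two (Lev V v e)
    have h1 := hpow e he f hf
    rw [hf]
    congr 1
    refine Nat.eq_of_mul_eq_mul_right (Nat.two_pow_pos (L - e)) ?_
    rw [h1, mul_comm (2 ^ e) D0, mul_assoc, ← pow_add, Nat.add_sub_cancel' he, hd0]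

variable {D0 : ℕ} (hcard : ∀ e, e ≤ L → Nat.card (Lev V v e) = 2 ^ (2 ^ e * D0))
include hcard

theorem commute_lev {e : ℕ} (he : e ≤ L) {y : X} (hy : y ∈ centralizer ({c} : Set X))
    (h : y ^ (2 ^ (2 ^ e * D0) - 1) = 1) : Commute (v ^ 2 ^ e) y := by
  rw [← hcard e he] at h
  exact mul_inv_eq_iff_eq_mul.1
    ((hD.sing.frobenius (hD.norm_pow (2 ^ e)) hD.ne (hD.fix_pow _)).2 y hy h)

theorem smul_lev {e : ℕ} (he : e ≤ L) {y : X} (hy : y ∈ centralizer ({c} : Set X))
    (h : y ^ (2 ^ (2 ^ e * D0) - 1) = 1) : y • Lev V v e = Lev V v e :=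
  Act.smul_fix_of_commute (hD.commute_lev hcard he hy h).symm

theorem v_smul_lev (j e : ℕ) : v ^ j • Lev V v e = Lev V v e :=
  Act.smul_fix_of_commute (Commute.pow_pow_self v j _)

theorem exists_order {e m : ℕ} (he : e ≤ L) (hm : m ∣ Nat.card (Sylow 2 X))
    (hm2 : m ∣ 2 ^ (2 ^ e * D0) - 1) :
    ∃ y ∈ centralizer ({c} : Set X), orderOf y = m ∧ y • Lev V v e = Lev V v e ∧
      Commute (v ^ 2 ^ e) y := by
  obtain ⟨y, hy, hyo⟩ := hD.elem m hm
  have h : y ^ (2 ^ (2 ^ e * D0) - 1) = 1 := orderOf_dvd_iff_pow_eq_one.1 (hyo ▸ hm2)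
  exact ⟨y, hy, hyo, hD.smul_lev hcard he hy h, hD.commute_lev hcard he hy h⟩

theorem k_dvd (hM : Mod P X V) (hd : d = 2 ^ L * D0) : k ∣ D0 := by
  obtain ⟨k', -, hk', hW, -⟩ := hM.exists_k
  have hkk : k' = k := by
    obtain ⟨S⟩ : Nonempty (Sylow 2 X) := inferInstance
    exact Nat.pow_right_injective le_rfl ((hk' S).symm.trans (hD.kcard S))
  subst hkk
  have h := hW (Lev V v 0) fun w hw u hu => by
    have h1 : v ^ 2 ^ 0 ∈ (hM.sylOf w : Subgroup X) := hM.mem_sylOf w hw (a := L) (by
      rw [pow_zero, pow_one, ← hD.ord, pow_orderOf_eq_one])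
    exact hu _ h1
  rw [hcard 0 (Nat.zero_le L), pow_zero, one_mul] at h
  exact Arith.dvd_iff.1 h

theorem component_eq (hM : Mod P X V) (hk : k = D0) :
    Lev V v 0 = fixSub (V := V) (hM.sylOf ⟨v₀, hD.ne⟩ : Subgroup X) := by
  have h1 : v ∈ (hM.sylOf ⟨v₀, hD.ne⟩ : Subgroup X) :=
    hM.mem_sylOf ⟨v₀, hD.ne⟩ hD.fixv (a := L) (by rw [← hD.ord, pow_orderOf_eq_one])
  symm
  refine AddSubgroup.eq_of_le_of_card_ge (fun u hu => ?_) ?_
  · show v ^ 2 ^ 0 • u = u
    rw [pow_zero, pow_one]
    exact hu v h1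
  · rw [hcard 0 (Nat.zero_le L), hD.kcard, hk, pow_zero, one_mul]

theorem not_dvd_base (hM : Mod P X V) {x : X} {p : ℕ} (hp : p.Prime) (hp2 : p ≠ 2)
    (ho : orderOf x = p) (hr : Real x) : ¬ p ∣ 2 ^ D0 - 1 := by
  intro hd
  haveI := Fact.mk hp
  set Q := centralizer ({c} : Set X)
  have hdiv : p ∣ Nat.card Q := by
    have h1 : p ∣ Nat.card Q * Q.index := by
      rw [card_mul_index, ← ho]; exact orderOf_dvd_natCard x
    exact (hp.dvd_mul.1 h1).resolve_right (hD.sylq p hp (hM.side x p hp hp2 ho hr))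
  obtain ⟨y, hy⟩ := exists_prime_orderOf_dvd_card' (G := Q) p hdiv
  have hyo : orderOf (y : X) = p := by rw [orderOf_coe, hy]
  obtain ⟨j, hj⟩ := hD.inv x p hp hp2 ho hr y y.2 hyo
  have hc : Commute v (y : X) := by
    have := hD.commute_lev hcard (Nat.zero_le L) y.2
      (orderOf_dvd_iff_pow_eq_one.1 (by rw [hyo, pow_zero, one_mul]; exact hd))
    rwa [pow_zero, pow_one] at this
  rw [(hc.pow_left j).eq, mul_inv_cancel_right] at hj
  exact sq_ne_one_of_odd (fun e => by rw [e, orderOf_one] at hyo; exact hp.ne_one hyo.symm)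
    (hyo ▸ hp.odd_of_ne_two hp2) (eq_inv_iff_mul_eq_one.1 hj)

theorem semiregular_sub {y : X} (hy : y ∈ centralizer ({c} : Set X)) {U : AddSubgroup V}
    (hyU : y • U = U) (j : ℕ) (u : U) (hu : u ≠ 0) (h : imgOf hyU ^ j • u = u) :
    imgOf hyU ^ j = 1 := by
  have hj : y ^ j • U = U := MulAction.mem_stabilizer_iff.1
    (pow_mem (MulAction.mem_stabilizer_iff.2 hyU) j)
  rw [imgOf_pow hyU j hj] at h ⊢
  have h1 : y ^ j = 1 :=
    hD.sing.semiregular (pow_mem hy j) (fun e => hu (Subtype.ext e)) (congrArg Subtype.val h)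
  exact img_faithful _ fun w => Subtype.ext (by rw [imgOf_smul, h1, one_smul])

theorem imgOf_orderOf {y : X} (hy : y ∈ centralizer ({c} : Set X)) {e : ℕ}
    (hyU : y • Lev V v e = Lev V v e) : orderOf (imgOf hyU) = orderOf y := by
  refine Nat.dvd_antisymm (orderOf_dvd_iff_pow_eq_one.2 ?_) (orderOf_dvd_iff_pow_eq_one.2 ?_)
  · have hj : y ^ orderOf y • Lev V v e = Lev V v e := by rw [pow_orderOf_eq_one, one_smul]
    rw [imgOf_pow hyU _ hj]
    exact img_faithful _ fun w => Subtype.ext (by rw [imgOf_smul, pow_orderOf_eq_one, one_smul])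
  · have hj : y ^ orderOf (imgOf hyU) • Lev V v e = Lev V v e := MulAction.mem_stabilizer_iff.1
      (pow_mem (MulAction.mem_stabilizer_iff.2 hyU) _)
    refine hD.sing.semiregular (pow_mem hy _) hD.ne ?_
    have h := imgOf_pow hyU _ hj
    rw [pow_orderOf_eq_one] at h
    exact (congrArg (fun z : Img X (Lev V v e) => ((z • (⟨v₀, hD.v₀_mem e⟩ : Lev V v e) :
      Lev V v e) : V)) h).symm

/-- an element of order `m`, primitive for `2 ^ f - 1`, is irreducible on a subgroup of size `2 ^ f` -/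
theorem irred_of_order {e : ℕ} {y : X} (hy : y ∈ centralizer ({c} : Set X))
    (hyU : y • Lev V v e = Lev V v e) {f : ℕ} (U' : AddSubgroup (Lev V v e))
    (hU' : Nat.card U' = 2 ^ f) (hprim : ∀ b : ℕ, orderOf y ∣ 2 ^ b - 1 → f ∣ b)
    (W : AddSubgroup (Lev V v e)) (hle : W ≤ U') (hne : W ≠ ⊥)
    (hinv : ∀ w ∈ W, imgOf hyU • w ∈ W) : W = U' := by
  obtain ⟨b, hb⟩ := exists_card_eq (V := Lev V v e) (fun u => Subtype.ext (hD.sing.two u)) W
  have h := orderOf_dvd_of_free (imgOf hyU) W hinv fun j w _ hw0 e' =>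
    hD.semiregular_sub hcard hy hyU j w hw0 e'
  rw [hD.imgOf_orderOf hcard hy hyU, hb] at h
  have hfb := hprim b h
  refine AddSubgroup.eq_of_le_of_card_ge hle ?_
  rw [hb, hU']
  refine Nat.pow_le_pow_right (by norm_num) ?_
  rcases b.eq_zero_or_pos with rfl | hb0
  · exact absurd (AddSubgroup.eq_bot_of_card_eq _ (by rw [hb, pow_zero])) hne
  · exact Nat.le_of_dvd hb0 hfb

theorem exists_quot (hM : Mod P X V) (hd : d = 2 ^ L * D0) {e : ℕ} (he : e ≤ L) :
    ∃ f : ℕ, f * (2 ^ k - 1) = 2 ^ (2 ^ e * D0) - 1 ∧ f ∣ Nat.card (Sylow 2 X) := by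
  obtain ⟨f, hf⟩ := Arith.dvd_iff.2 ((hD.k_dvd hcard hM hd).trans (dvd_mul_left D0 (2 ^ e)))
  refine ⟨f, by rw [hf, mul_comm], ?_⟩
  have h1 : 2 ^ (2 ^ e * D0) - 1 ∣ Nat.card (Sylow 2 X) * (2 ^ k - 1) := by
    rw [hD.count, hd]
    exact Arith.dvd_iff.2 (Nat.mul_dvd_mul_right (pow_dvd_pow 2 he) D0)
  rw [hf, mul_comm (Nat.card _)] at h1
  exact Nat.dvd_of_mul_dvd_mul_left (Nat.sub_pos_of_lt (Nat.one_lt_two_pow hD.kpos.ne')) h1

/-- the bottom level: no involution -/
theorem base (hM : Mod P X V) (hd : d = 2 ^ L * D0) :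
    ¬ 2 ∣ Nat.card (Img X (Lev V v 0)) := by
  intro h2
  haveI : Fact (Nat.Prime 2) := ⟨Nat.prime_two⟩
  obtain ⟨t, ht⟩ := exists_prime_orderOf_dvd_card' 2 h2
  have ht2 : t ^ 2 ^ 1 = 1 := by rw [pow_one, ← ht, pow_orderOf_eq_one]
  have ht1 : t = 1 := by
    by_cases hk : k = D0
    · obtain ⟨g, hg, ⟨b, hb⟩, rfl⟩ := exists_two_preimage t ht2
      have hcomp := hD.component_eq hcard hM hk
      refine img_faithful _ fun u => Subtype.ext ?_
      rw [imgOf_smul]
      exact hM.two_fix_component ⟨v₀, hD.ne⟩ hb (by rw [← hcomp]; exact hg) u (hcomp ▸ u.2)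
    · obtain ⟨f, hf, hfn⟩ := hD.exists_quot hcard hM hd (Nat.zero_le L)
      rw [pow_zero, one_mul] at hf
      obtain ⟨y, hy, hyo, hyU, -⟩ := hD.exists_order hcard (Nat.zero_le L) hfn
        (by rw [pow_zero, one_mul, ← hf]; exact dvd_mul_right _ _)
      have hU : Lev V v 0 ≠ ⊥ := fun h => hD.ne (AddSubgroup.mem_bot.1 (h ▸ hD.v₀_mem 0))
      have hcardU : Nat.card (⊤ : AddSubgroup (Lev V v 0)) = 2 ^ D0 := by
        rw [Nat.card_congr AddSubgroup.topEquiv.toEquiv, hcard 0 (Nat.zero_le L), pow_zero, one_mul]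
      refine img_faithful t fun u => two_elements_trivial (Y := Img X (Lev V v 0))
        (fun u => Subtype.ext (hD.sing.two u)) (⊤ : AddSubgroup (Lev V v 0)) ?_ ⊤
        (fun g _ => Act.stab_iff.2 fun u _ => AddSubgroup.mem_top _)
        (fun m _ s _ p hp hp2 hmo hinv => ?_) (imgOf hyU) (mem_top _)
        (fun W hle hne hinv => hD.irred_of_order hcard hy hyU ⊤ hcardU (fun b hb => by
          rw [hyo] at hb
          exact Arith.dvd_of_quot_dvd (Nat.pos_of_ne_zero fun h0 => hk (by
            have := Nat.le_of_dvd (Nat.pos_of_ne_zero (by rintro rfl; simp at hd; exact hD.sing.pos.ne' hd)) (hD.k_dvd hcard hM hd)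
            omega)) (hD.k_dvd hcard hM hd) hk hf hb) W hle hne hinv)
        (mem_top t) ht2 u (AddSubgroup.mem_top u)
      · intro h
        have h1 : (⟨v₀, hD.v₀_mem 0⟩ : Lev V v 0) ∈ (⊥ : AddSubgroup (Lev V v 0)) :=
          h ▸ AddSubgroup.mem_top _
        exact hD.ne (congrArg Subtype.val (AddSubgroup.mem_bot.1 h1))
      · have hm : Real m := ⟨s, hinv⟩
        obtain ⟨x, -, hxo, hxr, -⟩ := lift_real hM hU m hp hp2 hmo hm
        refine hD.not_dvd_base hcard hM hp hp2 hxo hxr ?_
        have := orderOf_dvd_of_prime hp hmo (⊤ : AddSubgroup (Lev V v 0)) (fun w _ => AddSubgroup.mem_top _)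
          (img_fpf hM m hp hp2 hmo hm)
        rwa [hcardU] at this
  rw [ht1, orderOf_one] at ht
  exact absurd ht (by norm_num)

/-- one step of the descent -/
theorem step (hM : Mod P X V) (hd : d = 2 ^ L * D0) {e : ℕ} (he : e + 1 ≤ L)
    (ih : ¬ 2 ^ (e + 1) ∣ Nat.card (Img X (Lev V v e))) :
    ¬ 2 ^ (e + 1 + 1) ∣ Nat.card (Img X (Lev V v (e + 1))) := by
  classical
  haveI : Fact (Nat.Prime 2) := ⟨Nat.prime_two⟩
  have hD0 : 0 < D0 := Nat.pos_of_ne_zero fun h => by
    rw [h, mul_zero] at hd; exact hD.sing.pos.ne' hd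
  have hkD := hD.k_dvd hcard hM hd
  have hkle : k ≤ D0 := Nat.le_of_dvd hD0 hkD
  set U := Lev V v (e + 1) with hU_def
  set D := 2 ^ e * D0 with hD_def
  have hDpos : 0 < D := Nat.mul_pos (Nat.two_pow_pos e) hD0
  have hDD : 2 ^ (e + 1) * D0 = D + D := by rw [hD_def, pow_succ]; ring
  have hcardU : Nat.card U = 2 ^ (D + D) := by rw [hU_def, hcard (e + 1) he, hDD]
  have hcard' : Nat.card (Lev V v e) = 2 ^ D := hcard e (by omega)
  have hsub : Lev V v e ≤ U := fun u hu => by
    show v ^ 2 ^ (e + 1) • u = u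
    rw [pow_succ, pow_mul, pow_two, mul_smul, show v ^ 2 ^ e • u = u from hu,
      show v ^ 2 ^ e • u = u from hu]
  have hgU := fun j => hD.v_smul_lev hcard j (e + 1)
  set Y := Img X U
  set i : Y := imgOf (hgU (2 ^ e)) with hi_def
  set U' : AddSubgroup U := Act.fix i with hU'_def
  have hmem' : ∀ u : U, u ∈ U' ↔ (u : V) ∈ Lev V v e := fun u =>
    ⟨fun h => congrArg Subtype.val h, fun h => Subtype.ext h⟩
  let eU : U' ≃ Lev V v e :=
    { toFun := fun u => ⟨u.1.1, (hmem' u.1).1 u.2⟩
      invFun := fun u => ⟨⟨u.1, hsub u.2⟩, (hmem' _).2 u.2⟩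
      left_inv := fun _ => rfl
      right_inv := fun _ => rfl }
  have hU'card : Nat.card U' = 2 ^ D := (Nat.card_congr eU).trans hcard'
  have htwo : ∀ u : U, u + u = 0 := fun u => Subtype.ext (hD.sing.two u)
  have hfaith : ∀ y : Y, (∀ u : U, y • u = u) → y = 1 := img_faithful
  have hneU : ∃ u : U, u ≠ 0 := ⟨⟨v₀, hD.v₀_mem _⟩, fun h => hD.ne (congrArg Subtype.val h)⟩
  have hUne : U ≠ ⊥ := fun h => hD.ne (AddSubgroup.mem_bot.1 (h ▸ hD.v₀_mem _))
  have hi2 : i * i = 1 := hfaith _ fun u => Subtype.ext (by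
    rw [mul_smul, imgOf_smul, imgOf_smul, ← mul_smul, ← pow_add, ← two_mul, ← pow_succ']
    exact u.2)
  have hU'top : U' ≠ ⊤ := fun h => by
    have h1 := hU'card
    rw [h, Nat.card_congr AddSubgroup.topEquiv.toEquiv, hcardU] at h1
    have := Nat.pow_right_injective le_rfl h1
    omega
  have hi1 : i ≠ 1 := fun h => hU'top (eq_top_iff.2 fun u _ => by
    show i • u = u
    rw [h, one_smul])
  have hU'bot : U' ≠ ⊥ := fun h => by
    rw [h, AddSubgroup.card_bot] at hU'card
    exact (Nat.one_lt_two_pow hDpos.ne').ne hU'card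
  -- the top level is irreducible
  obtain ⟨fD, hfD, hfDn⟩ := hD.exists_quot hcard hM hd he
  obtain ⟨yD, hyD, hyDo, hyDU, -⟩ := hD.exists_order hcard he hfDn (hfD ▸ dvd_mul_right _ _)
  have hkDD : k ≠ 2 ^ (e + 1) * D0 := by rw [hDD]; have : D0 ≤ D := Nat.le_mul_of_pos_left D0 (Nat.two_pow_pos e); omega
  have hirrD : ∀ W : AddSubgroup U, W ≠ ⊥ → (∀ w ∈ W, imgOf hyDU • w ∈ W) → W = ⊤ := fun W hne hinv =>
    hD.irred_of_order hcard hyD hyDU ⊤
      (by rw [Nat.card_congr AddSubgroup.topEquiv.toEquiv, hcard (e + 1) he])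
      (fun b hb => Arith.dvd_of_quot_dvd (by omega) (hkD.trans (dvd_mul_left D0 _)) hkDD hfD
        (hyDo ▸ hb)) W le_top hne hinv
  have hhalf : ∀ j : Y, j * j = 1 → j ≠ 1 → Nat.card (Act.fix (U := U) j) = 2 ^ D := by
    intro j hj hj1
    have h := half_of_irred htwo hfaith hneU (fun W hne hW => hirrD W hne (hW _))
      (fun m p hp hp2 ho hr => img_fpf hM m hp hp2 ho hr) hj hj1
    rw [hcardU, pow_add] at h
    exact Nat.mul_self_inj.1 h
  have hfix : ∀ t : Y, t * t = 1 → t ≠ 1 → (∀ u ∈ U', t • u = u) → Act.fix (U := U) t = U' :=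
    fun t h2 h1 h => (AddSubgroup.eq_of_le_of_card_ge h (by rw [hhalf t h2 h1, hU'card])).symm
  have hreal_lift : ∀ m : Y, ∀ p : ℕ, p.Prime → p ≠ 2 → orderOf m = p → Real m → m • U' = U' →
      p ∣ 2 ^ D - 1 := by
    intro m p hp hp2 ho hr hst
    have := orderOf_dvd_of_prime hp ho U' (Act.stab_iff.1 hst) (img_fpf hM m hp hp2 ho hr)
    rwa [hU'card] at this
  -- an element `cb` and the centralizer `H` of its part of prime order
  obtain ⟨H, hiH, hmove, h2, h1, hnorm⟩ : ∃ H : Subgroup Y, i ∈ H ∧ (∃ g ∈ H, g • U' ≠ U') ∧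
      (∀ m ∈ H, ∀ t ∈ H, ∀ p : ℕ, p.Prime → p ≠ 2 → orderOf m = p → m • U' = U' →
        t * m * t⁻¹ = m⁻¹ → False) ∧
      (∀ t ∈ H, t * t = 1 → t • U' = U' → ∀ u ∈ U', t • u = u) ∧
      ((∀ t ∈ Act.transv (Y := Y) U', t ∈ H → t = 1 ∨ t = i) →
        ∀ t ∈ Act.transv (Y := Y) U', t = 1 ∨ t = i) := by
    have hmv : ∀ H : Subgroup Y, imgOf hyDU ∈ H → ∃ g ∈ H, g • U' ≠ U' := fun H hH =>
      ⟨_, hH, fun h => hU'top (hirrD U' hU'bot (Act.stab_iff.1 h))⟩
    rcases e.eq_zero_or_pos with rfl | he0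
    · have hD' : D = D0 := by rw [hD_def, pow_zero, one_mul]
      refine ⟨⊤, mem_top _, hmv ⊤ (mem_top _), fun m _ t _ p hp hp2 ho hst hinv => ?_,
        fun t _ ht2 hst => ?_, fun h t ht => h t ht (mem_top _)⟩
      · obtain ⟨x, -, hxo, hxr, -⟩ := lift_real hM hUne m hp hp2 ho ⟨t, hinv⟩
        exact hD.not_dvd_base hcard hM hp hp2 hxo hxr
          (hD' ▸ hreal_lift m p hp hp2 ho ⟨t, hinv⟩ hst)
      · by_cases hk : k = D0
        · obtain ⟨g, hg, ⟨b, hb⟩, rfl⟩ := exists_two_preimage t (a := 1) (by rw [pow_one, pow_two, ht2])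
          have hcomp := hD.component_eq hcard hM hk
          intro u hu
          refine Subtype.ext ?_
          rw [imgOf_smul]
          refine hM.two_fix_component ⟨v₀, hD.ne⟩ hb (Act.stab_iff.2 fun w hw => ?_) u
            (hcomp ▸ (hmem' u).1 hu)
          rw [← hcomp] at hw ⊢
          exact (hmem' _).1 (Act.stab_iff.1 hst ⟨w, hsub hw⟩ ((hmem' _).2 hw))
        · obtain ⟨f, hf, hfn⟩ := hD.exists_quot hcard hM hd (Nat.zero_le L)
          obtain ⟨y, hy, hyo, hyL, hyv⟩ := hD.exists_order hcard (Nat.zero_le L) hfn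
            (hf ▸ dvd_mul_right _ _)
          have hyU : y • U = U := hD.smul_lev hcard he hy (orderOf_dvd_iff_pow_eq_one.1 (by
            rw [hyo]
            exact (hf ▸ dvd_mul_right f _).trans (Arith.dvd_iff.2 (by simp))))
          refine two_elements_trivial htwo U' hU'bot (MulAction.stabilizer Y U') (fun g hg => hg)
            (fun m hm s _ p hp hp2 ho hinv => ?_) (imgOf hyU)
            (MulAction.mem_stabilizer_iff.2 (Act.smul_fix_of_commute (imgOf_commute hyU _ hyv.symm)))
            (fun W hle hne hinv => hD.irred_of_order hcard hy hyU U' hU'card (fun b hb => by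
              rw [hyo] at hb
              rw [hD']
              refine Arith.dvd_of_quot_dvd hD0 hkD hk (f := f) ?_ hb
              simpa using hf) W hle hne hinv)
            (MulAction.mem_stabilizer_iff.2 hst) (a := 1) (by rw [pow_one, pow_two, ht2])
          obtain ⟨x, -, hxo, hxr, -⟩ := lift_real hM hUne m hp hp2 ho ⟨s, hinv⟩
          exact hD.not_dvd_base hcard hM hp hp2 hxo hxr
            (hD' ▸ hreal_lift m p hp hp2 ho ⟨s, hinv⟩ hm)
    · -- a cyclic group of prime power order, primitive for `2 ^ D - 1`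
      have hD2 : 2 * D0 ≤ D := by
        rw [hD_def]; exact Nat.mul_le_mul_right D0 (Nat.pow_le_pow_right (n := 2) (by norm_num) he0)
      obtain ⟨N, r', s, hr', hN, hNn, hN2, hNprim, hcase⟩ : ∃ N r' s : ℕ, r'.Prime ∧ N = r' ^ (s + 1) ∧
          N ∣ Nat.card (Sylow 2 X) ∧ N ∣ 2 ^ D - 1 ∧ (∀ b, N ∣ 2 ^ b - 1 → D ∣ b) ∧
          ((∀ b, r' ∣ 2 ^ b - 1 → D ∣ b) ∨ (r' = 3 ∧ D = 6)) := by
        by_cases h6 : D = 6
        · refine ⟨9, 3, 1, by norm_num, by norm_num, ?_, by rw [h6]; norm_num,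
            fun b hb => h6 ▸ Arith.six_dvd_of_nine hb, Or.inr ⟨rfl, h6⟩⟩
          have h9 : 9 ∣ Nat.card (Sylow 2 X) * (2 ^ k - 1) := by
            rw [hD.count, hd]
            refine (show 9 ∣ 2 ^ 6 - 1 by norm_num).trans (Arith.dvd_iff.2 ?_)
            rw [← h6, hD_def]
            exact Nat.mul_dvd_mul_right (pow_dvd_pow 2 (by omega)) D0
          have hD03 : D0 = 3 := by
            have h1 : D0 ∣ 6 := h6 ▸ dvd_mul_left D0 (2 ^ e)
            have h2 : D0 ≤ 3 := by omega
            interval_cases D0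
            · exfalso
              obtain ⟨q, hq⟩ : (3 : ℕ) ∣ 2 ^ e := ⟨2, by rw [hD_def] at h6; omega⟩
              have := Nat.prime_three.dvd_of_dvd_pow (Dvd.intro q hq.symm)
              norm_num at this
            · exfalso
              obtain ⟨q, hq⟩ : (3 : ℕ) ∣ 2 ^ e := ⟨1, by rw [hD_def] at h6; omega⟩
              have := Nat.prime_three.dvd_of_dvd_pow (Dvd.intro q hq.symm)
              norm_num at this
            · rfl
          have hk13 : k = 1 ∨ k = 3 := (Nat.dvd_prime Nat.prime_three).1 (hD03 ▸ hkD)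
          refine Nat.Coprime.dvd_of_dvd_mul_right ?_ h9
          rcases hk13 with rfl | rfl <;> norm_num
        · obtain ⟨r', hr', -, hr'd, hr'p⟩ := Arith.exists_primitive (n := D) (by omega) h6
          refine ⟨r', r', 0, hr', (pow_one r').symm, ?_, hr'd, hr'p, Or.inl hr'p⟩
          have h1 : r' ∣ Nat.card (Sylow 2 X) * (2 ^ k - 1) := by
            rw [hD.count, hd]
            exact hr'd.trans (Arith.dvd_iff.2 (hD_def ▸ Nat.mul_dvd_mul_right (pow_dvd_pow 2 (by omega)) D0))
          refine (hr'.dvd_mul.1 h1).resolve_right fun h => ?_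
          have := Nat.le_of_dvd hD.kpos (hr'p k h)
          omega
      haveI := Fact.mk hr'
      obtain ⟨y, hy, hyo, hyL, hyv⟩ := hD.exists_order hcard (by omega : e ≤ L) hNn hN2
      have hpowU : ∀ z ∈ centralizer ({c} : Set X), z ^ (2 ^ D - 1) = 1 → z • U = U := fun z hz hz1 =>
        hD.smul_lev hcard he hz (orderOf_dvd_iff_pow_eq_one.1 ((orderOf_dvd_of_pow_eq_one hz1).trans
          (Arith.dvd_iff.2 ⟨2, by rw [hDD]; ring⟩)))
      have hy1 : y ^ (2 ^ D - 1) = 1 := orderOf_dvd_iff_pow_eq_one.1 (hyo ▸ hN2)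
      have hyU := hpowU y hy hy1
      set y0 := y ^ r' ^ s with hy0_def
      have hy0 : y0 ∈ centralizer ({c} : Set X) := pow_mem hy _
      have hy01 : y0 ^ (2 ^ D - 1) = 1 := by rw [hy0_def, pow_right_comm, hy1, one_pow]
      have hy0U := hpowU y0 hy0 hy01
      have hy0o : orderOf y0 = r' := by
        rw [hy0_def, orderOf_pow_of_dvd (pow_ne_zero _ hr'.ne_zero) (by rw [hyo, hN]; exact pow_dvd_pow _ (by omega)),
          hyo, hN, Nat.pow_div (by omega) hr'.pos, Nat.add_sub_cancel_left, pow_one]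
      have hQc : ∀ a ∈ centralizer ({c} : Set X), ∀ b ∈ centralizer ({c} : Set X), Commute a b := by
        intro a ha b hb
        haveI := hD.sing.centralizer_cyclic
        letI : CommGroup (centralizer ({c} : Set X)) := IsCyclic.commGroup
        exact congrArg Subtype.val (mul_comm (⟨a, ha⟩ : centralizer ({c} : Set X)) ⟨b, hb⟩)
      set cb := imgOf hyU with hcb
      set c0 := imgOf hy0U with hc0
      set H := centralizer ({c0} : Set Y)
      have hcbU' : cb • U' = U' := Act.smul_fix_of_commute (imgOf_commute hyU _ hyv.symm)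
      have hiH : i ∈ H := mem_cent.2 (imgOf_commute (hgU _) hy0U (hyv.pow_right _)).eq
      have h2H : ∀ m ∈ H, ∀ t ∈ H, ∀ p : ℕ, p.Prime → p ≠ 2 → orderOf m = p → m • U' = U' →
          t * m * t⁻¹ = m⁻¹ → False := by
        intro m hm t ht p hp hp2 ho hst hinv
        haveI := Fact.mk hp
        have hr : Real m := ⟨t, hinv⟩
        have hpD := hreal_lift m p hp hp2 ho hr hst
        obtain ⟨x, -, hxo, hxr, -⟩ := lift_real hM hUne m hp hp2 ho hr
        obtain ⟨P0, hP0⟩ := exists_sylow_le (q := p) (centralizer ({c} : Set X))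
          (hD.sylq p hp (hM.side x p hp hp2 hxo hxr))
        have hP0U : (P0 : Subgroup X) ≤ MulAction.stabilizer X U := fun z hz => by
          refine MulAction.mem_stabilizer_iff.2 (hpowU z (hP0 hz) (orderOf_dvd_iff_pow_eq_one.1 ?_))
          obtain ⟨a, ha⟩ := P0.isPGroup' ⟨z, hz⟩
          obtain ⟨b, -, hb⟩ := (Nat.dvd_prime_pow hp).1
            (orderOf_dvd_of_pow_eq_one (show z ^ p ^ a = 1 by simpa using congrArg Subtype.val ha))
          rw [hb]
          refine Arith.prime_pow_dvd hp hp2 hpD (L - e) ?_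
          rw [hD_def, mul_comm (2 ^ e) D0, mul_assoc, ← pow_add, Nat.add_sub_cancel' (by omega : e ≤ L),
            mul_comm D0, ← hd, ← hb]
          exact ((centralizer ({c} : Set X)).orderOf_dvd_natCard (hP0 hz)).trans hD.sing.centralizer_card_dvd
        set Pb := (P0.subtype hP0U).mapSurjective (stabPerm (X := X) U).rangeRestrict_surjective
        have hPbH : (Pb : Subgroup Y) ≤ H := by
          rw [Sylow.coe_mapSurjective]
          rintro _ ⟨z, hz, rfl⟩
          exact mem_cent.2 (imgOf_commute z.2 hy0U (hQc _ (hP0 hz) _ hy0)).eq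
        obtain ⟨Pm, hPm⟩ := (IsPGroup.of_card (n := 1) (by
          rw [Nat.card_zpowers, orderOf_mk, ho, pow_one]) : IsPGroup p (zpowers (⟨m, hm⟩ : H))).exists_le_sylow
        obtain ⟨h, hh⟩ := MulAction.exists_smul_eq H Pm (Pb.subtype hPbH)
        have hmem : (⟨(h : Y) * m * (h : Y)⁻¹, mul_mem (mul_mem h.2 hm) (inv_mem h.2)⟩ : H) ∈
            (Pb.subtype hPbH : Subgroup H) := by
          rw [← hh]
          exact ⟨⟨m, hm⟩, hPm (mem_zpowers _), rfl⟩
        have hmem' : (h : Y) * m * (h : Y)⁻¹ ∈ (Pb : Subgroup Y) := hmem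
        rw [Sylow.coe_mapSurjective] at hmem'
        obtain ⟨z, hz, hze⟩ := hmem'
        have hz' : (z : X) ∈ centralizer ({c} : Set X) := hP0 hz
        have hzo : orderOf (z : X) = p := by
          rw [← hD.imgOf_orderOf hcard hz' z.2, show imgOf z.2 = (stabPerm U).rangeRestrict z from rfl, hze,
            Invol.orderOf_conj_eq, ho]
        have hz1 : (z : X) ^ (2 ^ D - 1) = 1 := orderOf_dvd_iff_pow_eq_one.1 (hzo ▸ hpD)
        -- `z` acts as an element commuting with all of `H`
        have hcomm : ∀ a ∈ H, Commute a ((h : Y) * m * (h : Y)⁻¹) := by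
          intro a ha
          rw [← hze]
          rcases hcase with hprim | ⟨hr3, hD6⟩
          · set ρ := DistribMulAction.toAddMonoidEnd X V
            set B := Subring.closure {ρ y0}
            let φ : B →+ V :=
              { toFun := fun b => (b : AddMonoid.End V) v₀
                map_zero' := rfl
                map_add' := fun _ _ => rfl }
            have hy0e : Commute (v ^ 2 ^ e) y0 := hD.commute_lev hcard (by omega) hy0 hy01
            have hB : ∀ b ∈ B, (∀ w ∈ Lev V v e, b w ∈ Lev V v e) ∧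
                ∀ u : U, ∃ hu : b (u : V) ∈ U, ((a • (⟨b (u : V), hu⟩ : U) : U) : V) = b ((a • u : U) : V) := by
              intro b hb
              induction hb using Subring.closure_induction with
              | mem f hf =>
                obtain rfl := Set.mem_singleton_iff.1 hf
                refine ⟨fun w hw => Act.stab_iff.1 (Act.smul_fix_of_commute hy0e.symm) w hw, fun u =>
                  ⟨Act.stab_iff.1 hy0U u u.2, ?_⟩⟩
                exact congrArg (fun q : U => (q : V)) (((mul_smul a c0 u).symm.trans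
                  (congrArg (fun q : Y => q • u) (mem_cent.1 ha))).trans (mul_smul c0 a u))
              | zero =>
                refine ⟨fun w _ => zero_mem _, fun u => ⟨zero_mem _, ?_⟩⟩
                exact congrArg Subtype.val (smul_zero a)
              | one => exact ⟨fun w hw => hw, fun u => ⟨u.2, rfl⟩⟩
              | add f g _ _ hf hg =>
                refine ⟨fun w hw => add_mem (hf.1 w hw) (hg.1 w hw), fun u => ?_⟩
                obtain ⟨h1, e1⟩ := hf.2 u
                obtain ⟨h2, e2⟩ := hg.2 u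
                refine ⟨add_mem h1 h2, ?_⟩
                show ((a • ((⟨f u, h1⟩ : U) + ⟨g u, h2⟩) : U) : V) = f ((a • u : U) : V) + g ((a • u : U) : V)
                rw [smul_add, AddSubgroup.coe_add, e1, e2]
              | neg f _ hf =>
                refine ⟨fun w hw => neg_mem (hf.1 w hw), fun u => ?_⟩
                obtain ⟨h1, e1⟩ := hf.2 u
                refine ⟨neg_mem h1, ?_⟩
                show ((a • (-(⟨f u, h1⟩ : U)) : U) : V) = -(f ((a • u : U) : V))
                rw [smul_neg, AddSubgroup.coe_neg, e1]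
              | mul f g _ _ hf hg =>
                refine ⟨fun w hw => hf.1 _ (hg.1 w hw), fun u => ?_⟩
                obtain ⟨h2, e2⟩ := hg.2 u
                obtain ⟨h1, e1⟩ := hf.2 ⟨g u, h2⟩
                refine ⟨h1, ?_⟩
                show _ = f (g ((a • u : U) : V))
                rw [← e2]
                exact e1
            have hle : φ.range ≤ Lev V v e := by
              rintro _ ⟨b, rfl⟩
              exact (hB b b.2).1 v₀ (hD.v₀_mem e)
            have hr'one : (v₀ : V) ∈ φ.range := ⟨1, rfl⟩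
            have hinvW : ∀ w ∈ φ.range, y0 • w ∈ φ.range := by
              rintro _ ⟨b, rfl⟩
              exact ⟨⟨ρ y0, Subring.subset_closure rfl⟩ * b, rfl⟩
            have hr'W := orderOf_dvd_of_free y0 φ.range hinvW fun j w _ hw e' =>
              hD.sing.semiregular (pow_mem hy0 j) hw e'
            obtain ⟨b, hb⟩ := exists_card_eq hD.sing.two φ.range
            rw [hy0o, hb] at hr'W
            have hbpos : 0 < b := by
              rcases b.eq_zero_or_pos with rfl | h
              · have := AddSubgroup.eq_bot_of_card_eq _ (hb.trans (pow_zero 2))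
                exact absurd (AddSubgroup.mem_bot.1 (this ▸ hr'one)) hD.ne
              · exact h
            have heq : φ.range = Lev V v e := AddSubgroup.eq_of_le_of_card_ge hle (by
              rw [hb, hcard']
              exact Nat.pow_le_pow_right (by norm_num) (Nat.le_of_dvd hbpos (hprim b hr'W)))
            have hzv : (z : X) • v₀ ∈ φ.range := by
              rw [heq]
              exact Act.stab_iff.1 (Act.smul_fix_of_commute (hD.commute_lev hcard (by omega) hz' hz1).symm)
                v₀ (hD.v₀_mem e)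
            obtain ⟨b', hb'⟩ := hzv
            have hbz : (b' : AddMonoid.End V) = ρ z := hD.sing.eval_inj hD.ne
              (Subring.closure_le.2 (Set.singleton_subset_iff.2 (hD.sing.centralizer_mem hy0)) b'.2)
              (hD.sing.centralizer_mem hz') hb'
            refine Subtype.ext (Equiv.ext fun u => Subtype.ext ?_)
            obtain ⟨hu, heu⟩ := (hB b' b'.2).2 u
            show ((a • (imgOf z.2 • u) : U) : V) = (z : X) • ((a • u : U) : V)
            have h5 : imgOf z.2 • u = (⟨(b' : AddMonoid.End V) (u : V), hu⟩ : U) := Subtype.ext (by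
              show (z : X) • (u : V) = _
              exact (DFunLike.congr_fun hbz (u : V)).symm)
            rw [h5, heu]
            exact DFunLike.congr_fun hbz ((a • u : U) : V)
          · have hp37 : p = 3 ∨ p = 7 := by
              have h63 : p ∣ 3 * 3 * 7 := by rw [hD6] at hpD; simpa using hpD
              rcases hp.dvd_mul.1 h63 with h | h
              · rcases hp.dvd_mul.1 h with h | h <;>
                  exact Or.inl ((Nat.prime_dvd_prime_iff_eq hp Nat.prime_three).1 h)
              · exact Or.inr ((Nat.prime_dvd_prime_iff_eq hp (by norm_num)).1 h)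
            rcases hp37 with rfl | rfl
            · haveI := hD.sing.centralizer_cyclic
              obtain ⟨q, hq⟩ := mem_zpowers_iff.1 (mem_zpowers_of_orderOf' (C := centralizer ({c} : Set X))
                hz' hy0 (dvd_of_eq (by rw [hzo, hy0o, hr3])))
              have hq' : c0 ^ q = (stabPerm U).rangeRestrict z := by
                rw [hc0, imgOf, ← map_zpow]
                exact congrArg _ (Subtype.ext (by simpa using hq))
              rw [← hq']
              exact (show Commute a c0 from mem_cent.1 ha).zpow_right q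
            · exfalso
              obtain ⟨j, hj⟩ := hD.inv x 7 hp hp2 hxo hxr z hz' hzo
              exact hD.sing.not_inverted_seven hz' hzo hj
        set m' := (h : Y) * m * (h : Y)⁻¹ with hm'
        have hm'inv : ((h : Y) * t * (h : Y)⁻¹) * m' * ((h : Y) * t * (h : Y)⁻¹)⁻¹ = m'⁻¹ := by
          rw [hm', show (h : Y) * t * (h : Y)⁻¹ * ((h : Y) * m * (h : Y)⁻¹) * ((h : Y) * t * (h : Y)⁻¹)⁻¹ =
            (h : Y) * (t * m * t⁻¹) * (h : Y)⁻¹ by group, hinv, conj_inv]
        rw [(hcomm _ (mul_mem (mul_mem h.2 ht) (inv_mem h.2))).eq, mul_inv_cancel_right] at hm'inv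
        have ho' : orderOf m' = p := by rw [hm', Invol.orderOf_conj_eq, ho]
        exact sq_ne_one_of_odd (fun e' => by rw [e', orderOf_one] at ho'; exact hp.ne_one ho'.symm)
          (ho' ▸ hp.odd_of_ne_two hp2) (eq_inv_iff_mul_eq_one.1 hm'inv)
      refine ⟨H, hiH, hmv H (mem_cent.2 (imgOf_commute hyDU hy0U (hQc _ hyD _ hy0)).eq), ?_, ?_, ?_⟩
      rotate_right
      · -- free action on the rest of the transvection group
        intro hH t ht
        by_cases htH : t ∈ H
        · exact hH t ht htH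
        exfalso
        set T := Act.transv (Y := Y) U' with hT
        have hTinv : ∀ a ∈ T, a ≠ 1 → Act.fix (U := U) a = U' := fun a ha ha1 =>
          hfix a (Act.transv_sq htwo hfaith ha) ha1 ha.1
        let S := {a : Y // a ∈ T ∧ a ∉ H}
        have hiT : i ∈ T := ⟨fun w hw => hw, fun u => by
          show i • (i • u - u) = i • u - u
          rw [smul_sub, ← mul_smul, hi2, one_smul, ← Act.neg_eq_self htwo (i • u - u), neg_sub]⟩
        have hcN : ∀ z ∈ zpowers cb, z • U' = U' := fun z hz => MulAction.mem_stabilizer_iff.1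
          (zpowers_le.2 (MulAction.mem_stabilizer_iff.2 hcbU') hz)
        have hcH : ∀ z ∈ zpowers cb, z ∈ H := fun z hz => zpowers_le.2
          (mem_cent.2 (imgOf_commute hyU hy0U ((Commute.refl y).pow_right _)).eq) hz
        have hconj : ∀ z ∈ zpowers cb, ∀ a : Y, a ∈ T → a ∉ H → z * a * z⁻¹ ∈ T ∧ z * a * z⁻¹ ∉ H := by
          intro z hz a haT haH
          have hst := Act.stab_iff.1 (hcN z hz)
          have hst' := Act.stab_iff.1 (hcN z⁻¹ (inv_mem hz))
          refine ⟨⟨fun w hw => ?_, fun u => ?_⟩, fun hh => haH ?_⟩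
          · rw [mul_smul, mul_smul, haT.1 _ (hst' w hw), smul_inv_smul]
          · have h1 := hst _ (haT.2 (z⁻¹ • u))
            rw [smul_sub, smul_inv_smul] at h1
            rwa [mul_smul, mul_smul]
          · have := mul_mem (mul_mem (inv_mem (hcH z hz)) hh) (hcH z hz)
            rwa [show z⁻¹ * (z * a * z⁻¹) * z = a by group] at this
        letI : MulAction (zpowers cb) S :=
          { smul := fun z a => ⟨(z : Y) * a.1 * (z : Y)⁻¹, hconj z z.2 a.1 a.2.1 a.2.2⟩
            one_smul := fun a => Subtype.ext (show (1 : Y) * a.1 * (1 : Y)⁻¹ = a.1 by group)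
            mul_smul := fun z z' a => Subtype.ext (show ((z : Y) * z') * a.1 * ((z : Y) * z')⁻¹ =
              (z : Y) * ((z' : Y) * a.1 * (z' : Y)⁻¹) * (z : Y)⁻¹ by group) }
        have hcbo : orderOf cb = r' ^ (s + 1) := by rw [hcb, hD.imgOf_orderOf hcard hy hyU, hyo, hN]
        have hdS := Act.orderOf_dvd_card (⟨cb, mem_zpowers cb⟩ : zpowers cb) (S := S) fun j a e' => by
          have e'' : cb ^ j * a.1 * (cb ^ j)⁻¹ = a.1 := congrArg Subtype.val e'
          refine Subtype.ext ?_
          show cb ^ j = 1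
          by_contra hne
          refine a.2.2 (mem_cent.2 ?_)
          have hdvd : orderOf c0 ∣ orderOf (cb ^ j) := by
            obtain ⟨b, -, hb⟩ := (Nat.dvd_prime_pow hr').1 (hcbo ▸ orderOf_pow_dvd j)
            rcases b.eq_zero_or_pos with rfl | hb0
            · exact absurd (orderOf_eq_one_iff.1 (by rw [hb, pow_zero])) hne
            · rw [hc0, hD.imgOf_orderOf hcard hy0 hy0U, hy0o, hb]
              exact dvd_pow_self _ hb0.ne'
          have hc0mem : c0 ∈ zpowers cb := ⟨(r' ^ s : ℕ), by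
            show cb ^ ((r' ^ s : ℕ) : ℤ) = c0
            rw [zpow_natCast, hcb, hc0, imgOf_pow hyU _ hy0U]⟩
          haveI : IsCyclic (zpowers cb) := isCyclic_zpowers cb
          obtain ⟨q, hq⟩ := mem_zpowers_iff.1
            (mem_zpowers_of_orderOf' (C := zpowers cb) hc0mem (pow_mem (mem_zpowers cb) j) hdvd)
          have hcomm : Commute a.1 (cb ^ j) := (mul_inv_eq_iff_eq_mul.1 e'').symm
          exact (hq ▸ hcomm.zpow_right q : Commute a.1 c0).eq
        rw [Subgroup.orderOf_mk, hcbo, ← hN] at hdS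
        have hT2 : IsPGroup 2 T := fun a => ⟨1, Subtype.ext (by
          rw [coe_pow, pow_one, pow_two]; exact Act.transv_sq htwo hfaith a.2)⟩
        obtain ⟨b, hb⟩ := IsPGroup.iff_card.1 hT2
        have hbD : b ≤ D := by
          have := Act.card_transv_le htwo hfaith hU'top hTinv
          rw [hb, hU'card] at this
          exact (Nat.pow_le_pow_iff_right (by norm_num : 1 < 2)).1 this
        have hsplit : Nat.card S + 2 = 2 ^ b := by
          rw [← hb]
          haveI := Fintype.ofFinite T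
          have hmemH : Nat.card {a : T // (a : Y) ∈ H} = 2 := by
            rw [Nat.card_eq_two_iff]
            refine ⟨⟨⟨1, one_mem _⟩, one_mem H⟩, ⟨⟨i, hiT⟩, hiH⟩, fun h => hi1 ?_, ?_⟩
            · exact (congrArg (fun a : {a : T // (a : Y) ∈ H} => ((a.1 : T) : Y)) h).symm
            · refine Set.eq_univ_of_forall fun a => ?_
              rcases hH _ a.1.2 a.2 with h | h
              · exact Or.inl (Subtype.ext (Subtype.ext h))
              · exact Or.inr (Subtype.ext (Subtype.ext h))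
          rw [← hmemH, ← Nat.card_congr (Equiv.sumCompl fun a : T => (a : Y) ∈ H), Nat.card_sum, add_comm]
          congr 1
          exact Nat.card_congr ⟨fun a => ⟨⟨a.1, a.2.1⟩, a.2.2⟩, fun a => ⟨a.1.1, a.1.2, a.2⟩,
            fun _ => rfl, fun _ => rfl⟩
        have hSpos : 0 < Nat.card S := by
          haveI : Nonempty S := ⟨⟨t, ht, htH⟩⟩
          exact Nat.card_pos
        rcases b.eq_zero_or_pos with rfl | hb0
        · simp at hsplit
        obtain ⟨b', rfl⟩ := Nat.exists_eq_add_of_le hb0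
        have hS2 : Nat.card S = 2 * (2 ^ b' - 1) := by
          rw [Nat.succ_eq_add_one, zero_add, pow_add, pow_one] at hsplit
          omega
        rw [hS2] at hdS
        have hcop : Nat.Coprime N 2 := Nat.coprime_two_right.2 (Odd.of_dvd_nat
          (Nat.Even.sub_odd Nat.one_le_two_pow ((Nat.even_pow.2 ⟨even_two, hDpos.ne'⟩)) odd_one) hN2)
        have := hNprim b' (hcop.dvd_of_dvd_mul_left hdS)
        rcases b'.eq_zero_or_pos with rfl | hb'
        · simp at hS2; omega
        · have := Nat.le_of_dvd hb' this; omega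
      · exact h2H
      · -- 2-elements stabilizing `U'`
        intro t ht ht2 hst
        have hcbmem : cb ∈ H ⊓ MulAction.stabilizer Y U' := Subgroup.mem_inf.2
          ⟨mem_cent.2 (imgOf_commute hyU hy0U ((Commute.refl y).pow_right _)).eq, hcbU'⟩
        refine two_elements_trivial htwo U' hU'bot (H ⊓ MulAction.stabilizer Y U') (fun g hg => hg.2)
          (fun m hm s hs p hp hp2 ho hinv => ?_) cb hcbmem
          (fun W hle hne hinv => hD.irred_of_order hcard hy hyU U' hU'card
            (fun b hb => hNprim b (hyo ▸ hb)) W hle hne hinv)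
          (Subgroup.mem_inf.2 ⟨ht, hst⟩) (a := 1) (by rw [pow_one, pow_two, ht2])
        exact h2H m hm.1 s hs.1 p hp hp2 ho hm.2 hinv
  -- the transvection group is `{1, i}`
  have hTH : ∀ t ∈ Act.transv (Y := Y) U', t ∈ H → t = 1 ∨ t = i := by
    intro t ht htH
    by_cases ht1 : t = 1
    · exact Or.inl ht1
    refine Or.inr (Act.unique_involution htwo H U'
      (fun s hs hs2 hs1 hst => hfix s hs2 hs1 (h1 s hs hs2 hst)) h2 hmove hiH hi2 hi1 rfl htH
      (Act.transv_sq htwo hfaith ht) ht1 (hfix t (Act.transv_sq htwo hfaith ht) ht1 ht.1))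
  have hT := hnorm hTH
  -- the centralizer of `i` acts on `U'`
  set C := centralizer ({i} : Set Y)
  have hCst : ∀ z ∈ C, ∀ u ∈ U', z • u ∈ U' := fun z hz =>
    Act.stab_iff.1 (Act.smul_fix_of_commute (mem_cent.1 hz))
  let φ : C →* Equiv.Perm (Lev V v e) :=
    { toFun := fun z =>
        { toFun := fun u => eU ⟨(z : Y) • (eU.symm u).1, hCst z z.2 _ (eU.symm u).2⟩
          invFun := fun u => eU ⟨(z : Y)⁻¹ • (eU.symm u).1, hCst _ (inv_mem z.2) _ (eU.symm u).2⟩
          left_inv := fun u => by simp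
          right_inv := fun u => by simp }
      map_one' := Equiv.ext fun u => by simp
      map_mul' := fun z z' => Equiv.ext fun u => by simp [mul_smul] }
  have hker : Nat.card φ.ker ≤ 2 := by
    have hval : ∀ z : φ.ker, ((z : C) : Y) = 1 ∨ ((z : C) : Y) = i := fun z => by
      have hz : ∀ u ∈ U', ((z : C) : Y) • u = u := fun u hu => by
        have h := congrArg (fun q : Equiv.Perm (Lev V v e) => eU.symm (q (eU ⟨u, hu⟩))) (MonoidHom.mem_ker.1 z.2)
        simpa [φ] using congrArg Subtype.val h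
      refine hT _ ⟨hz, fun u => ?_⟩
      show i • (((z : C) : Y) • u - u) = ((z : C) : Y) • u - u
      have hiu : i • u - u ∈ U' := by
        show i • (i • u - u) = i • u - u
        rw [smul_sub, ← mul_smul, hi2, one_smul, ← Act.neg_eq_self htwo (i • u - u), neg_sub]
      have h := hz _ hiu
      rw [smul_sub, ← mul_smul, mem_cent.1 (z : C).2, mul_smul] at h
      rw [smul_sub]
      exact sub_eq_sub_iff_sub_eq_sub.1 h
    refine (Nat.card_le_card_of_injective (fun z : φ.ker => decide (((z : C) : Y) = 1)) ?_).trans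
      (by rw [Nat.card_eq_fintype_card, Fintype.card_bool])
    intro a b hab
    refine Subtype.ext (Subtype.ext ?_)
    rcases hval a with ha | ha <;> rcases hval b with hb | hb
    · rw [ha, hb]
    · simp [ha, hb, hi1] at hab
    · simp [ha, hb, hi1] at hab
    · rw [ha, hb]
  have hrange : φ.range ≤ Img X (Lev V v e) := by
    rintro _ ⟨z, rfl⟩
    obtain ⟨g, hg, hgz⟩ := exists_preimage (z : Y)
    have hgL : g • Lev V v e = Lev V v e := Act.stab_iff.2 fun w hw => by
      have := (hmem' _).1 (hCst z z.2 ⟨w, hsub hw⟩ ((hmem' _).2 hw))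
      rwa [hgz] at this
    refine ⟨⟨g, hgL⟩, Equiv.ext fun u => Subtype.ext ?_⟩
    show g • (u : V) = (((z : Y) • (eU.symm u).1 : U) : V)
    rw [hgz]
    rfl
  -- conclude
  have hgv := hgU 1
  have hipow : i = imgOf hgv ^ 2 ^ e := by
    have hh : (v ^ 1) ^ 2 ^ e • U = U := by rw [pow_one]; exact hgU _
    rw [imgOf_pow hgv _ hh]
    exact congrArg (stabPerm U).rangeRestrict (Subtype.ext (congrArg (fun g : X => g ^ 2 ^ e) (pow_one v).symm))
  refine two_part_bound (g := imgOf hgv) ?_ hipow fun hdvd => ?_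
  · refine orderOf_eq_prime_pow (fun h => hi1 (hipow.trans h)) ?_
    exact (congrArg (fun n => imgOf hgv ^ n) (pow_succ 2 e)).trans
      (((pow_mul _ _ 2).trans (congrArg (· ^ 2) hipow.symm)).trans ((pow_two i).trans hi2))
  · rw [← φ.ker.card_mul_index, Subgroup.index_ker] at hdvd
    have h5 : Nat.card φ.ker * Nat.card φ.range ∣ Nat.card φ.ker * Nat.card (Img X (Lev V v e)) :=
      mul_dvd_mul_left _ (card_dvd_of_le hrange)
    have hdvd' := hdvd.trans h5
    rcases (show Nat.card φ.ker = 1 ∨ Nat.card φ.ker = 2 by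
      have := Nat.card_pos (α := φ.ker)
      omega) with hk | hk
    · rw [hk, one_mul] at hdvd'
      exact ih ((pow_dvd_pow 2 (Nat.le_succ _)).trans hdvd')
    · rw [hk, pow_succ'] at hdvd'
      exact ih (Nat.dvd_of_mul_dvd_mul_left (by norm_num) hdvd')

theorem solvable (hM : Mod P X V) (hd : d = 2 ^ L * D0) : Group.IsSolvable X := by
  haveI : Fact (Nat.Prime 2) := ⟨Nat.prime_two⟩
  have main : ∀ e, e ≤ L → ¬ 2 ^ (e + 1) ∣ Nat.card (Img X (Lev V v e)) := by
    intro e
    induction e with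
    | zero => intro _; rw [zero_add, pow_one]; exact hD.base hcard hM hd
    | succ e ih => intro he; exact hD.step hcard hM hd he (ih (by omega))
  refine isSolvable_of_two_part hD.ord fun hdvd => main L le_rfl ?_
  have hv1 : v ^ 2 ^ L = 1 := by rw [← hD.ord, pow_orderOf_eq_one]
  have hall : ∀ u : V, u ∈ Lev V v L := fun u => by
    show v ^ 2 ^ L • u = u
    rw [hv1, one_smul]
  have hst : ∀ g : X, g • Lev V v L = Lev V v L := fun g => Act.stab_iff.2 fun w _ => hall _
  refine hdvd.trans (dvd_of_eq (Nat.card_congr (Equiv.ofBijective (fun g : X => imgOf (hst g)) ⟨?_, ?_⟩)))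
  · intro g h e
    refine (inv_mul_eq_one.1 (hM.faithful _ fun u => ?_)).symm
    rw [mul_smul, inv_smul_eq_iff]
    exact congrArg (fun z : Img X (Lev V v L) => ((z • (⟨u, hall u⟩ : Lev V v L) : Lev V v L) : V)) e
  · intro y
    obtain ⟨g, rfl⟩ := (stabPerm (Lev V v L)).rangeRestrict_surjective y
    exact ⟨g, rfl⟩

end Data

end Cfsg.Agent.RealClassGraph
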