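import Cfsg.Agent.Lib.Block.RealClassGraph.Six

/-!
A disconnected real class size graph forces solvability.
-/

set_option autoImplicit false
set_option linter.unusedSectionVars false

namespace Cfsg.Agent.RealClassGraph

universe u

theorem isSolvable_of_mod {P : ℕ → Prop} (X V : Type u) [Group X] [Finite X] [AddCommGroup V] [Finite V]
    [DistribMulAction X V] (hM : Mod P X V) : Group.IsSolvable X := by
  obtain ⟨d, hd⟩ := exists_card_eq hM.two (⊤ : AddSubgroup V)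
  rw [Nat.card_congr AddSubgroup.topEquiv.toEquiv] at hd
  by_cases h6 : d = 6
  · exact solvable_six hM (by rw [hd, h6]; norm_num)
  by_cases hreal : ∃ (x : X) (p : ℕ), p.Prime ∧ p ≠ 2 ∧ orderOf x = p ∧ Real x
  swap
  · push Not at hreal
    exact hM.solvable_of_no_real fun x p hp hp2 ho hr => hreal x p hp hp2 ho hr
  obtain ⟨c, v, v₀, r, k, L, hD⟩ := exists_data hM hd h6 hreal
  obtain ⟨D0, -, hd0, hcard⟩ := hD.exists_card_lev
  exact hD.solvable hcard hM hd0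

theorem isSolvable_of_disc {G : Type u} [Group G] [Finite G] {P : ℕ → Prop} (h : Disc P G) :
    Group.IsSolvable G :=
  reduce h fun X V _ _ _ _ _ hM => isSolvable_of_mod X V hM

/-- the shape of the frozen hypotheses: a partition of the vertices without crossing edges -/
theorem exists_disc_or_normal {G : Type u} [Group G] [Finite G] (π₁ π₂ : Set ℕ)
    (h₁ : π₁.Nonempty) (h₂ : π₂.Nonempty)
    (hcover : ∀ q : ℕ, q.Prime →
      (∃ n ∈ {n : ℕ | ∃ x : G, IsConj x x⁻¹ ∧ (Subgroup.centralizer ({x} : Set G)).index = n}, q ∣ n) →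
        q ∈ π₁ ∨ q ∈ π₂)
    (hsub : ∀ q ∈ π₁ ∪ π₂, q.Prime ∧
      ∃ n ∈ {n : ℕ | ∃ x : G, IsConj x x⁻¹ ∧ (Subgroup.centralizer ({x} : Set G)).index = n}, q ∣ n)
    (hdisj : Disjoint π₁ π₂)
    (hnoedge : ∀ a ∈ π₁, ∀ b ∈ π₂,
      ∀ n ∈ {n : ℕ | ∃ x : G, IsConj x x⁻¹ ∧ (Subgroup.centralizer ({x} : Set G)).index = n},
        ¬ (a ∣ n ∧ b ∣ n)) :
    (∃ P : ℕ → Prop, Disc P G) ∨
      ((∀ x : G, x ≠ 1 → Odd (orderOf x) → ¬ Real x) ∧ ∀ S : Sylow 2 G, (S : Subgroup G).Normal) := by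
  by_cases hex : ∃ x : G, x ≠ 1 ∧ Odd (orderOf x) ∧ Real x
  swap
  · push Not at hex
    refine Or.inr ⟨hex, fun S => (Cfsg.Agent.S3861.result S).1 fun x hx ho hr => ?_⟩
    exact hex x hx ho (real_iff.1 hr)
  refine Or.inl ?_
  obtain ⟨x, hx, ho, hr⟩ := hex
  have h2 : ∃ n ∈ {n : ℕ | ∃ x : G, IsConj x x⁻¹ ∧ (Subgroup.centralizer ({x} : Set G)).index = n}, 2 ∣ n :=
    ⟨_, ⟨x, real_iff.2 hr, rfl⟩, two_dvd_csize (sq_ne_one_of_odd hx ho) hr⟩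
  have hv : ∀ (y : G), Real y → ∀ q : ℕ, q.Prime → q ∣ csize y → q ∈ π₁ ∨ q ∈ π₂ :=
    fun y hy q hq hd => hcover q hq ⟨_, ⟨y, real_iff.2 hy, rfl⟩, hd⟩
  rcases hcover 2 Nat.prime_two h2 with h | h
  · refine ⟨(· ∈ π₂), ⟨fun y hy q s hq hs hqd hsd hP => ?_, fun h' => Set.disjoint_left.1 hdisj h h', ?_⟩⟩
    · rcases hv y hy s hs hsd with h' | h'
      · exact absurd ⟨hsd, hqd⟩ (hnoedge s h' q hP _ ⟨y, real_iff.2 hy, rfl⟩)
      · exact h'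
    · obtain ⟨q, hq⟩ := h₂
      obtain ⟨hqp, n, ⟨y, hy, rfl⟩, hd⟩ := hsub q (Or.inr hq)
      exact ⟨y, real_iff.1 hy, q, hqp, hd, hq⟩
  · refine ⟨(· ∈ π₁), ⟨fun y hy q s hq hs hqd hsd hP => ?_, fun h' => Set.disjoint_left.1 hdisj h' h, ?_⟩⟩
    · rcases hv y hy s hs hsd with h' | h'
      · exact h'
      · exact absurd ⟨hqd, hsd⟩ (hnoedge q hP s h' _ ⟨y, real_iff.2 hy, rfl⟩)
    · obtain ⟨q, hq⟩ := h₁
      obtain ⟨hqp, n, ⟨y, hy, rfl⟩, hd⟩ := hsub q (Or.inl hq)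
      exact ⟨y, real_iff.1 hy, q, hqp, hd, hq⟩

end Cfsg.Agent.RealClassGraph
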