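import Cfsg.Agent.Lib.Block.RealClassGraph.CaseB

/-!
Reduction to an irreducible module on which the real elements of odd order act without fixed points.
-/

set_option autoImplicit false
set_option linter.unusedSectionVars false

namespace Cfsg.Agent.RealClassGraph

open Subgroup

universe u

/-- the module produced by a disconnected real class size graph -/
structure Mod (P : ℕ → Prop) (X V : Type*) [Group X] [AddCommGroup V] [DistribMulAction X V] :
    Prop where
  two : ∀ v : V, v + v = 0
  faithful : ∀ x : X, (∀ v : V, x • v = v) → x = 1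
  ne : ∃ v : V, v ≠ 0
  irred : ∀ U : AddSubgroup V, (∀ (x : X), ∀ u ∈ U, x • u ∈ U) → U = ⊥ ∨ U = ⊤
  fpf : ∀ (x : X) (p : ℕ), p.Prime → p ≠ 2 → orderOf x = p → Real x → ∀ v : V, x • v = v → v = 0
  size : ∀ (x : X) (p : ℕ), p.Prime → p ≠ 2 → orderOf x = p → Real x →
    ∀ q : ℕ, q.Prime → P q → ¬ q ∣ csize x
  side : ∀ (x : X) (p : ℕ), p.Prime → p ≠ 2 → orderOf x = p → Real x → P p
  stab : ∀ v : V, v ≠ 0 → ∃ S : Sylow 2 X, ∀ s ∈ (S : Subgroup X), s • v = v
  syl : ∀ q : ℕ, q.Prime → q ∣ Nat.card (Sylow 2 X) → P q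

theorem csize_map_dvd {A B : Type*} [Group A] [Group B] {f : A →* B} (hf : Function.Surjective f)
    (x : A) : csize (f x) ∣ csize x := by
  refine (index_dvd_of_le (?_ : (centralizer ({x} : Set A)).map f ≤ centralizer {f x})).trans
    (index_map_dvd _ hf)
  rintro _ ⟨g, hg, rfl⟩
  exact mem_cent.2 ((show Commute g x from mem_cent.1 hg).map f)

variable {G : Type u} [Group G] [Finite G] {P : ℕ → Prop} (h : Disc P G)
include h

theorem Yset.ne_one_of_prime_pow {g : G} {p a : ℕ} (hp : p.Prime) (hp2 : p ≠ 2)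
    (hg : g ^ p ^ a = 1) : Odd (orderOf g) :=
  Odd.of_dvd_nat ((hp.odd_of_ne_two hp2).pow) (orderOf_dvd_of_pow_eq_one hg)

theorem exists_fixed_conj {g : G} {p a : ℕ} (hp : p.Prime) (hg : g ^ p ^ a = 1) {C : Set G}
    (hC : ∀ w ∈ C, g * w * g⁻¹ ∈ C) (hdvd : ¬ p ∣ Nat.card C) : ∃ w ∈ C, Commute g w := by
  haveI := Fact.mk hp
  haveI : Fintype C := Fintype.ofFinite C
  have hinj : Function.Injective (fun w : C => (⟨g * w * g⁻¹, hC w w.2⟩ : C)) := fun a b e =>
    Subtype.ext (mul_left_cancel (mul_right_cancel (congrArg Subtype.val e)))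
  let σ : Equiv.Perm C := Equiv.ofBijective _ (Finite.injective_iff_bijective.1 hinj)
  have hpow : ∀ (j : ℕ) (w : C), ((σ ^ j) w).1 = g ^ j * w * (g ^ j)⁻¹ := by
    intro j
    induction j with
    | zero => intro w; simp
    | succ j ih =>
      intro w
      rw [pow_succ', Equiv.Perm.mul_apply]
      show g * ((σ ^ j) w).1 * g⁻¹ = _
      rw [ih, pow_succ']
      group
  obtain ⟨w, hw⟩ := Equiv.Perm.exists_fixed_point_of_prime (p := p) (n := a)
    (by rwa [← Nat.card_eq_fintype_card]) (σ := σ) (Equiv.ext fun w => Subtype.ext (by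
      rw [hpow, hg]; simp))
  exact ⟨w, w.2, mul_inv_eq_iff_eq_mul.1 (congrArg Subtype.val hw)⟩

theorem reduce
    (hmod : ∀ (X V : Type u) [Group X] [Finite X] [AddCommGroup V] [Finite V]
      [DistribMulAction X V], Mod P X V → Group.IsSolvable X) :
    Group.IsSolvable G := by
  classical
  haveI : Fact (Nat.Prime 2) := ⟨Nat.prime_two⟩
  by_cases hall : ∀ y : G, Yset P y → y ∉ Cfsg.pCore 2 G
  · exact solvable_of_not_mem_core h hall
  push Not at hall
  obtain ⟨y, hy, hyO⟩ := hall
  haveI hO2 : (Cfsg.pCore 2 G).Normal := Grp.pCore_isNormal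
  set W := normalClosure ({y} : Set G) with hW
  have hyW : y ∈ W := subset_normalClosure (Set.mem_singleton y)
  have hcy : ∀ g : G, Commute y (g * y * g⁻¹) := fun g => by
    obtain ⟨S, hSC, -, -⟩ := hy.exists_sylow h
    exact (mem_cent.1 (hSC (Grp.pCore_le_sylow S (hO2.conj_mem y hyO g)))).symm
  have helt := fun {n : G} (hn : n ∈ W) => normalClosure_elementary hy.1 hcy hn
  have hWtwo : ∀ n ∈ W, ∀ a : ℕ, Odd a → n ^ a = 1 → n = 1 := by
    rintro n hn a ⟨j, rfl⟩ e
    rwa [pow_succ, pow_mul, pow_two, (helt hn).2, one_pow, one_mul] at e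
  -- noncentral vectors are on the odd side
  have hnc : ∀ w ∈ W, w ∉ center G → Yset P w := by
    intro w hw hwc
    rcases off_or_Yset h (real_of_sq_one (helt hw).2) with ho | hY
    · exfalso
      rcases mul_dichotomy h (real_of_sq_one (helt hw).2) ho hy ((helt hw).1 y hyW) with
        ⟨hinv, -⟩ | ⟨-, hd⟩
      · have hsplit : ∀ n ∈ W, n ∈ comG y ∨ n * y ∈ comG y := by
          intro n hn
          induction hn using closure_induction with
          | mem t ht =>
            obtain ⟨c, rfl, hk⟩ := Group.mem_conjugatesOfSet_iff.1 ht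
            obtain ⟨k, rfl⟩ := isConj_iff.1 hk
            refine Or.inr ?_
            rw [show k * c * k⁻¹ * c = k * c * k⁻¹ * c⁻¹ by rw [inv_eq_of_mul_eq_one_right hy.1]]
            exact subset_normalClosure ⟨k, rfl⟩
          | one => exact Or.inl (one_mem _)
          | mul a b _ _ ha hb =>
            have hcj : ∀ c ∈ comG y, y * c * y ∈ comG y := fun c hc => by
              rw [show y * c * y = y * c * y⁻¹ by rw [inv_eq_of_mul_eq_one_right hy.1]]
              exact normalClosure_normal.conj_mem c hc y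
            rcases ha with ha | ha <;> rcases hb with hb | hb
            · exact Or.inl (mul_mem ha hb)
            · exact Or.inr (by rw [mul_assoc]; exact mul_mem ha hb)
            · refine Or.inr ?_
              rw [show a * b * y = (a * y) * (y * b * y) by
                rw [show a * y * (y * b * y) = a * (y * y) * b * y by group, hy.1, mul_one]]
              exact mul_mem ha (hcj b hb)
            · refine Or.inl ?_
              rw [show a * b = (a * y) * (y * (b * y) * y) by
                rw [show a * y * (y * (b * y) * y) = a * (y * y) * b * (y * y) by group, hy.1,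
                  mul_one, mul_one]]
              exact mul_mem ha (hcj _ hb)
          | inv a _ ha =>
            rcases ha with ha | ha
            · exact Or.inl (inv_mem ha)
            · refine Or.inr ?_
              rw [show a⁻¹ * y = y * (a * y)⁻¹ * y⁻¹ by
                rw [show y * (a * y)⁻¹ * y⁻¹ = y * y⁻¹ * a⁻¹ * y⁻¹ by group, mul_inv_cancel, one_mul,
                  inv_eq_of_mul_eq_one_right hy.1]]
              exact normalClosure_normal.conj_mem _ (inv_mem ha) y
        rcases hsplit w hw with hwN | hwN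
        · have := hinv w hwN w mem_conjugatesOf_self
          rw [(helt hw).2] at this
          obtain ⟨g, hg⟩ := isConj_iff.1 this
          exact hwc (by rw [conj_eq_one_iff.1 hg]; exact one_mem _)
        · have := hinv _ hwN w mem_conjugatesOf_self
          rw [← mul_assoc, (helt hw).2, one_mul] at this
          obtain ⟨g, hg⟩ := isConj_iff.1 this
          obtain ⟨q, hq, hqd, hPq⟩ := hy.2
          exact ho q hq (by rwa [← hg, csize_conj] at hqd) hPq
      · refine hwc (mem_center_iff.2 fun g => ?_)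
        have hm : g * w * g⁻¹ * w⁻¹ ∈ comG w := subset_normalClosure ⟨g, rfl⟩
        have hmW : g * w * g⁻¹ * w⁻¹ ∈ W :=
          mul_mem (normalClosure_normal.conj_mem w hw g) (inv_mem hw)
        have h1 := hWtwo _ hmW (orderOf (g * w * g⁻¹ * w⁻¹))
          (Nat.odd_iff.2 (Nat.two_dvd_ne_zero.1 fun h2 => hy.two_not_dvd h
            ((h2.trans ((comG w).orderOf_dvd_natCard hm)).trans hd))) (pow_orderOf_eq_one _)
        exact mul_inv_eq_iff_eq_mul.1 (mul_inv_eq_one.1 h1)
    · exact hY
  -- a maximal normal subgroup of `G` below `W`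
  obtain ⟨W₁, -, hmax⟩ := Finite.exists_le_maximal
    (p := fun N : Subgroup G => N.Normal ∧ W ⊓ center G ≤ N ∧ N ≤ W ∧ y ∉ N)
    (a := W ⊓ center G) ⟨inferInstance, le_rfl, inf_le_left, fun hh => hy.not_center h hh.2⟩
  obtain ⟨hW₁n, hZW₁, hW₁W, hyW₁⟩ := hmax.prop
  haveI := hW₁n
  set q := QuotientGroup.mk' W₁ with hq
  have hqs : Function.Surjective q := QuotientGroup.mk'_surjective W₁
  set Vb := W.map q with hVb
  haveI : Vb.Normal := Subgroup.Normal.map inferInstance q hqs
  letI : CommGroup Vb := { (inferInstance : Group Vb) with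
    mul_comm := by
      rintro ⟨_, a, ha, rfl⟩ ⟨_, b, hb, rfl⟩
      exact Subtype.ext (((helt ha).1 b hb).map q) }
  let ψ : G →* MulAut Vb := (MulAut.conjNormal (H := Vb)).comp q
  have hψ : ∀ (g : G) (v : Vb), ((ψ g v : Vb) : G ⧸ W₁) = q g * v * (q g)⁻¹ := fun g v =>
    MulAut.conjNormal_apply _ _
  letI : DistribMulAction ψ.range (Additive Vb) :=
    { smul := fun x a => Additive.ofMul ((x : MulAut Vb) (Additive.toMul a))
      one_smul := fun a => rfl
      mul_smul := fun x y a => rfl
      smul_zero := fun x => by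
        show Additive.ofMul ((x : MulAut Vb) 1) = _
        rw [map_one]; rfl
      smul_add := fun x a b => by
        show Additive.ofMul ((x : MulAut Vb) (Additive.toMul a * Additive.toMul b)) = _
        rw [map_mul]; rfl }
  have hrs : Function.Surjective ψ.rangeRestrict := ψ.rangeRestrict_surjective
  have hlift : ∀ v : Vb, v ≠ 1 → ∀ w ∈ W, q w = (v : G ⧸ W₁) → Yset P w := by
    intro v hv w hw e
    refine hnc w hw fun hc => hv (Subtype.ext ?_)
    rw [← e]
    exact (QuotientGroup.eq_one_iff w).2 (hZW₁ ⟨hw, hc⟩)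
  -- a real element of odd prime power order fixes no nonzero vector
  have hfix : ∀ (g : G) (p a : ℕ), p.Prime → p ≠ 2 → g ^ p ^ a = 1 → g ≠ 1 → Real g →
      ∀ v : Vb, ψ g v = v → v = 1 := by
    intro g p a hp hp2 hg hne hr v hv
    by_contra hv1
    obtain ⟨w₀, hw₀, hw₀e⟩ := v.2
    obtain ⟨w, hw, hcw⟩ := exists_fixed_conj h hp hg (C := {w | w ∈ W ∧ q w = (v : G ⧸ W₁)})
      (fun w hw => ⟨normalClosure_normal.conj_mem w hw.1 g, by
        rw [map_mul, map_mul, map_inv, hw.2, ← hψ, hv]⟩) (by
        have e : {w | w ∈ W ∧ q w = (v : G ⧸ W₁)} = (fun n => w₀ * n) '' (W₁ : Set G) := by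
          ext w
          constructor
          · rintro ⟨-, hw⟩
            exact ⟨w₀⁻¹ * w, QuotientGroup.eq.1 (hw₀e.trans hw.symm), mul_inv_cancel_left _ _⟩
          · rintro ⟨n, hn, rfl⟩
            exact ⟨mul_mem hw₀ (hW₁W hn), by
              rw [map_mul, hw₀e, show q n = 1 from (QuotientGroup.eq_one_iff n).2 hn, mul_one]⟩
        rw [e, Nat.card_coe_set_eq, Set.ncard_image_of_injective _ (mul_right_injective _),
          ← Nat.card_coe_set_eq]
        intro hd
        obtain ⟨x, hx⟩ := @exists_prime_orderOf_dvd_card' W₁ _ _ p ⟨hp⟩ hd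
        have h1 : x = 1 := Subtype.ext (hWtwo _ (hW₁W x.2) p (hp.odd_of_ne_two hp2)
          (by rw [← hx, ← SubmonoidClass.coe_pow, pow_orderOf_eq_one, OneMemClass.coe_one]))
        rw [h1, orderOf_one] at hx
        exact hp.ne_one hx.symm)
    exact (hlift v hv1 w hw.1 hw.2).odd_real_not_commute h hr
      (Yset.ne_one_of_prime_pow h hp hp2 hg) hne hcw
  have hnt : (⟨q y, mem_map_of_mem q hyW⟩ : Vb) ≠ 1 := fun e =>
    hyW₁ ((QuotientGroup.eq_one_iff y).1 (congrArg Subtype.val e))
  -- lift a real element of prime order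
  have hlp : ∀ (x : ψ.range) (p : ℕ), p.Prime → p ≠ 2 → orderOf x = p → Real x →
      ∃ g : G, ψ.rangeRestrict g = x ∧ Real g ∧ g ≠ 1 ∧ ∃ a : ℕ, g ^ p ^ a = 1 := by
    intro x p hp hp2 ho hr
    haveI := Fact.mk hp
    obtain ⟨g, hg, hgr, a, ha⟩ := exists_real_lift ψ.rangeRestrict hrs hp2 ho hr
    refine ⟨g, hg, hgr, fun e => ?_, a, ha⟩
    rw [← hg, e, map_one, orderOf_one] at ho
    exact hp.ne_one ho.symm
  have hsyl : ∀ (w : G), w ∈ W → Yset P w → ∀ v : Vb, (v : G ⧸ W₁) = q w →
      ∀ g ∈ centralizer ({w} : Set G), ψ g v = v := by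
    intro w _ _ v hv g hg
    refine Subtype.ext ?_
    rw [hψ, hv, ← map_inv, ← map_mul, ← map_mul, conj_eq_of_mem_cent hg]
  have hM : Mod P ψ.range (Additive Vb) :=
    { two := fun a => by
        obtain ⟨⟨_, w, hw, rfl⟩, rfl⟩ := Additive.ofMul.surjective a
        refine congrArg Additive.ofMul (Subtype.ext ?_ : (⟨q w, _⟩ : Vb) * ⟨q w, _⟩ = 1)
        show q w * q w = 1
        rw [← map_mul, (helt hw).2, map_one]
      faithful := fun x hx => Subtype.ext (MulEquiv.ext fun v => by
        exact congrArg Additive.toMul (hx (Additive.ofMul v)))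
      ne := ⟨Additive.ofMul ⟨q y, mem_map_of_mem q hyW⟩, hnt⟩
      irred := fun U hU => by
        set T : Subgroup Vb := AddSubgroup.toSubgroup' U
        set N := (T.map Vb.subtype).comap q ⊓ W
        have hinv : ∀ (g : G) (v : Vb), v ∈ T → ψ g v ∈ T := fun g v hv =>
          hU (ψ.rangeRestrict g) _ hv
        have hNn : N.Normal := ⟨fun n hn g => by
          obtain ⟨hn1, hn2⟩ := Subgroup.mem_inf.1 hn
          obtain ⟨v, hv, hve⟩ := hn1
          refine Subgroup.mem_inf.2 ⟨⟨ψ g v, hinv g v hv, ?_⟩, normalClosure_normal.conj_mem n hn2 g⟩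
          show ((ψ g v : Vb) : G ⧸ W₁) = q (g * n * g⁻¹)
          rw [hψ, map_mul, map_mul, map_inv, ← hve]
          rfl⟩
        have hW₁N : W₁ ≤ N := fun n hn => Subgroup.mem_inf.2 ⟨⟨1, one_mem T, by
          rw [map_one]; exact ((QuotientGroup.eq_one_iff n).2 hn).symm⟩, hW₁W hn⟩
        by_cases hyN : y ∈ N
        · refine Or.inr (eq_top_iff.2 fun a _ => ?_)
          have hWN : W ≤ N := normalClosure_le_normal (Set.singleton_subset_iff.2 hyN)
          obtain ⟨⟨_, w, hw, rfl⟩, rfl⟩ := Additive.ofMul.surjective a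
          obtain ⟨v, hv, hve⟩ := (Subgroup.mem_inf.1 (hWN hw)).1
          rw [show (⟨q w, mem_map_of_mem q hw⟩ : Vb) = v from Subtype.ext hve.symm]
          exact hv
        · refine Or.inl (eq_bot_iff.2 fun a ha => ?_)
          have hNle : N ≤ W₁ := hmax.le_of_ge ⟨hNn, hZW₁.trans hW₁N, inf_le_right, hyN⟩ hW₁N
          obtain ⟨⟨_, w, hw, rfl⟩, rfl⟩ := Additive.ofMul.surjective a
          have : w ∈ N := Subgroup.mem_inf.2 ⟨⟨_, ha, rfl⟩, hw⟩
          exact congrArg Additive.ofMul
            (Subtype.ext ((QuotientGroup.eq_one_iff w).2 (hNle this)) : (⟨q w, _⟩ : Vb) = 1)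
      fpf := fun x p hp hp2 ho hr v hv => by
        obtain ⟨g, rfl, hgr, hg1, a, ha⟩ := hlp x p hp hp2 ho hr
        exact congrArg Additive.ofMul (hfix g p a hp hp2 ha hg1 hgr (Additive.toMul v)
          (congrArg Additive.toMul hv))
      size := fun x p hp hp2 ho hr r hr' hP hd => by
        obtain ⟨g, rfl, hgr, hg1, a, ha⟩ := hlp x p hp hp2 ho hr
        exact off_of_sq_ne_one h hgr (sq_ne_one_of_odd hg1 (Yset.ne_one_of_prime_pow h hp hp2 ha))
          r hr' (hd.trans (csize_map_dvd hrs g)) hP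
      side := fun x p hp hp2 ho hr => by
        obtain ⟨g, rfl, hgr, hg1, a, ha⟩ := hlp x p hp hp2 ho hr
        by_contra hP
        obtain ⟨w, hw, hcw⟩ := exists_fixed_conj h hp ha (C := conjugatesOf y) (fun w hw => by
          obtain ⟨k, rfl⟩ := isConj_iff.1 hw
          rw [show g * (k * y * k⁻¹) * g⁻¹ = (g * k) * y * (g * k)⁻¹ by group]
          exact conj_mem_conjugatesOf _ _)
          (by rw [card_conjugatesOf]; exact fun hd => hP (hy.side h hp hd))
        obtain ⟨k, rfl⟩ := isConj_iff.1 hw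
        exact (hy.conj h k).odd_real_not_commute h hgr (Yset.ne_one_of_prime_pow h hp hp2 ha) hg1 hcw
      stab := fun v hv => by
        obtain ⟨⟨_, w, hw, rfl⟩, rfl⟩ := Additive.ofMul.surjective v
        have hY := hlift ⟨q w, mem_map_of_mem q hw⟩ (fun e => hv (congrArg Additive.ofMul e)) w hw rfl
        obtain ⟨S, hSC, -, -⟩ := hY.exists_sylow h
        refine ⟨S.mapSurjective hrs, fun s hs => ?_⟩
        rw [Sylow.coe_mapSurjective] at hs
        obtain ⟨g, hg, rfl⟩ := hs
        exact congrArg Additive.ofMul (hsyl w hw hY _ rfl g (hSC hg))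
      syl := fun r hr hd => by
        obtain ⟨S, -, -, hSN⟩ := hy.exists_sylow h
        refine hy.side h hr ((hd.trans ?_).trans (index_map_dvd (f := ψ.rangeRestrict)
          (H := centralizer ({y} : Set G)) hrs))
        rw [Sylow.card_eq_index_normalizer (S.mapSurjective hrs)]
        refine index_dvd_of_le ((Subgroup.map_mono hSN).trans ?_)
        show map ψ.rangeRestrict (normalizer ((S : Subgroup G) : Set G)) ≤
          normalizer (((S : Subgroup G).map ψ.rangeRestrict : Subgroup ψ.range) : Set ψ.range)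
        exact le_normalizer_map _ }
  haveI := hmod ψ.range (Additive Vb) hM
  -- the kernel has a normal Sylow 2-subgroup
  obtain ⟨T⟩ : Nonempty (Sylow 2 ψ.ker) := inferInstance
  haveI : Group.IsSolvable ψ.ker := isSolvable_of_normal_sylow_two T
    (normal_sylow_two_of_no_real (fun x p hp hp2 ho hr => by
      obtain ⟨k, hk⟩ := hr
      refine hnt (hfix x.1 p 1 hp hp2 ?_ ?_ ⟨k.1, congrArg Subtype.val hk⟩ _ ?_)
      · rw [pow_one, ← ho, ← SubmonoidClass.coe_pow, pow_orderOf_eq_one, OneMemClass.coe_one]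
      · intro e
        rw [show x = 1 from Subtype.ext e, orderOf_one] at ho
        exact hp.ne_one ho.symm
      · rw [MonoidHom.mem_ker.1 x.2]; rfl) T)
  exact Group.isSolvable_of_ker_le_range ψ.ker.subtype ψ.rangeRestrict
    (by rw [MonoidHom.ker_rangeRestrict, range_subtype])

end Cfsg.Agent.RealClassGraph
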