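import Cfsg.Agent.Lib.Block.RealClassGraph.Basic

/-!
Involutions acting on an elementary abelian 2-group: halving, and uniqueness from a fixed space.
-/

set_option autoImplicit false
set_option linter.unusedSectionVars false

open scoped Pointwise

namespace Cfsg.Agent.RealClassGraph.Act

variable {Y U : Type*} [Group Y] [Finite Y] [AddCommGroup U] [Finite U] [DistribMulAction Y U]

/-- fixed points of one element -/
def fix (g : Y) : AddSubgroup U where
  carrier := {u | g • u = u}
  zero_mem' := smul_zero g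
  add_mem' {a b} (ha : g • a = a) (hb : g • b = b) := by
    show g • (a + b) = a + b
    rw [smul_add, ha, hb]
  neg_mem' {a} (ha : g • a = a) := by
    show g • (-a) = -a
    rw [smul_neg, ha]

theorem mem_fix {g : Y} {u : U} : u ∈ fix (U := U) g ↔ g • u = u := Iff.rfl

theorem fix_conj (g t : Y) : fix (U := U) (g * t * g⁻¹) = g • fix (U := U) t := by
  ext u
  rw [mem_fix, AddSubgroup.mem_pointwise_smul_iff_inv_smul_mem, mem_fix, mul_smul, mul_smul,
    smul_eq_iff_eq_inv_smul]

theorem smul_fix_of_commute {g t : Y} (h : Commute g t) : g • fix (U := U) t = fix t := by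
  rw [← fix_conj, h.eq, mul_inv_cancel_right]

theorem stab_iff {g : Y} {W : AddSubgroup U} : g • W = W ↔ ∀ u ∈ W, g • u ∈ W := by
  constructor
  · intro h u hu
    rw [← h]
    exact AddSubgroup.smul_mem_pointwise_smul u g W hu
  · intro h
    refine AddSubgroup.ext fun u => ?_
    have hb : Function.Bijective fun w : W => (⟨g • w.1, h w w.2⟩ : W) :=
      Finite.injective_iff_bijective.1 fun a b e =>
        Subtype.ext (MulAction.injective g (congrArg Subtype.val e))
    constructor
    · intro hu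
      rw [AddSubgroup.mem_pointwise_smul_iff_inv_smul_mem] at hu
      simpa using h _ hu
    · intro hu
      obtain ⟨w, hw⟩ := hb.2 ⟨u, hu⟩
      rw [← show g • w.1 = u from congrArg Subtype.val hw]
      exact AddSubgroup.smul_mem_pointwise_smul _ g W w.2

theorem card_smul (g : Y) (W : AddSubgroup U) : Nat.card ↥(g • W) = Nat.card W :=
  (Nat.card_congr (Equiv.subtypeEquiv (MulAction.toPerm g) fun _ =>
    (AddSubgroup.smul_mem_pointwise_smul_iff).symm)).symm

/-- a freely acting element has order dividing the size of the invariant set -/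
theorem orderOf_dvd_card {A : Type*} {S : Type*} [Group A] [Finite A] [Finite S] [MulAction A S]
    (c : A) (hfree : ∀ (j : ℕ) (s : S), c ^ j • s = s → c ^ j = 1) : orderOf c ∣ Nat.card S := by
  have h : ∀ s : S, MulAction.stabilizer (Subgroup.zpowers c) s = ⊥ := fun s => by
    rw [eq_bot_iff]
    rintro ⟨g, hg⟩ hs
    obtain ⟨j, rfl⟩ := (mem_powers_iff_mem_zpowers.2 hg : g ∈ Submonoid.powers c)
    exact Subtype.ext (hfree j s hs)
  rw [Nat.card_congr (MulAction.selfEquivOrbitsQuotientProd h), Nat.card_prod, Nat.card_zpowers]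
  exact dvd_mul_left _ _

variable (htwo : ∀ u : U, u + u = 0)
include htwo

theorem neg_eq_self (u : U) : -u = u := neg_eq_of_add_eq_zero_left (htwo u)

/-- an involution inverting an element without fixed points fixes exactly half -/
theorem card_fix_sq {j m : Y} (hj : j * j = 1) (hm : Odd (orderOf m)) (hinv : j * m * j⁻¹ = m⁻¹)
    (hfree : ∀ u : U, m • u = u → u = 0) :
    Nat.card (fix (U := U) j) * Nat.card (fix (U := U) j) = Nat.card U := by
  obtain ⟨k, hk⟩ := hm
  have hji : j⁻¹ = j := inv_eq_of_mul_eq_one_right hj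
  set s := m ^ (k + 1) with hs
  have hs2 : s * s = m := by
    rw [hs, ← pow_add, show k + 1 + (k + 1) = (2 * k + 1) + 1 by ring, pow_succ, ← hk,
      pow_orderOf_eq_one, one_mul]
  have hjs : j * s * j⁻¹ = s⁻¹ := by rw [hs, ← conj_pow, hinv, inv_pow]
  have hconj : s⁻¹ * j * s = j * m := by
    rw [← hjs, show j * s * j⁻¹ * j * s = j * (s * s) by group, hs2]
  refine le_antisymm ?_ ?_
  · have h1 : Nat.card (fix (U := U) (j * m)) = Nat.card (fix (U := U) j) := by
      rw [← hconj, show s⁻¹ * j * s = s⁻¹ * j * (s⁻¹)⁻¹ by rw [inv_inv], fix_conj, card_smul]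
    conv_lhs => arg 2; rw [← h1]
    rw [← Nat.card_prod]
    refine Nat.card_le_card_of_injective (fun p => p.1.1 + p.2.1) fun p q e => ?_
    have e' : p.1.1 - q.1.1 = q.2.1 - p.2.1 := by
      rw [sub_eq_sub_iff_add_eq_add, add_comm q.2.1]
      exact e
    set d := p.1.1 - q.1.1 with hd
    have hd1 : j • d = d := (fix (U := U) j).sub_mem p.1.2 q.1.2
    have hd2 : (j * m) • d = d := by rw [e']; exact (fix (U := U) (j * m)).sub_mem q.2.2 p.2.2
    have hd3 : d = 0 := hfree d (by
      rw [← inv_mul_cancel_left j m, mul_smul, hd2, hji, hd1])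
    refine Prod.ext (Subtype.ext (sub_eq_zero.1 hd3)) (Subtype.ext (sub_eq_zero.1 ?_).symm)
    rw [← e']; exact hd3
  · let φ : U →+ U := DistribSMul.toAddMonoidHom U j + AddMonoidHom.id U
    have hker : φ.ker = fix (U := U) j := by
      ext u
      show j • u + u = 0 ↔ j • u = u
      rw [add_eq_zero_iff_eq_neg, neg_eq_self htwo]
    have hrange : φ.range ≤ fix (U := U) j := by
      rintro _ ⟨u, rfl⟩
      show j • (j • u + u) = j • u + u
      rw [smul_add, ← mul_smul, hj, one_smul, add_comm]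
    rw [← φ.ker.index_mul_card, AddSubgroup.index_ker, hker]
    exact Nat.mul_le_mul_right _ (Nat.card_le_card_of_injective _ (AddSubgroup.inclusion_injective hrange))

omit htwo in
/-- the group of elements centralizing `W` and `U / W` -/
def transv (W : AddSubgroup U) : Subgroup Y where
  carrier := {t | (∀ w ∈ W, t • w = w) ∧ ∀ u : U, t • u - u ∈ W}
  one_mem' := ⟨fun w _ => one_smul _ w, fun u => by simp⟩
  mul_mem' {a b} ha hb := ⟨fun w hw => by rw [mul_smul, hb.1 w hw, ha.1 w hw], fun u => by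
    rw [mul_smul, show a • b • u - u = (a • b • u - b • u) + (b • u - u) by abel]
    exact W.add_mem (ha.2 _) (hb.2 u)⟩
  inv_mem' {a} ha := ⟨fun w hw => by rw [inv_smul_eq_iff, ha.1 w hw], fun u => by
    have := W.neg_mem (ha.2 (a⁻¹ • u))
    rwa [smul_inv_smul, neg_sub] at this⟩

theorem transv_sq (hfaith : ∀ g : Y, (∀ u : U, g • u = u) → g = 1) {W : AddSubgroup U} {t : Y}
    (ht : t ∈ transv W) : t * t = 1 := by
  refine hfaith _ fun u => ?_
  have h1 := ht.1 _ (ht.2 u)
  rw [smul_sub] at h1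
  rw [mul_smul]
  have h2 : t • t • u = t • u + (t • u - u) := by rw [← h1]; abel
  rw [h2, ← neg_eq_self htwo (t • u - u)]
  abel

theorem card_transv_le (hfaith : ∀ g : Y, (∀ u : U, g • u = u) → g = 1) {W : AddSubgroup U}
    (hW : W ≠ ⊤) (hinv : ∀ t ∈ transv (Y := Y) W, t ≠ 1 → fix (U := U) t = W) :
    Nat.card (transv (Y := Y) W) ≤ Nat.card W := by
  obtain ⟨u₀, hu₀⟩ : ∃ u, u ∉ W := by
    by_contra hc
    push Not at hc
    exact hW (eq_top_iff.2 fun u _ => hc u)
  refine Nat.card_le_card_of_injective (fun t => (⟨t.1 • u₀ - u₀, t.2.2 u₀⟩ : W)) fun a b e => ?_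
  have e' : a.1 • u₀ = b.1 • u₀ := sub_left_injective (congrArg Subtype.val e)
  by_contra hne
  have h1 := hinv _ (mul_mem (inv_mem b.2) a.2) fun h => hne (Subtype.ext (inv_mul_eq_one.1 h).symm)
  apply hu₀
  rw [← h1, mem_fix, mul_smul, e', inv_smul_smul]

/-- in a group moving `W`, with no real element stabilizing `W`, only one involution fixes `W` -/
theorem unique_involution (H : Subgroup Y) (W : AddSubgroup U)
    (h1 : ∀ t ∈ H, t * t = 1 → t ≠ 1 → t • W = W → fix (U := U) t = W)
    (h2 : ∀ m ∈ H, ∀ t ∈ H, ∀ p : ℕ, p.Prime → p ≠ 2 → orderOf m = p → m • W = W →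
      t * m * t⁻¹ = m⁻¹ → False)
    (h3 : ∃ g ∈ H, g • W ≠ W) {i t : Y} (hi : i ∈ H) (hi2 : i * i = 1) (hi1 : i ≠ 1)
    (hiW : fix (U := U) i = W) (ht : t ∈ H) (ht2 : t * t = 1) (ht1 : t ≠ 1)
    (htW : fix (U := U) t = W) : t = i := by
  classical
  let O := {V : AddSubgroup U // (∃ g ∈ H, g • W = V) ∧ V ≠ W}
  let J := {s : Y // s ∈ H ∧ s * s = 1 ∧ s ≠ 1 ∧ fix (U := U) s = W}
  let rep : O → Y := fun V => V.2.1.choose
  have hrep : ∀ V : O, rep V ∈ H ∧ rep V • W = V.1 := fun V => V.2.1.choose_spec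
  let T : O × J → Y := fun q => rep q.1 * q.2.1 * (rep q.1)⁻¹
  have hT : ∀ q, T q ∈ H ∧ T q * T q = 1 ∧ T q ≠ 1 ∧ fix (U := U) (T q) = q.1.1 := fun q =>
    ⟨H.mul_mem (H.mul_mem (hrep q.1).1 q.2.2.1) (H.inv_mem (hrep q.1).1), by
      rw [show T q * T q = rep q.1 * (q.2.1 * q.2.1) * (rep q.1)⁻¹ by simp only [T]; group,
        q.2.2.2.1, mul_one, mul_inv_cancel], fun e => q.2.2.2.2.1 (conj_eq_one_iff.1 e), by
      rw [fix_conj, q.2.2.2.2.2, (hrep q.1).2]⟩
  have hmove : ∀ q, T q • W ≠ W := fun q e =>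
    q.1.2.2 ((hT q).2.2.2.symm.trans (h1 _ (hT q).1 (hT q).2.1 (hT q).2.2.1 e))
  let Φ : O × J → O := fun q => ⟨T q • W, ⟨T q, (hT q).1, rfl⟩, hmove q⟩
  have hΦ : Function.Injective Φ := by
    intro q q' e
    have hti : (T q')⁻¹ = T q' := inv_eq_of_mul_eq_one_right (hT q').2.1
    set m := T q' * T q with hm
    have hmW : m • W = W := by
      rw [hm, mul_smul, show T q • W = T q' • W from congrArg Subtype.val e, ← mul_smul, (hT q').2.1,
        one_smul]
    have hm1 : m = 1 := by
      by_contra hne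
      have hinv : T q' * m * (T q')⁻¹ = m⁻¹ := by
        have h5 : m * (T q * T q') = 1 := by
          rw [hm, mul_assoc (T q') (T q), ← mul_assoc (T q) (T q), (hT q).2.1, one_mul, (hT q').2.1]
        rw [inv_eq_of_mul_eq_one_right h5, hti, hm, ← mul_assoc (T q') (T q'), (hT q').2.1, one_mul]
      obtain ⟨p, hp, hd⟩ := Nat.exists_prime_and_dvd (n := orderOf m)
        (fun e => hne (orderOf_eq_one_iff.1 e))
      have hdiv : orderOf m / p ≠ 0 :=
        (Nat.div_pos (Nat.le_of_dvd (orderOf_pos m) hd) hp.pos).ne'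
      set z := m ^ (orderOf m / p) with hzdef
      have hzH : z ∈ H := pow_mem (H.mul_mem (hT q').1 (hT q).1) _
      have hzo : orderOf z = p := by
        rw [hzdef, orderOf_pow_of_dvd hdiv (Nat.div_dvd_of_dvd hd),
          Nat.div_div_self hd (orderOf_pos m).ne']
      have hzW : z • W = W :=
        MulAction.mem_stabilizer_iff.1 (pow_mem (MulAction.mem_stabilizer_iff.2 hmW) _)
      have hzinv : T q' * z * (T q')⁻¹ = z⁻¹ := by rw [hzdef, ← conj_pow, hinv, inv_pow]
      by_cases hp2 : p = 2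
      · have hz2 : z * z = 1 := by rw [← pow_two, ← hp2, ← hzo, pow_orderOf_eq_one]
        have hz1 : z ≠ 1 := fun e => by rw [e, orderOf_one] at hzo; exact hp.ne_one hzo.symm
        rw [inv_eq_of_mul_eq_one_right hz2] at hzinv
        have := smul_fix_of_commute (U := U) (mul_inv_eq_iff_eq_mul.1 hzinv : Commute (T q') z)
        rw [h1 z hzH hz2 hz1 hzW] at this
        exact hmove q' this
      · exact h2 z hzH (T q') (hT q').1 p hp hp2 hzo hzW hzinv
    have heq : T q = T q' := by
      rw [hm] at hm1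
      rw [← hti]
      exact eq_inv_of_mul_eq_one_right hm1
    have hO : q.1 = q'.1 := Subtype.ext (by rw [← (hT q).2.2.2, heq, (hT q').2.2.2])
    obtain ⟨V, s⟩ := q
    obtain ⟨V', s'⟩ := q'
    simp only at hO
    subst hO
    exact Prod.ext rfl (Subtype.ext (mul_left_cancel (mul_right_cancel heq)))
  obtain ⟨g, hg, hgW⟩ := h3
  haveI : Nonempty O := ⟨⟨g • W, ⟨g, hg, rfl⟩, hgW⟩⟩
  have hle := Nat.card_le_card_of_injective Φ hΦ
  rw [Nat.card_prod] at hle
  have hJ : Nat.card J ≤ 1 :=
    Nat.le_of_mul_le_mul_left (by rw [mul_one]; exact hle) Nat.card_pos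
  haveI := Finite.card_le_one_iff_subsingleton.1 hJ
  exact congrArg Subtype.val (Subsingleton.elim (⟨t, ht, ht2, ht1, htW⟩ : J) ⟨i, hi, hi2, hi1, hiW⟩)

end Cfsg.Agent.RealClassGraph.Act
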