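import Cfsg.Agent.Lib.Block.RealClassGraph.Main

/-!
The subgroup generated by the 2-elements when the real class size graph is disconnected.
-/

set_option autoImplicit false
set_option linter.unusedSectionVars false

namespace Cfsg.Agent.RealClassGraph

open Subgroup

universe u

variable {G : Type u} [Group G] [Finite G] {P : ℕ → Prop}

/-- the subgroup generated by the 2-elements -/
abbrev twoGen (G : Type*) [Group G] : Subgroup G := closure {g : G | ∃ k : ℕ, orderOf g = 2 ^ k}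

theorem mem_twoGen {g : G} {a : ℕ} (ha : g ^ 2 ^ a = 1) : g ∈ twoGen G := by
  obtain ⟨i, -, hi⟩ := (Nat.dvd_prime_pow Nat.prime_two).1 (orderOf_dvd_of_pow_eq_one ha)
  exact subset_closure ⟨i, hi⟩

theorem twoGen_normal : (twoGen G).Normal := by
  refine ⟨fun n hn g => ?_⟩
  induction hn using closure_induction with
  | mem t ht =>
    obtain ⟨k, hk⟩ := ht
    exact subset_closure ⟨k, by rw [Invol.orderOf_conj_eq, hk]⟩
  | one => simp
  | mul a b _ _ ha hb =>
    rw [show g * (a * b) * g⁻¹ = (g * a * g⁻¹) * (g * b * g⁻¹) by group]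
    exact mul_mem ha hb
  | inv a _ ha =>
    rw [← conj_inv]
    exact inv_mem ha

/-- the real elements lie in the subgroup generated by the 2-elements and are real there -/
theorem real_mem_twoGen {x : G} (hx : Real x) :
    ∃ h : x ∈ twoGen G, Real (⟨x, h⟩ : twoGen G) := by
  haveI := twoGen_normal (G := G)
  obtain ⟨g, ⟨a, ha⟩, hg⟩ := hx.exists_two_inverter
  have hgK := mem_twoGen ha
  have hsq : x⁻¹ * x⁻¹ ∈ twoGen G := by
    have h := mul_mem hgK (twoGen_normal.conj_mem _ (inv_mem hgK) x)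
    rw [show g * (x * g⁻¹ * x⁻¹) = (g * x * g⁻¹) * x⁻¹ by group, hg] at h
    exact h
  obtain ⟨m, b, ⟨j, hj⟩, hb⟩ := exists_two_part x
  have h1 : (x⁻¹ * x⁻¹) ^ j ∈ twoGen G := pow_mem hsq j
  have h2 : x ^ m ∈ twoGen G := mem_twoGen hb
  have hxK : x ∈ twoGen G := by
    have h3 := mul_mem h1 h2
    rw [← pow_two, ← pow_mul, hj, pow_succ, ← mul_assoc, inv_pow, inv_mul_cancel, one_mul] at h3
    exact h3
  exact ⟨hxK, ⟨g, hgK⟩, Subtype.ext hg⟩

theorem csize_subgroup_dvd (K : Subgroup G) [K.Normal] (x : K) : csize x ∣ csize (x : G) := by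
  refine (dvd_of_eq ?_).trans (relIndex_dvd_index_right (centralizer ({(x : G)} : Set G)) K)
  rw [csize, relIndex]
  refine congrArg Subgroup.index (Subgroup.ext fun g => ?_)
  rw [mem_subgroupOf, mem_cent, mem_cent, Subtype.ext_iff]
  rfl

variable (h : Disc P G)
include h

set_option maxHeartbeats 400000 in
/-- the prime divisors of the subgroup generated by the 2-elements are `2` and odd-side primes -/
theorem prime_dvd_twoGen {q : ℕ} (hq : q.Prime) (hd : q ∣ Nat.card (twoGen G)) : q = 2 ∨ P q := by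
  classical
  by_contra hne
  push Not at hne
  obtain ⟨hq2, hnP⟩ := hne
  haveI := Fact.mk hq
  haveI hKn := twoGen_normal (G := G)
  haveI : Group.IsSolvable G := isSolvable_of_disc h
  set K := twoGen G
  -- a normal subgroup of `G` maximal with index in `K` divisible by `q`
  obtain ⟨N, -, hmax⟩ := Finite.exists_le_maximal
    (p := fun N : Subgroup G => N.Normal ∧ N ≤ K ∧ q ∣ N.relIndex K) (a := ⊥)
    ⟨inferInstance, bot_le, by rwa [relIndex_bot_left]⟩
  obtain ⟨hNn, hNK, hNq⟩ := hmax.prop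
  haveI := hNn
  set f := QuotientGroup.mk' N
  have hf : Function.Surjective f := QuotientGroup.mk'_surjective N
  set Kb := K.map f
  haveI : Kb.Normal := hKn.map f hf
  have hKb : ∀ M : Subgroup (G ⧸ N), M ≤ Kb → (M.comap f).relIndex K = M.relIndex Kb := fun M _ =>
    relIndex_comap M f K
  have hcardKb : q ∣ Nat.card Kb := by
    have h1 := hKb ⊥ bot_le
    rw [MonoidHom.comap_bot, QuotientGroup.ker_mk', relIndex_bot_left] at h1
    rwa [h1] at hNq
  have hKbne : Kb ≠ ⊥ := fun e => by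
    rw [e, card_bot] at hcardKb; exact hq.ne_one (Nat.dvd_one.1 hcardKb)
  -- minimal normal below `Kb`
  obtain ⟨M, hMK, hmin⟩ := Finite.exists_le_minimal
    (p := fun M : Subgroup (G ⧸ N) => M.Normal ∧ M ≤ Kb ∧ M ≠ ⊥) (a := Kb) ⟨inferInstance, le_rfl, hKbne⟩
  obtain ⟨hMn, -, hMne⟩ := hmin.prop
  haveI := hMn
  have hsmall : ∀ M' : Subgroup (G ⧸ N), M'.Normal → M' ≤ M → M' = ⊥ ∨ M' = M := fun M' hn hle =>
    (em (M' = ⊥)).imp_right fun hne => le_antisymm hle (hmin.le_of_le ⟨hn, hle.trans hMK, hne⟩ hle)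
  have hMq' : ¬ q ∣ M.relIndex Kb := fun hd' => by
    have hle : M.comap f ≤ K := by
      refine (comap_mono hMK).trans ?_
      rw [comap_map_eq, QuotientGroup.ker_mk', sup_of_le_left hNK]
    have hN' : N ≤ M.comap f := fun n hn => by
      rw [mem_comap, show f n = 1 from (QuotientGroup.eq_one_iff n).2 hn]
      exact one_mem M
    have := hmax.le_of_ge ⟨hMn.comap f, hle, by rw [hKb M hMK]; exact hd'⟩ hN'
    refine hMne (eq_bot_iff.2 fun m hm => ?_)
    obtain ⟨g, rfl⟩ := hf m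
    exact mem_bot.2 ((QuotientGroup.eq_one_iff g).2 (this hm))
  haveI : Group.IsSolvable (G ⧸ N) := Group.isSolvable_of_surjective hf
  have hab : ∀ a ∈ M, ∀ b ∈ M, a * b = b * a := by
    rcases hsmall ⁅M, M⁆ inferInstance (commutator_le_left M M) with e | e
    · intro a ha b hb
      exact (commutatorElement_eq_one_iff_mul_comm.1 (mem_bot.1 (e ▸ commutator_mem_commutator ha hb)))
    · exfalso
      haveI : Group.IsSolvable M := inferInstance
      obtain ⟨n, hn⟩ := (inferInstance : Group.IsSolvable M).solvable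
      refine hMne (eq_bot_iff.2 fun m hm => ?_)
      have hle : ∀ j, M ≤ (derivedSeries M j).map M.subtype := by
        intro j
        induction j with
        | zero => intro a ha; exact ⟨⟨a, ha⟩, mem_top _, rfl⟩
        | succ j ih =>
          rw [derivedSeries_succ, map_commutator]
          exact e.ge.trans (commutator_mono ih ih)
      obtain ⟨a, ha, hae⟩ := hle n hm
      rw [hn] at ha
      rw [← hae, mem_bot.1 ha, map_one]
      exact one_mem _
  have hdM : q ∣ Nat.card M := by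
    rw [← Grp.card_mul_relIndex hMK] at hcardKb
    exact (hq.dvd_mul.1 hcardKb).resolve_right hMq'
  let T : Subgroup (G ⧸ N) :=
    { carrier := {m | m ∈ M ∧ m ^ q = 1}
      one_mem' := ⟨one_mem M, one_pow q⟩
      mul_mem' := fun {a b} ha hb => ⟨mul_mem ha.1 hb.1, by
        rw [(show Commute a b from hab a ha.1 b hb.1).mul_pow, ha.2, hb.2, one_mul]⟩
      inv_mem' := fun {a} ha => ⟨inv_mem ha.1, by rw [inv_pow, ha.2, inv_one]⟩ }
  have hT : T = M := by
    refine (hsmall T ⟨fun n hn g => ⟨hMn.conj_mem n hn.1 g, by rw [conj_pow, hn.2, mul_one, mul_inv_cancel]⟩⟩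
      fun m hm => hm.1).resolve_left fun e => ?_
    obtain ⟨m, hm⟩ := exists_prime_orderOf_dvd_card' (G := M) q hdM
    have hmT : (m : G ⧸ N) ∈ T := ⟨m.2, by
      rw [← SubmonoidClass.coe_pow, ← hm, pow_orderOf_eq_one, OneMemClass.coe_one]⟩
    rw [e] at hmT
    rw [show m = 1 from Subtype.ext (mem_bot.1 hmT), orderOf_one] at hm
    exact hq.ne_one hm.symm
  have hMexp : ∀ m ∈ M, m ^ q = 1 := fun m hm => (hT.symm ▸ hm : m ∈ T).2
  -- some 2-element moves `M`
  by_cases hcen : ∀ (t : G) (a : ℕ), t ^ 2 ^ a = 1 → ∀ m ∈ M, Commute (f t) m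
  · have hKc : ∀ g ∈ K, ∀ m ∈ M, Commute (f g) m := by
      intro g hg
      induction hg using closure_induction with
      | mem t ht =>
        obtain ⟨k, hk⟩ := ht
        exact hcen t k (by rw [← hk, pow_orderOf_eq_one])
      | one => intro m _; rw [map_one]; exact Commute.one_left m
      | mul a b _ _ ha hb => intro m hm; rw [map_mul]; exact (ha m hm).mul_left (hb m hm)
      | inv a _ ha => intro m hm; rw [map_inv]; exact (ha m hm).inv_left
    set M' := M.subgroupOf Kb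
    have hc' : M' ≤ center Kb := fun m hm => mem_center_iff.2 fun g => Subtype.ext (by
      obtain ⟨k, hk, hke⟩ := g.2
      have := hKc k hk m hm
      rw [hke] at this
      exact this.eq)
    have hcop : Nat.Coprime (Nat.card M') M'.index := by
      have hpg : IsPGroup q M := fun m => ⟨1, Subtype.ext (by
        rw [pow_one, coe_pow]; exact hMexp m m.2)⟩
      obtain ⟨b, hb⟩ := IsPGroup.iff_card.1 hpg
      rw [Nat.card_congr (subgroupOfEquivOfLe hMK).toEquiv, hb]
      exact Nat.Coprime.pow_left b (hq.coprime_iff_not_dvd.2 hMq')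
    haveI : M'.Normal := hMn.subgroupOf Kb
    obtain ⟨B, hB⟩ := exists_right_complement'_of_coprime hcop
    have hsplit : ∀ x : Kb, ∃ a ∈ M', ∃ b ∈ B, x = a * b := fun x => by
      obtain ⟨⟨a, b⟩, hab'⟩ := hB.2 x
      exact ⟨a, a.2, b, b.2, hab'.symm⟩
    have hBn : B.Normal := ⟨fun n hn g => by
      obtain ⟨a, ha, b, hb, rfl⟩ := hsplit g
      rw [show a * b * n * (a * b)⁻¹ = a * (b * n * b⁻¹) * a⁻¹ by group,
        ← mem_center_iff.1 (hc' ha) (b * n * b⁻¹), mul_inv_cancel_right]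
      exact mul_mem (mul_mem hb hn) (inv_mem hb)⟩
    have hBidx : B.index = Nat.card M' := hB.index_eq_card
    have hModd : Odd (Nat.card M') := by
      have hpg : IsPGroup q M := fun m => ⟨1, Subtype.ext (by
        rw [pow_one, coe_pow]; exact hMexp m m.2)⟩
      obtain ⟨b, hb⟩ := IsPGroup.iff_card.1 hpg
      rw [Nat.card_congr (subgroupOfEquivOfLe hMK).toEquiv, hb]
      exact (hq.odd_of_ne_two hq2).pow
    have htwoB : ∀ y : Kb, ∀ a : ℕ, y ^ 2 ^ a = 1 → y ∈ B := by
      intro y a ha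
      rw [← QuotientGroup.eq_one_iff]
      refine orderOf_eq_one_iff.1 (Nat.eq_one_of_dvd_coprimes (Nat.Coprime.pow_left a (Nat.coprime_two_left.2
        (hBidx ▸ hModd : Odd B.index))) (orderOf_dvd_of_pow_eq_one ?_) ?_)
      · rw [← QuotientGroup.mk_pow, ha]; rfl
      · rw [index_eq_card]; exact orderOf_dvd_natCard _
    have hall : ∀ g ∈ K, ∀ hg' : f g ∈ Kb, (⟨f g, hg'⟩ : Kb) ∈ B := by
      intro g hg
      induction hg using closure_induction with
      | mem t ht =>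
        intro hg'
        obtain ⟨k, hk⟩ := ht
        exact htwoB _ k (Subtype.ext (by
          rw [coe_pow, OneMemClass.coe_one, ← map_pow, ← hk, pow_orderOf_eq_one, map_one]))
      | one => intro hg'; convert one_mem B; exact map_one f
      | mul a b ha' hb' ha hb =>
        intro hg'
        convert mul_mem (ha (mem_map_of_mem f ha')) (hb (mem_map_of_mem f hb')) using 1
        exact Subtype.ext (map_mul f a b)
      | inv a ha' ha =>
        intro hg'
        convert inv_mem (ha (mem_map_of_mem f ha')) using 1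
        exact Subtype.ext (map_inv f a)
    have hBtop : B = ⊤ := (Subgroup.eq_top_iff' B).2 fun ⟨x, g, hg, hgx⟩ => by
      subst hgx
      exact hall g hg _
    rw [hBtop, index_top, Nat.card_congr (subgroupOfEquivOfLe hMK).toEquiv] at hBidx
    rw [← hBidx] at hdM
    exact hq.ne_one (Nat.dvd_one.1 hdM)
  · push Not at hcen
    obtain ⟨t, a, hta, m, hm, hnc⟩ := hcen
    -- the last power of `t` that moves `M`
    obtain ⟨j, hj, hj'⟩ : ∃ j, (∃ m ∈ M, ¬ Commute (f (t ^ 2 ^ j)) m) ∧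
        ∀ m ∈ M, Commute (f (t ^ 2 ^ (j + 1))) m := by
      by_contra hc
      push Not at hc
      have hall : ∀ j, ∃ m ∈ M, ¬ Commute (f (t ^ 2 ^ j)) m := by
        intro j
        induction j with
        | zero => exact ⟨m, hm, by rwa [pow_zero, pow_one]⟩
        | succ j ih => exact hc j ih
      obtain ⟨m', -, hm'⟩ := hall a
      rw [hta, map_one] at hm'
      exact hm' (Commute.one_left m')
    obtain ⟨m, hm, hnc⟩ := hj
    set s := f (t ^ 2 ^ j)
    set b := s * m * s⁻¹ * m⁻¹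
    have hb1 : b ≠ 1 := fun e => hnc (mul_inv_eq_iff_eq_mul.1 (mul_inv_eq_one.1 e))
    have hsm : s * m * s⁻¹ ∈ M := hMn.conj_mem m hm s
    have hs2 : s * (s * m * s⁻¹) * s⁻¹ = m := by
      have h2 := hj' m hm
      rw [pow_succ, pow_mul, pow_two, map_mul] at h2
      rw [show s * (s * m * s⁻¹) * s⁻¹ = (s * s) * m * (s * s)⁻¹ by group]
      exact mul_inv_eq_iff_eq_mul.2 h2.eq
    have hinv : s * b * s⁻¹ = b⁻¹ := by
      rw [show s * b * s⁻¹ = (s * (s * m * s⁻¹) * s⁻¹) * (s * m * s⁻¹)⁻¹ by simp only [b]; group, hs2]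
      simp only [b, mul_inv_rev, inv_inv]
    have hbo : orderOf b = q := orderOf_eq_prime (hMexp b (mul_mem hsm (inv_mem hm))) hb1
    obtain ⟨g, hg, hgr, c, hgc⟩ := exists_real_lift f hf hq2 hbo ⟨s, hinv⟩
    have hg1 : g ≠ 1 := fun e => hb1 (by rw [← hg, e, map_one])
    have hodd := Yset.ne_one_of_prime_pow h hq hq2 hgc
    obtain ⟨y, hy⟩ := exists_Yset h
    obtain ⟨w, hw, hcw⟩ := exists_fixed_conj h hq hgc (C := conjugatesOf y) (fun w hw => by
      obtain ⟨k, rfl⟩ := isConj_iff.1 hw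
      rw [show g * (k * y * k⁻¹) * g⁻¹ = (g * k) * y * (g * k)⁻¹ by group]
      exact conj_mem_conjugatesOf _ _)
      (by rw [card_conjugatesOf]; exact fun hd' => hnP (hy.side h hq hd'))
    obtain ⟨k, rfl⟩ := isConj_iff.1 hw
    exact (hy.conj h k).odd_real_not_commute h hgr hodd hg1 hcw

omit h in
/-- some real class size is even when the graph is disconnected -/
theorem exists_even (π₁ π₂ : Set ℕ) (h₁ : π₁.Nonempty) (h₂ : π₂.Nonempty)
    (hsub : ∀ q ∈ π₁ ∪ π₂, q.Prime ∧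
      ∃ n ∈ {n : ℕ | ∃ x : G, IsConj x x⁻¹ ∧ (Subgroup.centralizer ({x} : Set G)).index = n}, q ∣ n)
    (hdisj : Disjoint π₁ π₂)
    (hcover : ∀ q : ℕ, q.Prime →
      (∃ n ∈ {n : ℕ | ∃ x : G, IsConj x x⁻¹ ∧ (Subgroup.centralizer ({x} : Set G)).index = n}, q ∣ n) →
        q ∈ π₁ ∨ q ∈ π₂)
    (hnoedge : ∀ a ∈ π₁, ∀ b ∈ π₂,
      ∀ n ∈ {n : ℕ | ∃ x : G, IsConj x x⁻¹ ∧ (Subgroup.centralizer ({x} : Set G)).index = n},
        ¬ (a ∣ n ∧ b ∣ n)) :
    ∃ n ∈ {n : ℕ | ∃ x : G, IsConj x x⁻¹ ∧ (Subgroup.centralizer ({x} : Set G)).index = n}, 2 ∣ n := by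
  by_contra hne
  have hodd : ∀ x : G, Real x → ¬ 2 ∣ csize x := fun x hx hd => hne ⟨_, ⟨x, real_iff.2 hx, rfl⟩, hd⟩
  have hsq : ∀ x : G, Real x → x * x = 1 := fun x hx => by
    by_contra hn
    exact hodd x hx (two_dvd_csize hn hx)
  have h' : Disc (· ∈ π₂) G := by
    refine ⟨fun x hx q s hq hs hqd hsd hP => ?_, fun h2 => ?_, ?_⟩
    · rcases hcover s hs ⟨_, ⟨x, real_iff.2 hx, rfl⟩, hsd⟩ with h' | h'
      · exact absurd ⟨hsd, hqd⟩ (hnoedge s h' q hP _ ⟨x, real_iff.2 hx, rfl⟩)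
      · exact h'
    · obtain ⟨-, n, hn, hd⟩ := hsub 2 (Or.inr h2)
      exact hne ⟨n, hn, hd⟩
    · obtain ⟨q, hq⟩ := h₂
      obtain ⟨hqp, n, ⟨y, hy, rfl⟩, hd⟩ := hsub q (Or.inr hq)
      exact ⟨y, real_iff.1 hy, q, hqp, hd, hq⟩
  obtain ⟨q₁, hq₁⟩ := h₁
  obtain ⟨hq₁p, n, ⟨u, hu, rfl⟩, hud⟩ := hsub q₁ (Or.inl hq₁)
  have hur := real_iff.1 hu
  have hoff : Off (· ∈ π₂) u := fun q hq hd hP => hnoedge q₁ hq₁ q hP _ ⟨u, hu, rfl⟩ ⟨hud, hd⟩
  obtain ⟨y, hy⟩ := exists_Yset h'
  -- all involutions commute with each other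
  have hnoreal : ∀ x : G, x ≠ 1 → Odd (orderOf x) → ¬ IsConj x x⁻¹ := fun x hx ho hr =>
    hx (Grp.eq_one_of_odd_of_sq ho (hsq x (real_iff.1 hr)))
  obtain ⟨S⟩ : Nonempty (Sylow 2 G) := inferInstance
  have hn := (Cfsg.Agent.S3861.result S).1 hnoreal
  haveI : Fact (Nat.Prime 2) := ⟨Nat.prime_two⟩
  have hmem : ∀ x : G, x * x = 1 → x ∈ (S : Subgroup G) := fun x hx => by
    obtain ⟨T, hT⟩ := (isPGroup_zpowers (g := x) (a := 1) (by rw [pow_one, pow_two, hx])).exists_le_sylow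
    haveI := Sylow.unique_of_normal S hn
    exact Subsingleton.elim T S ▸ hT (mem_zpowers x)
  have hcomm : Commute u y := by
    obtain ⟨T, hT, -, -⟩ := hy.exists_sylow h'
    haveI := Sylow.unique_of_normal S hn
    exact mem_cent.1 (hT (Subsingleton.elim T S ▸ hmem u (hsq u hur)))
  have hkey : ∀ x : G, x * x = 1 → ¬ 2 ∣ Nat.card (comG x) → x ∈ center G := by
    intro x hx hodd'
    refine mem_center_iff.2 fun g => mul_inv_eq_iff_eq_mul.1 (mul_inv_eq_one.1 ?_)
    have hm : g * x * g⁻¹ * x⁻¹ ∈ comG x := subset_normalClosure ⟨g, rfl⟩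
    have hS : g * x * g⁻¹ * x⁻¹ ∈ (S : Subgroup G) :=
      mul_mem (hn.conj_mem x (hmem x hx) g) (inv_mem (hmem x hx))
    obtain ⟨a, ha⟩ := S.isPGroup' ⟨_, hS⟩
    refine orderOf_eq_one_iff.1 (Nat.eq_one_of_dvd_coprimes
      (Nat.Coprime.pow_left a (Nat.prime_two.coprime_iff_not_dvd.2 hodd'))
      (orderOf_dvd_of_pow_eq_one (congrArg Subtype.val ha)) ((comG x).orderOf_dvd_natCard hm))
  rcases mul_dichotomy h' hur hoff hy hcomm with ⟨-, hd⟩ | ⟨-, hd⟩
  · exact hy.not_center h' (hkey y hy.1 fun h2 => hodd u hur (h2.trans hd))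
  · have := hkey u (hsq u hur) fun h2 => hy.two_not_dvd h' (h2.trans hd)
    change q₁ ∣ csize u at hud
    rw [csize_eq_one_iff.2 this] at hud
    exact hq₁p.ne_one (Nat.dvd_one.1 hud)

/-- the graph of the residual subgroup: odd part and 2 -/
theorem residual (hS : ∃ x : G, x ≠ 1 ∧ Odd (orderOf x) ∧ Real x) :
    (∀ x : twoGen G, Real x → Odd (csize x) ∨ ∃ j : ℕ, csize x = 2 ^ j) ∧
      (∃ x : twoGen G, Real x ∧ 2 ∣ csize x) ∧
      ∃ x : twoGen G, Real x ∧ ∃ q : ℕ, q.Prime ∧ q ≠ 2 ∧ q ∣ csize x := by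
  haveI := twoGen_normal (G := G)
  refine ⟨fun x hx => ?_, ?_, ?_⟩
  · have hxG : Real (x : G) := by
      obtain ⟨g, hg⟩ := hx
      exact ⟨g, congrArg Subtype.val hg⟩
    rcases off_or_Yset h hxG with ho | hY
    · refine Or.inr ⟨_, Nat.eq_prime_pow_of_unique_prime_dvd (csize_pos x).ne' fun {q} hq hd => ?_⟩
      exact (prime_dvd_twoGen h hq (hd.trans (index_dvd_card _))).resolve_right
        (ho q hq (hd.trans (csize_subgroup_dvd _ x)))
    · exact Or.inl (Nat.odd_iff.2 (Nat.two_dvd_ne_zero.1 fun hd =>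
        hY.two_not_dvd h (hd.trans (csize_subgroup_dvd _ x))))
  · obtain ⟨x, hx, ho, hr⟩ := hS
    obtain ⟨hK, hrK⟩ := real_mem_twoGen hr
    exact ⟨_, hrK, two_dvd_csize (fun e => sq_ne_one_of_odd hx ho (congrArg Subtype.val e)) hrK⟩
  · obtain ⟨y, hy⟩ := exists_Yset h
    obtain ⟨hK, hrK⟩ := real_mem_twoGen (real_of_sq_one hy.1)
    obtain ⟨x, hx, ho, hr⟩ := hS
    obtain ⟨hxK, -⟩ := real_mem_twoGen hr
    have hne : csize (⟨y, hK⟩ : twoGen G) ≠ 1 := fun e => by
      have := mem_center_iff.1 (csize_eq_one_iff.1 e) ⟨x, hxK⟩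
      exact hy.odd_real_not_commute h hr ho hx (congrArg Subtype.val this)
    obtain ⟨q, hq, hd⟩ := Nat.exists_prime_and_dvd hne
    refine ⟨_, hrK, q, hq, fun e => hy.two_not_dvd h ?_, hd⟩
    exact e ▸ hd.trans (csize_subgroup_dvd _ _)

end Cfsg.Agent.RealClassGraph
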