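import Cfsg.Agent.Lib.Block.RealClassGraph.Basic

/-!
A disconnected real class size graph: the involutions whose class size lies on the odd side.
-/

set_option autoImplicit false
set_option linter.unusedSectionVars false

namespace Cfsg.Agent.RealClassGraph

open Subgroup

variable {G : Type*} [Group G] [Finite G]

/-- the prime graph on real class sizes splits along `P`, the side without `2` -/
structure Disc (P : ℕ → Prop) (G : Type*) [Group G] : Prop where
  split : ∀ x : G, Real x → ∀ q r : ℕ, q.Prime → r.Prime → q ∣ csize x → r ∣ csize x → P q → P r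
  two : ¬ P 2
  ex : ∃ x : G, Real x ∧ ∃ q : ℕ, q.Prime ∧ q ∣ csize x ∧ P q

/-- involutions with class size on the odd side -/
def Yset (P : ℕ → Prop) (y : G) : Prop :=
  y * y = 1 ∧ ∃ q : ℕ, q.Prime ∧ q ∣ csize y ∧ P q

/-- class size avoiding the odd side -/
def Off (P : ℕ → Prop) (x : G) : Prop := ∀ q : ℕ, q.Prime → q ∣ csize x → ¬ P q

theorem card_conjugatesOf (x : G) : Nat.card (conjugatesOf x) = csize x := by
  have h : (conjugatesOf x) = MulAction.orbit (ConjAct G) x := by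
    ext y
    rw [ConjAct.mem_orbit_conjAct]
    exact ⟨fun h => h.symm, fun h => h.symm⟩
  rw [h, Nat.card_coe_set_eq, ← MulAction.index_stabilizer, ConjAct.stabilizer_eq_centralizer]
  have h2 : ({ConjAct.ofConjAct (ConjAct.toConjAct x)} : Set G) = {x} := rfl
  rfl

theorem conj_mem_conjugatesOf (g x : G) : g * x * g⁻¹ ∈ conjugatesOf x := isConj_iff.2 ⟨g, rfl⟩

theorem csize_conj (g x : G) : csize (g * x * g⁻¹) = csize x := by
  rw [← card_conjugatesOf, ← card_conjugatesOf, (isConj_iff.2 ⟨g, rfl⟩ : IsConj x (g * x * g⁻¹)).conjugatesOf_eq]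

variable {P : ℕ → Prop} (h : Disc P G)
include h

theorem Yset.side {y : G} (hy : Yset P y) {q : ℕ} (hq : q.Prime) (hd : q ∣ csize y) : P q := by
  obtain ⟨r, hr, hrd, hP⟩ := hy.2
  exact h.split y (real_of_sq_one hy.1) r q hr hq hrd hd hP

theorem Yset.two_not_dvd {y : G} (hy : Yset P y) : ¬ 2 ∣ csize y :=
  fun hd => h.two (hy.side h Nat.prime_two hd)

theorem Yset.not_center {y : G} (hy : Yset P y) : y ∉ center G := by
  intro hc
  obtain ⟨q, hq, hd, -⟩ := hy.2
  rw [csize_eq_one_iff.2 hc] at hd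
  exact hq.ne_one (Nat.dvd_one.1 hd)

theorem Yset.ne_one {y : G} (hy : Yset P y) : y ≠ 1 :=
  fun e => hy.not_center h (e ▸ one_mem _)

theorem Yset.order_two {y : G} (hy : Yset P y) : orderOf y = 2 :=
  orderOf_eq_prime (by rw [pow_two]; exact hy.1) (hy.ne_one h)

theorem Yset.conj {y : G} (hy : Yset P y) (g : G) : Yset P (g * y * g⁻¹) :=
  ⟨by rw [show g * y * g⁻¹ * (g * y * g⁻¹) = g * (y * y) * g⁻¹ by group, hy.1, mul_one,
    mul_inv_cancel], by rw [csize_conj]; exact hy.2⟩

theorem exists_Yset : ∃ y : G, Yset P y := by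
  obtain ⟨x, hx, q, hq, hd, hP⟩ := h.ex
  refine ⟨x, ?_, q, hq, hd, hP⟩
  by_contra hne
  exact h.two (h.split x hx q 2 hq Nat.prime_two hd (two_dvd_csize hne hx) hP)

theorem off_of_sq_ne_one {x : G} (hx : Real x) (hne : x * x ≠ 1) : Off P x :=
  fun q hq hd hP => h.two (h.split x hx q 2 hq Nat.prime_two hd (two_dvd_csize hne hx) hP)

theorem off_or_Yset {x : G} (hx : Real x) : Off P x ∨ Yset P x := by
  by_cases hs : x * x = 1
  · by_cases he : ∃ q : ℕ, q.Prime ∧ q ∣ csize x ∧ P q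
    · exact Or.inr ⟨hs, he⟩
    · exact Or.inl fun q hq hd hP => he ⟨q, hq, hd, hP⟩
  · exact Or.inl (off_of_sq_ne_one h hx hs)

theorem coprime_off {x y : G} (hx : Off P x) (hy : Yset P y) : Nat.Coprime (csize x) (csize y) :=
  Nat.coprime_of_dvd fun _ hk h1 h2 => hx _ hk h1 (hy.side h hk h2)

theorem exists_factor {x y : G} (hx : Off P x) (hy : Yset P y) (g : G) :
    ∃ a ∈ centralizer ({x} : Set G), ∃ b ∈ centralizer ({y} : Set G), g = a * b :=
  exists_mul_of_coprime (coprime_off h hx hy) g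

/-- a commuting pair gives a real product -/
theorem real_mul {x y : G} (hx : Real x) (ho : Off P x) (hy : Yset P y) (hc : Commute x y) :
    Real (x * y) := by
  obtain ⟨g, hg⟩ := hx
  obtain ⟨a, ha, b, hb, rfl⟩ := exists_factor h ho hy g
  have h1 : b * x * b⁻¹ = x⁻¹ := by
    calc b * x * b⁻¹ = a⁻¹ * (a * b * x * (a * b)⁻¹) * a := by group
      _ = a⁻¹ * x⁻¹ * a := by rw [hg]
      _ = (a⁻¹ * x * a)⁻¹ := by group
      _ = x⁻¹ := by
        have := conj_eq_of_mem_cent (inv_mem ha)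
        rw [inv_inv] at this
        rw [this]
  refine ⟨b, ?_⟩
  rw [show b * (x * y) * b⁻¹ = (b * x * b⁻¹) * (b * y * b⁻¹) by group, h1, conj_eq_of_mem_cent hb,
    hc.eq, mul_inv_rev, inv_eq_of_mul_eq_one_right hy.1]

theorem Yset.odd_real_not_commute {x y : G} (hy : Yset P y) (hx : Real x) (ho : Odd (orderOf x))
    (hne : x ≠ 1) : ¬ Commute x y := by
  intro hc
  have hoff := off_of_sq_ne_one h hx (sq_ne_one_of_odd hne ho)
  have hle : centralizer ({x * y} : Set G) ≤ centralizer {x} ⊓ centralizer {y} := by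
    intro g hg
    have h2 : Commute g (x * y) := mem_cent.1 hg
    have key : Commute g x := by
      have h3 := h2.pow_right 2
      rw [hc.mul_pow, pow_two y, hy.1, mul_one] at h3
      obtain ⟨j, hj⟩ := ho
      have e : x = ((x ^ 2) ^ (j + 1)) := by
        rw [← pow_mul, show 2 * (j + 1) = (2 * j + 1) + 1 by ring, pow_succ, ← hj,
          pow_orderOf_eq_one, one_mul]
      rw [e]; exact h3.pow_right _
    refine Subgroup.mem_inf.2 ⟨mem_cent.2 key, mem_cent.2 ?_⟩
    have h4 := key.inv_right.mul_right h2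
    rwa [inv_mul_cancel_left] at h4
  have hd := index_dvd_of_le hle
  have h2 : 2 ∣ csize (x * y) :=
    ((two_dvd_csize (sq_ne_one_of_odd hne ho) hx).trans (index_dvd_of_le inf_le_left)).trans hd
  obtain ⟨q, hq, hqd, hP⟩ := hy.2
  exact h.two (h.split _ (real_mul h hx hoff hy hc) q 2 hq Nat.prime_two
    ((hqd.trans (index_dvd_of_le inf_le_right)).trans hd) h2 hP)

theorem Yset.no_real_in_centralizer {y : G} (hy : Yset P y) (x : centralizer ({y} : Set G))
    (p : ℕ) (hp : p.Prime) (hp2 : p ≠ 2) (hx : orderOf x = p) : ¬ Real x := by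
  rintro ⟨g, hg⟩
  refine hy.odd_real_not_commute h (x := x.1) ⟨g.1, congrArg Subtype.val hg⟩ ?_ ?_ (mem_cent.1 x.2)
  · rw [orderOf_coe, hx]; exact hp.odd_of_ne_two hp2
  · intro e
    rw [show x = 1 from Subtype.ext e, orderOf_one] at hx
    exact hp.ne_one hx.symm

theorem Yset.solvable_centralizer {y : G} (hy : Yset P y) :
    Group.IsSolvable (centralizer ({y} : Set G)) := by
  obtain ⟨S⟩ : Nonempty (Sylow 2 (centralizer ({y} : Set G))) := inferInstance
  exact isSolvable_of_normal_sylow_two S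
    (normal_sylow_two_of_no_real (hy.no_real_in_centralizer h) S)

/-- `C(y)` has a unique Sylow 2-subgroup, which is one of `G` -/
theorem Yset.exists_sylow {y : G} (hy : Yset P y) :
    ∃ S : Sylow 2 G, (S : Subgroup G) ≤ centralizer ({y} : Set G) ∧
      (∀ s ∈ centralizer ({y} : Set G), (∃ a : ℕ, s ^ 2 ^ a = 1) → s ∈ (S : Subgroup G)) ∧
      centralizer ({y} : Set G) ≤ normalizer ((S : Subgroup G) : Set G) := by
  haveI : Fact (Nat.Prime 2) := ⟨Nat.prime_two⟩
  set C := centralizer ({y} : Set G)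
  obtain ⟨S0⟩ : Nonempty (Sylow 2 C) := inferInstance
  have hn := normal_sylow_two_of_no_real (hy.no_real_in_centralizer h) S0
  obtain ⟨S, hS⟩ := (S0.isPGroup'.map C.subtype).exists_le_sylow
  have hidx : ¬ 2 ∣ ((S0 : Subgroup C).map C.subtype).index := by
    rw [index_map_subtype]
    exact fun hd => (Nat.prime_two.dvd_mul.1 hd).elim S0.not_dvd_index (hy.two_not_dvd h)
  have hSeq : (S : Subgroup G) = (S0 : Subgroup C).map C.subtype := by
    rcases eq_or_lt_of_le hS with e | hlt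
    · exact e.symm
    · exfalso
      obtain ⟨k, hk⟩ := IsPGroup.iff_card.1 S.isPGroup'
      have h1 := relIndex_mul_index hlt.le
      have h2 : ((S0 : Subgroup C).map C.subtype).relIndex (S : Subgroup G) ∣ 2 ^ k :=
        hk ▸ relIndex_dvd_card _ _
      obtain ⟨j, -, hj⟩ := (Nat.dvd_prime_pow Nat.prime_two).1 h2
      rcases j.eq_zero_or_pos with rfl | hpos
      · exact hlt.not_ge (relIndex_eq_one.1 (by simpa using hj))
      · exact hidx (h1 ▸ (hj ▸ dvd_pow_self 2 hpos.ne').mul_right _)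
  refine ⟨S, hSeq ▸ map_subtype_le _, fun s hs ha => ?_, ?_⟩
  · rw [hSeq]
    obtain ⟨a, ha⟩ := ha
    have h2 : IsPGroup 2 (zpowers (⟨s, hs⟩ : C)) := by
      obtain ⟨i, -, hi⟩ := (Nat.dvd_prime_pow Nat.prime_two).1
        (orderOf_dvd_of_pow_eq_one (show (⟨s, hs⟩ : C) ^ 2 ^ a = 1 from Subtype.ext (by simpa using ha)))
      exact IsPGroup.of_card (n := i) (by rw [Nat.card_zpowers, hi])
    obtain ⟨Q, hQ⟩ := h2.exists_le_sylow
    haveI := Sylow.unique_of_normal S0 hn
    exact mem_map.2 ⟨⟨s, hs⟩, Subsingleton.elim S0 Q ▸ hQ (mem_zpowers _), rfl⟩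
  · rw [hSeq]
    exact (le_normalizer_map _).trans' (by
      rw [normalizer_eq_top_iff.2 hn, ← MonoidHom.range_eq_map, range_subtype])

omit h in
theorem exists_mul_eq_of_card {A B : Set G} (hc : Nat.card B ≤ Nat.card A) (w : G)
    (hm : ∀ a ∈ A, a * w ∈ B) {b : G} (hb : b ∈ B) : ∃ a ∈ A, a * w = b := by
  have himg : (fun a => a * w) '' A = B := by
    refine Set.eq_of_subset_of_ncard_le (by rintro _ ⟨a, ha, rfl⟩; exact hm a ha) ?_
    rwa [Set.ncard_image_of_injective _ (mul_left_injective w), ← Nat.card_coe_set_eq,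
      ← Nat.card_coe_set_eq]
  rw [← himg] at hb
  exact hb

omit h in
theorem invariant_closure {C : Set G} {T : Set G}
    (hT : ∀ t ∈ T, ∀ w ∈ C, w * t ∈ C ∧ w * t⁻¹ ∈ C) {n : G} (hn : n ∈ closure T) :
    ∀ w ∈ C, w * n ∈ C ∧ w * n⁻¹ ∈ C := by
  induction hn using closure_induction with
  | mem t ht => exact hT t ht
  | one => intro w hw; simp [hw]
  | mul a b _ _ ha hb =>
    intro w hw
    rw [mul_inv_rev, ← mul_assoc, ← mul_assoc]
    exact ⟨(hb _ (ha w hw).1).1, (ha _ (hb w hw).2).2⟩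
  | inv a _ ha => intro w hw; rw [inv_inv]; exact (ha w hw).symm

omit h in
theorem card_dvd_of_invariant {C : Set G} {N : Subgroup G} (hN : ∀ n ∈ N, ∀ w ∈ C, w * n ∈ C) :
    Nat.card N ∣ Nat.card C := by
  have h : C = QuotientGroup.mk ⁻¹' ((QuotientGroup.mk : G → G ⧸ N) '' C) := by
    refine Set.Subset.antisymm (Set.subset_preimage_image _ _) ?_
    rintro g ⟨w, hw, e⟩
    have := hN _ (QuotientGroup.eq.1 e) w hw
    rwa [mul_inv_cancel_left] at this
  rw [h, Nat.card_congr (QuotientGroup.preimageMkEquivSubgroupProdSet N _), Nat.card_prod]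
  exact dvd_mul_right _ _

/-- the normal subgroup `[x, G]` -/
abbrev comG (x : G) : Subgroup G := normalClosure {c | ∃ g : G, c = g * x * g⁻¹ * x⁻¹}

omit h in
theorem comG_invariant {x : G} {C : Set G}
    (hT : ∀ a ∈ conjugatesOf x, ∀ b ∈ conjugatesOf x, ∀ w ∈ C, w * (a * b⁻¹) ∈ C) {n : G}
    (hn : n ∈ comG x) : ∀ w ∈ C, w * n ∈ C ∧ w * n⁻¹ ∈ C := by
  refine invariant_closure (fun t ht w hw => ?_) hn
  obtain ⟨c, ⟨g, rfl⟩, hc⟩ := Group.mem_conjugatesOfSet_iff.1 ht
  obtain ⟨k, rfl⟩ := isConj_iff.1 hc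
  rw [show k * (g * x * g⁻¹ * x⁻¹) * k⁻¹ = (k * g) * x * (k * g)⁻¹ * (k * x * k⁻¹)⁻¹ by group]
  refine ⟨hT _ (conj_mem_conjugatesOf _ _) _ (conj_mem_conjugatesOf _ _) w hw, ?_⟩
  rw [mul_inv_rev, inv_inv]
  exact hT _ (conj_mem_conjugatesOf _ _) _ (conj_mem_conjugatesOf _ _) w hw

/-- the two possibilities for the class of a commuting product -/
theorem mul_dichotomy {x y : G} (hx : Real x) (ho : Off P x) (hy : Yset P y) (hc : Commute x y) :
    ((∀ n ∈ comG y, ∀ w ∈ conjugatesOf x, w * n ∈ conjugatesOf x) ∧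
        Nat.card (comG y) ∣ csize x) ∨
      ((∀ n ∈ comG x, ∀ w ∈ conjugatesOf y, w * n ∈ conjugatesOf y) ∧
        Nat.card (comG x) ∣ csize y) := by
  have hco := coprime_off h ho hy
  have hmul : ∀ a ∈ conjugatesOf x, ∀ b ∈ conjugatesOf y, a * b ∈ conjugatesOf (x * y) := by
    intro a ha b hb
    obtain ⟨g, rfl⟩ := isConj_iff.1 ha
    obtain ⟨k, rfl⟩ := isConj_iff.1 hb
    obtain ⟨u, hu, v, hv, e⟩ := exists_factor h ho hy (g⁻¹ * k)
    refine isConj_iff.2 ⟨g * u, ?_⟩
    have e' : k = g * u * v := by rw [mul_assoc, ← e, mul_inv_cancel_left]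
    rw [e', show g * u * v * y * (g * u * v)⁻¹ = g * u * (v * y * v⁻¹) * (g * u)⁻¹ by group,
      conj_eq_of_mem_cent hv]
    conv_rhs => rw [← conj_eq_of_mem_cent hu]
    group
  have hdvd : csize (x * y) ∣ csize x * csize y := by
    refine (index_dvd_of_le (H := centralizer ({x} : Set G) ⊓ centralizer {y}) ?_).trans (dvd_of_eq ?_)
    · intro g hg
      exact mem_cent.2 ((show Commute g x from mem_cent.1 hg.1).mul_right
        (show Commute g y from mem_cent.1 hg.2))
    · exact le_antisymm index_inf_le (Nat.le_of_dvd (Nat.pos_of_ne_zero index_ne_zero_of_finite)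
        (hco.mul_dvd_of_dvd_of_dvd (index_dvd_of_le inf_le_left) (index_dvd_of_le inf_le_right)))
  by_cases hP : ∃ q : ℕ, q.Prime ∧ q ∣ csize (x * y) ∧ P q
  · obtain ⟨q, hq, hqd, hPq⟩ := hP
    have hcb : csize (x * y) ∣ csize y := by
      refine (Nat.coprime_of_dvd fun r hr h1 h2 => ho r hr h2 ?_).dvd_of_dvd_mul_left hdvd
      exact h.split _ (real_mul h hx ho hy hc) q r hq hr hqd h1 hPq
    refine Or.inr ?_
    have hinv : ∀ n ∈ comG x, ∀ w ∈ conjugatesOf y, w * n ∈ conjugatesOf y := by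
      intro n hn w hw
      refine (comG_invariant (fun a ha b hb w hw => ?_) hn w hw).1
      -- conjugate to turn the left translation into a right one; classes of real elements are closed under inversion
      have hcl : ∀ g : G, ∀ c ∈ conjugatesOf x, (g * c * g⁻¹)⁻¹ ∈ conjugatesOf x := by
        intro g c hc
        obtain ⟨k, rfl⟩ := isConj_iff.1 hc
        obtain ⟨s, hs⟩ := hx
        rw [show (g * (k * x * k⁻¹) * g⁻¹)⁻¹ = g * k * x⁻¹ * (g * k)⁻¹ by group, ← hs,
          show g * k * (s * x * s⁻¹) * (g * k)⁻¹ = (g * k * s) * x * (g * k * s)⁻¹ by group]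
        exact conj_mem_conjugatesOf _ _
      set a₁ := (w * a * w⁻¹)⁻¹ with ha₁
      set b₁ := (w * b * w⁻¹)⁻¹ with hb₁
      have hA : (fun u => a₁ * u) '' conjugatesOf y = conjugatesOf (x * y) := by
        refine Set.eq_of_subset_of_ncard_le
          (by rintro _ ⟨u, hu, rfl⟩; exact hmul _ (hcl w a ha) u hu) ?_
        rw [Set.ncard_image_of_injective _ (mul_right_injective _), ← Nat.card_coe_set_eq,
          ← Nat.card_coe_set_eq, card_conjugatesOf, card_conjugatesOf]
        exact Nat.le_of_dvd (csize_pos y) hcb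
      obtain ⟨u, hu, e⟩ := (hA.symm ▸ hmul _ (hcl w b hb) w hw :
        b₁ * w ∈ (fun u => a₁ * u) '' conjugatesOf y)
      have : w * (a * b⁻¹) = u := by
        have e' : a₁ * u = b₁ * w := e
        rw [show u = a₁⁻¹ * (a₁ * u) by group, e', ha₁, hb₁]
        group
      rwa [this]
    exact ⟨hinv, card_conjugatesOf (G := G) y ▸ card_dvd_of_invariant hinv⟩
  · have hca : csize (x * y) ∣ csize x :=
      (Nat.coprime_of_dvd fun r hr h1 h2 => hP ⟨r, hr, h1, hy.side h hr h2⟩).dvd_of_dvd_mul_right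
        hdvd
    refine Or.inl ?_
    have hinv : ∀ n ∈ comG y, ∀ w ∈ conjugatesOf x, w * n ∈ conjugatesOf x := by
      intro n hn w hw
      refine (comG_invariant (fun a ha b hb w hw => ?_) hn w hw).1
      obtain ⟨u, hu, e⟩ := exists_mul_eq_of_card (A := conjugatesOf x) (B := conjugatesOf (x * y))
        (by rw [card_conjugatesOf, card_conjugatesOf]; exact Nat.le_of_dvd (csize_pos x) hca) b
        (fun u hu => hmul u hu b hb) (hmul w hw a ha)
      have : w * (a * b⁻¹) = u := by rw [← mul_assoc, ← e, mul_inv_cancel_right]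
      rwa [this]
    exact ⟨hinv, card_conjugatesOf (G := G) x ▸ card_dvd_of_invariant hinv⟩

end Cfsg.Agent.RealClassGraph
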