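import Cfsg.Agent.Lib.Block.RealClassGraph.Level

/-!
The module of order 64.
-/

set_option autoImplicit false
set_option linter.unusedSectionVars false
set_option linter.style.haveILetI false

open scoped Pointwise

namespace Cfsg.Agent.RealClassGraph

open Subgroup

variable {X V : Type*} [Group X] [Finite X] [AddCommGroup V] [Finite V] [DistribMulAction X V]
variable {P : ℕ → Prop}

/-- an element permuting seven vectors transitively leaves room only for its powers -/
theorem pow_seven_fix {x z : X} (hx : orderOf x = 7) (hfpf : ∀ w : V, x • w = w → w = 0)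
    (hzx : Commute z x) (W : AddSubgroup V) (hW : Nat.card W = 8) (hxW : ∀ w ∈ W, x • w ∈ W)
    (hzW : ∀ w ∈ W, z • w ∈ W) : ∀ w ∈ W, z ^ 7 • w = w := by
  classical
  haveI := Fintype.ofFinite W
  intro w hw
  by_cases h0 : w = 0
  · rw [h0, smul_zero]
  have hpowW : ∀ j : ℕ, ∀ u ∈ W, x ^ j • u ∈ W := by
    intro j
    induction j with
    | zero => intro u hu; rwa [pow_zero, one_smul]
    | succ j ih => intro u hu; rw [pow_succ', mul_smul]; exact hxW _ (ih u hu)
  have hne : ∀ j : ℕ, x ^ j • w ≠ 0 := fun j e =>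
    h0 (MulAction.injective (x ^ j) (e.trans (smul_zero _).symm))
  let f : Fin 7 → {u : W // u ≠ 0} := fun j => ⟨⟨x ^ (j : ℕ) • w, hpowW j w hw⟩,
    fun e => hne j (congrArg Subtype.val e)⟩
  have hinj : Function.Injective f := by
    suffices ∀ a b : Fin 7, (a : ℕ) ≤ b → f a = f b → a = b from fun a b e =>
      (le_total (a : ℕ) b).elim (fun h => this a b h e) fun h => (this b a h e.symm).symm
    intro a b hab e
    have e' : x ^ (a : ℕ) • w = x ^ (b : ℕ) • w := congrArg (fun q : {u : W // u ≠ 0} => (q.1 : V)) e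
    obtain ⟨t, ht⟩ := Nat.exists_eq_add_of_le hab
    rw [ht, pow_add, mul_smul] at e'
    have e'' := (MulAction.injective _ e').symm
    rcases t.eq_zero_or_pos with rfl | htp
    · exact Fin.ext (by omega)
    exfalso
    have hcop : Nat.Coprime t (orderOf x) := by
      rw [hx]
      refine ((Nat.prime_def.2 ⟨by norm_num, fun m hm => (Nat.dvd_prime (by norm_num)).1 hm⟩ :
        Nat.Prime 7).coprime_iff_not_dvd.2 fun hd => ?_).symm
      have := Nat.le_of_dvd htp hd
      omega
    obtain ⟨m, hm⟩ := exists_pow_eq_self_of_coprime hcop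
    have key : ∀ m : ℕ, (x ^ t) ^ m • w = w := by
      intro m
      induction m with
      | zero => rw [pow_zero, one_smul]
      | succ m ih => rw [pow_succ, mul_smul, e'', ih]
    exact h0 (hfpf w ((congrArg (fun a : X => a • w) hm).symm.trans (key m)))
  have hbij := (Fintype.bijective_iff_injective_and_card f).2 ⟨hinj, by
    rw [Fintype.card_fin, Fintype.card_subtype_compl, Fintype.card_subtype_eq, ← Nat.card_eq_fintype_card,
      hW]⟩
  obtain ⟨j, hj⟩ := hbij.2 ⟨⟨z • w, hzW w hw⟩, fun e => h0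
    (MulAction.injective z ((congrArg Subtype.val e).trans (smul_zero z).symm))⟩
  have hj' : x ^ (j : ℕ) • w = z • w := congrArg (fun q : {u : W // u ≠ 0} => (q.1 : V)) hj
  have key : ∀ m : ℕ, z ^ m • w = x ^ ((j : ℕ) * m) • w := by
    intro m
    induction m with
    | zero => simp
    | succ m ih =>
      rw [pow_succ', mul_smul, ih, ← mul_smul, (hzx.pow_right _).eq, mul_smul, ← hj', ← mul_smul,
        ← pow_add, Nat.mul_succ]
  rw [key, mul_comm, pow_mul, show x ^ 7 = 1 from hx ▸ pow_orderOf_eq_one x, one_pow, one_smul]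

/-- no element of order seven is real, when an element of order three commutes with it -/
theorem not_real_seven (hM : Mod P X V) (h64 : Nat.card V = 64) {x z u : X} (hx : orderOf x = 7)
    (hz : orderOf z = 3) (hzx : Commute z x) (hu : u * x * u⁻¹ = x⁻¹) : False := by
  classical
  have h7 : Nat.Prime 7 := by norm_num
  have hfpf := hM.fpf x 7 h7 (by norm_num) hx ⟨u, hu⟩
  set a : V →+ V := DistribSMul.toAddMonoidHom V x + DistribSMul.toAddMonoidHom V (x ^ 2) +
    DistribSMul.toAddMonoidHom V (x ^ 4)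
  have hav : ∀ w : V, a w = x • w + x ^ 2 • w + x ^ 4 • w := fun w => rfl
  have hx7 : ∀ w : V, x ^ 7 • w = w := fun w => by rw [← hx, pow_orderOf_eq_one, one_smul]
  have h2 := hM.two
  have hidem : ∀ w : V, a (a w) = a w := by
    intro w
    have h8 : x ^ 8 • w = x • w := by
      rw [show 8 = 1 + 7 by norm_num, pow_add, pow_one, mul_smul, hx7]
    simp only [hav, smul_add, ← mul_smul, ← pow_add, ← pow_succ, ← pow_succ']
    norm_num
    rw [show x * x = x ^ 2 from (pow_two x).symm, h8]
    calc x ^ 2 • w + x ^ 3 • w + x ^ 5 • w + (x ^ 3 • w + x ^ 4 • w + x ^ 6 • w) +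
          (x ^ 5 • w + x ^ 6 • w + x • w)
        = (x • w + x ^ 2 • w + x ^ 4 • w) + ((x ^ 3 • w + x ^ 3 • w) + (x ^ 5 • w + x ^ 5 • w) +
            (x ^ 6 • w + x ^ 6 • w)) := by abel
      _ = _ := by rw [h2 (x ^ 3 • w), h2 (x ^ 5 • w), h2 (x ^ 6 • w)]; abel
  have hsum : ∀ w : V, x ^ 6 • w + x ^ 5 • w + x ^ 3 • w = w + a w := by
    intro w
    set s := w + a w + (x ^ 6 • w + x ^ 5 • w + x ^ 3 • w)
    have hs : x • s = s := by
      show x • (w + a w + (x ^ 6 • w + x ^ 5 • w + x ^ 3 • w)) = w + a w + (x ^ 6 • w + x ^ 5 • w + x ^ 3 • w)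
      simp only [hav, smul_add, ← mul_smul, ← pow_succ']
      rw [show x * x = x ^ 2 from (pow_two x).symm, show 6 + 1 = 7 from rfl, hx7]
      abel
    have h0 := hfpf s hs
    rw [← sub_eq_zero, ← neg_eq_of_add_eq_zero_left (h2 (w + a w)), sub_neg_eq_add, add_comm]
    exact h0
  have hinv : x⁻¹ = x ^ 6 := inv_eq_of_mul_eq_one_right (by
    rw [← pow_succ', show 6 + 1 = orderOf x from hx.symm, pow_orderOf_eq_one])
  have hpow : ∀ (j : ℕ) (w : V), u • x ^ j • w = x ^ (6 * j) • u • w := by
    intro j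
    induction j with
    | zero => intro w; simp
    | succ j ih =>
      intro w
      rw [pow_succ, mul_smul, ih, ← mul_smul u x, show u * x = x⁻¹ * u by rw [← hu, inv_mul_cancel_right],
        hinv, mul_smul, ← mul_smul, ← pow_add, Nat.mul_succ]
  have hlow : ∀ (j k : ℕ) (w : V), j % 7 = k % 7 → x ^ j • w = x ^ k • w := fun j k w h => by
    rw [← pow_mod_orderOf x j, ← pow_mod_orderOf x k, hx, h]
  have hua : ∀ w : V, u • a w = u • w + a (u • w) := by
    intro w
    rw [← hsum (u • w), hav, smul_add, smul_add, hpow 2, hpow 4,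
      show u • x • w = x ^ (6 * 1) • u • w by rw [← hpow 1, pow_one],
      hlow (6 * 1) 6 _ (by norm_num), hlow (6 * 2) 5 _ (by norm_num), hlow (6 * 4) 3 _ (by norm_num)]
  let W : AddSubgroup V := (a - AddMonoidHom.id V).ker
  let W' : AddSubgroup V := a.ker
  have hW : ∀ w : V, w ∈ W ↔ a w = w := fun w => sub_eq_zero
  have hW' : ∀ w : V, w ∈ W' ↔ a w = 0 := fun w => Iff.rfl
  let e : V ≃ W × W' :=
    { toFun := fun w => (⟨a w, (hW _).2 (hidem w)⟩, ⟨w + a w, (hW' _).2 (by rw [map_add, hidem, h2])⟩)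
      invFun := fun q => (q.1 : V) + q.2
      left_inv := fun w => by
        show a w + (w + a w) = w
        rw [add_comm w, ← add_assoc, h2, zero_add]
      right_inv := fun q => by
        have e1 : a ((q.1 : V) + q.2) = q.1 := by
          rw [map_add, (hW _).1 q.1.2, (hW' _).1 q.2.2, add_zero]
        refine Prod.ext (Subtype.ext e1) (Subtype.ext ?_)
        show (q.1 : V) + q.2 + a ((q.1 : V) + q.2) = q.2
        rw [e1, add_comm ((q.1 : V) + q.2), ← add_assoc, h2, zero_add] }
  have hmap : ∀ w ∈ W, u • w ∈ W' := fun w hw => by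
    have h := hua w
    rw [(hW w).1 hw] at h
    exact (hW' _).2 (left_eq_add.1 h)
  have hmap' : ∀ w ∈ W', u • w ∈ W := fun w hw => by
    have h := hua w
    rw [(hW' w).1 hw, smul_zero] at h
    refine (hW _).2 ?_
    rw [← neg_eq_of_add_eq_zero_right h.symm, neg_eq_of_add_eq_zero_left (h2 _)]
  have h1 : Nat.card W ≤ Nat.card W' := Nat.card_le_card_of_injective
    (fun w : W => (⟨u • (w : V), hmap _ w.2⟩ : W'))
    fun a b h => Subtype.ext (MulAction.injective u (congrArg Subtype.val h))
  have h1' : Nat.card W' ≤ Nat.card W := Nat.card_le_card_of_injective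
    (fun w : W' => (⟨u • (w : V), hmap' _ w.2⟩ : W))
    fun a b h => Subtype.ext (MulAction.injective u (congrArg Subtype.val h))
  have hcards := Nat.card_congr e
  rw [Nat.card_prod, h64, le_antisymm h1' h1] at hcards
  have hW8 : Nat.card W = 8 := Nat.mul_self_inj.1 hcards.symm
  have hW'8 : Nat.card W' = 8 := (le_antisymm h1' h1).trans hW8
  have hcomm : ∀ g : X, Commute g x → ∀ w : V, a (g • w) = g • a w := by
    intro g hg w
    simp only [hav, smul_add, ← mul_smul]
    rw [hg.eq, (hg.pow_right 2).eq, (hg.pow_right 4).eq]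
  have hz7 : z ^ 7 = 1 := hM.faithful _ fun w => by
    obtain ⟨q, rfl⟩ := e.symm.surjective w
    show z ^ 7 • ((q.1 : V) + q.2) = (q.1 : V) + q.2
    rw [smul_add,
      pow_seven_fix hx hfpf hzx W hW8 (fun w hw => (hW _).2 (by rw [hcomm x (Commute.refl x), (hW w).1 hw]))
        (fun w hw => (hW _).2 (by rw [hcomm z hzx, (hW w).1 hw])) _ q.1.2,
      pow_seven_fix hx hfpf hzx W' hW'8
        (fun w hw => (hW' _).2 (by rw [hcomm x (Commute.refl x), (hW' w).1 hw, smul_zero]))
        (fun w hw => (hW' _).2 (by rw [hcomm z hzx, (hW' w).1 hw, smul_zero])) _ q.2.2]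
  have := orderOf_dvd_of_pow_eq_one hz7
  rw [hz] at this
  norm_num at this

/-- the case of a module of order 64 -/
theorem solvable_six (hM : Mod P X V) (h64 : Nat.card V = 64) : Group.IsSolvable X := by
  classical
  haveI : Fact (Nat.Prime 2) := ⟨Nat.prime_two⟩
  by_cases hreal : ∃ (x : X) (p : ℕ), p.Prime ∧ p ≠ 2 ∧ orderOf x = p ∧ Real x
  swap
  · push Not at hreal
    exact hM.solvable_of_no_real fun x p hp hp2 ho hr => hreal x p hp hp2 ho hr
  obtain ⟨x₀, p₀, hp₀, hp₀2, hx₀, hx₀r⟩ := hreal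
  obtain ⟨k, hk0, hkcard, hunion, hcount⟩ := hM.exists_k
  rw [h64] at hcount
  have htop : Nat.card (⊤ : AddSubgroup V) = 64 :=
    (Nat.card_congr AddSubgroup.topEquiv.toEquiv).trans h64
  have hhalf : ∀ j : X, j * j = 1 → j ≠ 1 → Nat.card (Act.fix (U := V) j) = 8 := fun j hj hj1 => by
    have h := half_of_irred hM.two hM.faithful hM.ne
      (fun W hne hW => (hM.irred W fun y u hu => hW y u hu).resolve_left hne)
      (fun m p hp hp2 ho hr => hM.fpf m p hp hp2 ho hr) hj hj1
    rw [h64] at h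
    exact Nat.mul_self_inj.1 h
  have hinvol : ∃ j : X, j * j = 1 ∧ j ≠ 1 := by
    obtain ⟨g, ⟨a, ha⟩, hg⟩ := hx₀r.exists_two_inverter
    obtain ⟨b, -, hb⟩ := (Nat.dvd_prime_pow Nat.prime_two).1 (orderOf_dvd_of_pow_eq_one ha)
    rcases b.eq_zero_or_pos with rfl | hb0
    · rw [pow_zero, orderOf_eq_one_iff] at hb
      rw [hb, one_mul, inv_one, mul_one] at hg
      exact absurd (eq_inv_iff_mul_eq_one.1 hg) (sq_ne_one_of_odd
        (fun e => by rw [e, orderOf_one] at hx₀; exact hp₀.ne_one hx₀.symm) (hx₀ ▸ hp₀.odd_of_ne_two hp₀2))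
    refine ⟨g ^ 2 ^ (b - 1), ?_, fun h => ?_⟩
    · rw [← pow_add, ← two_mul, ← pow_succ', Nat.sub_add_cancel hb0, ← hb, pow_orderOf_eq_one]
    · have h5 := orderOf_dvd_of_pow_eq_one h
      rw [hb] at h5
      have := Nat.pow_dvd_pow_iff_le_right'.1 h5
      omega
  have hk13 : k = 1 ∨ k = 3 := by
    obtain ⟨j, hj, hj1⟩ := hinvol
    have h := hunion (Act.fix (U := V) j) fun w hw u hu =>
      hu j (hM.mem_sylOf w hw (a := 1) (by rw [pow_one, pow_two, hj]))
    rw [hhalf j hj hj1] at h
    exact (Nat.dvd_prime Nat.prime_three).1 (Arith.dvd_iff.1 (h : 2 ^ k - 1 ∣ 2 ^ 3 - 1))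
  have h3n : 3 ∣ Nat.card (Sylow 2 X) := by
    rcases hk13 with rfl | rfl <;> norm_num at hcount <;> omega
  have hdvdX : ∀ q, q ∣ Nat.card (Sylow 2 X) → q ∣ Nat.card X := fun q h =>
    h.trans (Sylow.card_eq_index_normalizer (default : Sylow 2 X) ▸ index_dvd_card _)
  have hcent : ∀ (x : X) (p q : ℕ), p.Prime → p ≠ 2 → orderOf x = p → Real x → q.Prime →
      q ∣ Nat.card (Sylow 2 X) → ∃ z : X, orderOf z = q ∧ Commute z x := by
    intro x p q hp hp2 ho hr hq hqn
    haveI := Fact.mk hq
    obtain ⟨R, hR⟩ := exists_sylow_le (q := q) _ (hM.size x p hp hp2 ho hr q hq (hM.syl q hq hqn))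
    obtain ⟨z, hz⟩ := exists_prime_orderOf_dvd_card' (G := (R : Subgroup X)) q
      (R.dvd_card_of_dvd_card (hdvdX q hqn))
    exact ⟨z, by rw [orderOf_coe, hz], mem_cent.1 (hR z.2)⟩
  have hno7 : ∀ x : X, orderOf x = 7 → ¬ Real x := by
    intro x hx hr
    obtain ⟨z, hz, hzx⟩ := hcent x 7 3 (by norm_num) (by norm_num) hx hr Nat.prime_three h3n
    obtain ⟨u, hu⟩ := hr
    exact not_real_seven hM h64 hx hz hzx hu
  have hp3 : ∀ (x : X) (p : ℕ), p.Prime → p ≠ 2 → orderOf x = p → Real x → p = 3 := by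
    intro x p hp hp2 ho hr
    have h := orderOf_dvd_of_prime hp ho (⊤ : AddSubgroup V) (fun _ _ => AddSubgroup.mem_top _)
      (hM.fpf x p hp hp2 ho hr)
    rw [htop] at h
    have h' : p ∣ 3 * 3 * 7 := h
    rcases hp.dvd_mul.1 h' with h1 | h1
    · rcases hp.dvd_mul.1 h1 with h2 | h2 <;>
        exact (Nat.prime_dvd_prime_iff_eq hp Nat.prime_three).1 h2
    · have := (Nat.prime_dvd_prime_iff_eq hp (by norm_num : Nat.Prime 7)).1 h1
      subst this
      exact absurd hr (hno7 x ho)
  have hnostab : ∀ i : X, i * i = 1 → i ≠ 1 → ∀ (m : X) (p : ℕ), p.Prime → p ≠ 2 → orderOf m = p →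
      m • Act.fix (U := V) i = Act.fix (U := V) i → ¬ Real m := by
    intro i hi hi1 m p hp hp2 ho hst hr
    have h := orderOf_dvd_of_prime hp ho (Act.fix (U := V) i) (Act.stab_iff.1 hst)
      (hM.fpf m p hp hp2 ho hr)
    rw [hhalf i hi hi1] at h
    have := hp3 m p hp hp2 ho hr
    subst this
    norm_num at h
  -- an involution whose fixed space has only trivially acting 2-elements in its stabilizer
  obtain ⟨i, hi, hi1, htriv⟩ : ∃ i : X, i * i = 1 ∧ i ≠ 1 ∧
      ∀ (g : X) (a : ℕ), g ^ 2 ^ a = 1 → g • Act.fix (U := V) i = Act.fix (U := V) i →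
        ∀ u ∈ Act.fix (U := V) i, g • u = u := by
    rcases hk13 with rfl | rfl
    · have h7n : 7 ∣ Nat.card (Sylow 2 X) := by norm_num at hcount; omega
      have hP7 := hM.syl 7 (by norm_num) h7n
      haveI : Fact (Nat.Prime 7) := ⟨by norm_num⟩
      have hx3 : orderOf x₀ = 3 := hx₀.trans (hp3 x₀ p₀ hp₀ hp₀2 hx₀ hx₀r)
      obtain ⟨R, hR⟩ := exists_sylow_le (q := 7) _
        (hM.size x₀ p₀ hp₀ hp₀2 hx₀ hx₀r 7 (by norm_num) hP7)
      obtain ⟨u, ⟨a, ha⟩, hux, huR⟩ := exists_normalizing_inverter hx₀r R hR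
      have hxfix := hM.fpf x₀ 3 Nat.prime_three (by norm_num) hx3 hx₀r
      have hu2 : u * u = 1 := by
        by_contra hne
        have hs : ∃ b : ℕ, orderOf (u * u) = 2 ^ (b + 1) := by
          obtain ⟨b, -, hb⟩ := (Nat.dvd_prime_pow Nat.prime_two).1
            (orderOf_dvd_of_pow_eq_one (show (u * u) ^ 2 ^ a = 1 by rw [← pow_two, pow_right_comm, ha, one_pow]))
          rcases b with _ | b
          · exact absurd (orderOf_eq_one_iff.1 (by rw [hb, pow_zero])) hne
          · exact ⟨b, hb⟩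
        obtain ⟨b, hb⟩ := hs
        set s := (u * u) ^ 2 ^ b
        have hs2 : s * s = 1 := by rw [← pow_add, ← two_mul, ← pow_succ', ← hb, pow_orderOf_eq_one]
        have hs1 : s ≠ 1 := fun e => by
          have h5 := orderOf_dvd_of_pow_eq_one e
          rw [hb] at h5
          have := Nat.pow_dvd_pow_iff_le_right'.1 h5
          omega
        have hcs : Commute x₀ s := (show Commute x₀ (u * u) from (mem_cent.1 (Grp.sq_mem_centralizer hux)).symm).pow_right _
        have h := orderOf_dvd_of_prime Nat.prime_three hx3 (Act.fix (U := V) s)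
          (Act.stab_iff.1 (Act.smul_fix_of_commute hcs)) hxfix
        rw [hhalf s hs2 hs1] at h
        norm_num at h
      have hu1 : u ≠ 1 := fun e => by
        rw [e, one_mul, inv_one, mul_one] at hux
        exact sq_ne_one_of_odd (fun e => by rw [e, orderOf_one] at hx₀; exact hp₀.ne_one hx₀.symm)
          (hx₀ ▸ hp₀.odd_of_ne_two hp₀2) (eq_inv_iff_mul_eq_one.1 hux)
      have hui : u⁻¹ = u := inv_eq_of_mul_eq_one_right hu2
      have huc : ∀ z ∈ (R : Subgroup X), Commute u z := by
        intro z hz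
        set w := z⁻¹ * (u * z * u⁻¹) with hw
        have hwR : w ∈ (R : Subgroup X) := mul_mem (inv_mem hz) ((mem_normalizer_iff.1 huR z).1 hz)
        have hwinv : u * w * u⁻¹ = w⁻¹ := by
          rw [hw, hui, mul_inv_rev, mul_inv_rev, mul_inv_rev, inv_inv, hui,
            show u * (z⁻¹ * (u * z * u)) * u = u * z⁻¹ * u * z * (u * u) by group, hu2, mul_one]
          group
        by_cases hw1 : w = 1
        · rw [hw, inv_mul_eq_one] at hw1
          exact mul_inv_eq_iff_eq_mul.1 hw1.symm
        exfalso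
        obtain ⟨b, hb⟩ := R.isPGroup' ⟨w, hwR⟩
        obtain ⟨b', -, hb'⟩ := (Nat.dvd_prime_pow (by norm_num : Nat.Prime 7)).1
          (orderOf_dvd_of_pow_eq_one (show w ^ 7 ^ b = 1 from congrArg Subtype.val hb))
        rcases b' with _ | b'
        · exact hw1 (orderOf_eq_one_iff.1 (by rw [hb', pow_zero]))
        refine hno7 (w ^ 7 ^ b') ?_ (Real.pow ⟨u, hwinv⟩ _)
        rw [orderOf_pow_of_dvd (pow_ne_zero _ (by norm_num)) (hb' ▸ pow_dvd_pow 7 (Nat.le_succ _)), hb',
          Nat.pow_div (Nat.le_succ _) (by norm_num), show b'.succ - b' = 1 by omega, pow_one]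
      obtain ⟨z, hz⟩ := exists_prime_orderOf_dvd_card' (G := (R : Subgroup X)) 7
        (R.dvd_card_of_dvd_card (hdvdX 7 h7n))
      set c : X := (z : X)
      have hco : orderOf c = 7 := by rw [orderOf_coe, hz]
      have hcfix : ∀ w : V, c • w = w → w = 0 := by
        set F := Act.fix (U := V) c
        obtain ⟨f, hf⟩ := exists_card_eq hM.two F
        have hxF := orderOf_dvd_of_prime Nat.prime_three hx3 F
          (Act.stab_iff.1 (Act.smul_fix_of_commute (mem_cent.1 (hR z.2) : Commute c x₀).symm)) hxfix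
        rw [hf] at hxF
        have hf2 : 2 ∣ f := Arith.dvd_iff.1 (hxF : 2 ^ 2 - 1 ∣ 2 ^ f - 1)
        have hpg : IsPGroup 7 (zpowers c) := IsPGroup.of_card (n := 1) (by rw [Nat.card_zpowers, hco, pow_one])
        have hmod := hpg.card_modEq_card_fixedPoints V
        have hfp : Nat.card (MulAction.fixedPoints (zpowers c) V) = 2 ^ f := by
          rw [← hf]
          refine Nat.card_congr (Equiv.subtypeEquivRight fun w => ?_)
          refine ⟨fun h => h ⟨c, mem_zpowers c⟩, fun h g => ?_⟩
          exact MulAction.mem_stabilizer_iff.1 (zpowers_le.2 (MulAction.mem_stabilizer_iff.2 h) g.2)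
        rw [h64, hfp] at hmod
        have hfle : f ≤ 6 := by
          have h := Nat.card_le_card_of_injective _ F.subtype_injective
          rw [hf, h64, show 64 = 2 ^ 6 by norm_num] at h
          exact (Nat.pow_le_pow_iff_right (by norm_num : 1 < 2)).1 h
        have hf6 : f ≠ 6 := fun e => by
          have hF := AddSubgroup.eq_top_of_card_eq F (by rw [hf, e, h64]; norm_num)
          have := hM.faithful c fun w => (hF.symm ▸ AddSubgroup.mem_top w : w ∈ F)
          rw [this, orderOf_one] at hco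
          omega
        have hf0 : f = 0 := by
          unfold Nat.ModEq at hmod
          interval_cases f <;> first | rfl | omega
        intro w hw
        have := AddSubgroup.eq_bot_of_card_eq F (by rw [hf, hf0, pow_zero])
        exact AddSubgroup.mem_bot.1 (this ▸ hw : w ∈ (⊥ : AddSubgroup V))
      refine ⟨u, hu2, hu1, fun g a hga hst => two_elements_trivial hM.two (Act.fix (U := V) u) ?_
        (MulAction.stabilizer X (Act.fix (U := V) u)) (fun g hg => hg)
        (fun m hm t _ p hp hp2 ho hinv => hnostab u hu2 hu1 m p hp hp2 ho hm ⟨t, hinv⟩) c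
        (MulAction.mem_stabilizer_iff.2 (Act.smul_fix_of_commute (huc c z.2).symm))
        (fun W hle hne hinv => ?_) (MulAction.mem_stabilizer_iff.2 hst) hga⟩
      · intro h
        have := hhalf u hu2 hu1
        rw [h, AddSubgroup.card_bot] at this
        omega
      · obtain ⟨b, hb⟩ := exists_card_eq hM.two W
        have h := orderOf_dvd_of_prime (by norm_num : Nat.Prime 7) hco W hinv hcfix
        rw [hb] at h
        have h3b : 3 ∣ b := Arith.dvd_iff.1 (h : 2 ^ 3 - 1 ∣ 2 ^ b - 1)
        refine AddSubgroup.eq_of_le_of_card_ge hle ?_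
        rw [hb, hhalf u hu2 hu1, show 8 = 2 ^ 3 by norm_num]
        rcases b.eq_zero_or_pos with rfl | hb0
        · exact absurd (AddSubgroup.eq_bot_of_card_eq _ (hb.trans (pow_zero 2))) hne
        · exact Nat.pow_le_pow_right (by norm_num) (Nat.le_of_dvd hb0 h3b)
    · obtain ⟨i, hi, hi1⟩ := hinvol
      obtain ⟨w, hw, hw0⟩ : ∃ w ∈ Act.fix (U := V) i, w ≠ 0 := by
        by_contra hc
        push Not at hc
        have h := hhalf i hi hi1
        rw [show Act.fix (U := V) i = ⊥ from eq_bot_iff.2 fun u hu => AddSubgroup.mem_bot.2 (hc u hu),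
          AddSubgroup.card_bot] at h
        omega
      have hcomp : fixSub (V := V) (hM.sylOf ⟨w, hw0⟩ : Subgroup X) = Act.fix (U := V) i :=
        AddSubgroup.eq_of_le_of_card_ge
          (fun u hu => hu i (hM.mem_sylOf ⟨w, hw0⟩ hw (a := 1) (by rw [pow_one, pow_two, hi])))
          (by rw [hkcard, hhalf i hi hi1]; norm_num)
      refine ⟨i, hi, hi1, fun g a hga hst u hu => ?_⟩
      exact hM.two_fix_component ⟨w, hw0⟩ hga (by rw [hcomp]; exact hst) u (hcomp.symm ▸ hu)
  set U' := Act.fix (U := V) i with hU'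
  have hU'card : Nat.card U' = 8 := hhalf i hi hi1
  have hfix : ∀ t : X, t * t = 1 → t ≠ 1 → (∀ u ∈ U', t • u = u) → Act.fix (U := V) t = U' :=
    fun t h2 h1 h => (AddSubgroup.eq_of_le_of_card_ge h (by rw [hhalf t h2 h1, hU'card])).symm
  have hmove : ∃ g ∈ (⊤ : Subgroup X), g • U' ≠ U' := by
    by_contra hc
    push Not at hc
    rcases hM.irred U' (fun x u hu => Act.stab_iff.1 (hc x (mem_top x)) u hu) with h | h
    · rw [h, AddSubgroup.card_bot] at hU'card; omega
    · rw [h, htop] at hU'card; omega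
  have htwoel : ∀ (g : X) (a : ℕ), g ^ 2 ^ a = 1 → Commute g i → g = 1 ∨ g = i := by
    intro g a ha hg
    by_cases hg1 : g = 1
    · exact Or.inl hg1
    refine Or.inr ?_
    have hz := htriv g a ha (Act.smul_fix_of_commute hg)
    have hgT : g ∈ Act.transv (Y := X) U' := ⟨hz, fun u => by
      show i • (g • u - u) = g • u - u
      have hiu : i • u - u ∈ U' := by
        show i • (i • u - u) = i • u - u
        rw [smul_sub, ← mul_smul, hi, one_smul, ← Act.neg_eq_self hM.two (i • u - u), neg_sub]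
      have h := hz _ hiu
      rw [smul_sub, ← mul_smul, hg.eq, mul_smul] at h
      rw [smul_sub]
      exact sub_eq_sub_iff_sub_eq_sub.1 h⟩
    have hg2 := Act.transv_sq hM.two hM.faithful hgT
    exact Act.unique_involution hM.two ⊤ U'
      (fun s _ hs hs1 hst => hfix s hs hs1 (htriv s 1 (by rw [pow_one, pow_two, hs]) hst))
      (fun m _ t _ p hp hp2 ho hst hinv => hnostab i hi hi1 m p hp hp2 ho hst ⟨t, hinv⟩) hmove
      (mem_top i) hi hi1 rfl (mem_top g) hg2 hg1 (hfix g hg2 hg1 hz)
  refine isSolvable_of_two_part (L := 1) (g := i)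
    (by rw [pow_one]; exact orderOf_eq_prime (by rw [pow_two]; exact hi) hi1)
    (two_part_bound (n := 0) (g := i) (i := i)
      (by rw [zero_add, pow_one]; exact orderOf_eq_prime (by rw [pow_two]; exact hi) hi1)
      (by rw [pow_zero, pow_one]) fun hdvd => ?_)
  obtain ⟨K, hK⟩ := Sylow.exists_subgroup_card_pow_prime (G := centralizer ({i} : Set X)) 2 (n := 2) hdvd
  have hKp : IsPGroup 2 K := IsPGroup.of_card hK
  have hle : Nat.card K ≤ 2 := by
    refine (Nat.card_le_card_of_injective (fun z : K => decide (((z : centralizer ({i} : Set X)) : X) = 1)) ?_).trans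
      (by rw [Nat.card_eq_fintype_card, Fintype.card_bool])
    have hval : ∀ z : K, ((z : centralizer ({i} : Set X)) : X) = 1 ∨ ((z : centralizer ({i} : Set X)) : X) = i := fun z => by
      obtain ⟨a, ha⟩ := hKp z
      exact htwoel _ a (by simpa using congrArg (fun q : K => ((q : centralizer ({i} : Set X)) : X)) ha)
        (mem_cent.1 (z : centralizer ({i} : Set X)).2)
    intro a b hab
    refine Subtype.ext (Subtype.ext ?_)
    rcases hval a with ha | ha <;> rcases hval b with hb | hb
    · rw [ha, hb]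
    · simp [ha, hb, hi1] at hab
    · simp [ha, hb, hi1] at hab
    · rw [ha, hb]
  rw [hK] at hle
  norm_num at hle

end Cfsg.Agent.RealClassGraph
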