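import Cfsg.Agent.Lib.Block.RealClassGraph.Comp

/-!
The Singer centralizer and the 2-element normalising it.
-/

set_option autoImplicit false
set_option linter.unusedSectionVars false
set_option linter.style.haveILetI false

open scoped Pointwise

namespace Cfsg.Agent.RealClassGraph

open Subgroup

variable {X V : Type*} [Group X] [Finite X] [AddCommGroup V] [Finite V] [DistribMulAction X V]

/-- the data of a Singer centralizer -/
structure Data (P : ℕ → Prop) (X V : Type*) [Group X] [AddCommGroup V] [DistribMulAction X V]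
    (c v : X) (v₀ : V) (d r k L : ℕ) : Prop where
  sing : Sing X V c d r
  kpos : 0 < k
  klt : k < d
  kcard : ∀ S : Sylow 2 X, Nat.card (fixSub (V := V) (S : Subgroup X)) = 2 ^ k
  count : Nat.card (Sylow 2 X) * (2 ^ k - 1) = 2 ^ d - 1
  ord : orderOf v = 2 ^ L
  Lpos : 0 < L
  norm : v * c * v⁻¹ ∈ zpowers c
  ne : v₀ ≠ 0
  fixv : v • v₀ = v₀
  inv : ∀ (x : X) (p : ℕ), p.Prime → p ≠ 2 → orderOf x = p → Real x →
    ∀ y ∈ centralizer ({c} : Set X), orderOf y = p → ∃ j : ℕ, v ^ j * y * (v ^ j)⁻¹ = y⁻¹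
  sylq : ∀ q : ℕ, q.Prime → P q → ¬ q ∣ csize c
  elem : ∀ m : ℕ, m ∣ Nat.card (Sylow 2 X) → ∃ y ∈ centralizer ({c} : Set X), orderOf y = m

theorem mem_zpowers_of_orderOf {H : Type*} [Group H] [Finite H] [IsCyclic H] {a b : H}
    (h : orderOf a ∣ orderOf b) : a ∈ zpowers b := by
  classical
  haveI := Fintype.ofFinite H
  set n := orderOf b
  have hsub : ((zpowers b : Subgroup H) : Set H).toFinset ⊆ Finset.univ.filter fun x : H => x ^ n = 1 := by
    intro x hx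
    rw [Set.mem_toFinset] at hx
    obtain ⟨j, rfl⟩ := mem_zpowers_iff.1 hx
    exact Finset.mem_filter.2 ⟨Finset.mem_univ _, by
      rw [← zpow_natCast, ← zpow_mul, mul_comm, zpow_mul, zpow_natCast, pow_orderOf_eq_one, one_zpow]⟩
  have he := Finset.eq_of_subset_of_card_le hsub ((IsCyclic.card_pow_eq_one_le (orderOf_pos b)).trans (by
    rw [Set.toFinset_card, ← Nat.card_eq_fintype_card]; exact (Nat.card_zpowers b).ge))
  have ha : a ∈ Finset.univ.filter fun x : H => x ^ n = 1 :=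
    Finset.mem_filter.2 ⟨Finset.mem_univ _, orderOf_dvd_iff_pow_eq_one.1 h⟩
  rw [← he, Set.mem_toFinset] at ha
  exact ha

theorem mem_zpowers_of_orderOf' {C : Subgroup X} [IsCyclic C] {a b : X} (ha : a ∈ C) (hb : b ∈ C)
    (h : orderOf a ∣ orderOf b) : a ∈ zpowers b := by
  obtain ⟨j, hj⟩ := mem_zpowers_iff.1 (mem_zpowers_of_orderOf (a := (⟨a, ha⟩ : C)) (b := ⟨b, hb⟩)
    (by rwa [← orderOf_coe, ← orderOf_coe]))
  exact mem_zpowers_iff.2 ⟨j, congrArg Subtype.val hj⟩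

theorem mem_normalizer_zpowers {c g : X} (h : g * c * g⁻¹ ∈ zpowers c) :
    g ∈ normalizer ((zpowers c : Subgroup X) : Set X) :=
  Subgroup.mem_normalizer_fintype fun n hn => by
    obtain ⟨j, rfl⟩ := mem_zpowers_iff.1 hn
    show g * c ^ j * g⁻¹ ∈ zpowers c
    rw [← conj_zpow]
    exact zpow_mem h j

/-- a real element is inverted by a 2-element normalising a Sylow subgroup of its centralizer -/
theorem exists_normalizing_inverter {x : X} (hx : Real x) {q : ℕ} [Fact q.Prime] (R : Sylow q X)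
    (hR : (R : Subgroup X) ≤ centralizer ({x} : Set X)) :
    ∃ u : X, (∃ a : ℕ, u ^ 2 ^ a = 1) ∧ u * x * u⁻¹ = x⁻¹ ∧
      u ∈ normalizer ((R : Subgroup X) : Set X) := by
  obtain ⟨g, hg⟩ := hx
  have hgR : ((g • R : Sylow q X) : Subgroup X) ≤ centralizer ({x} : Set X) := by
    rintro _ ⟨s, hs, rfl⟩
    show g * s * g⁻¹ ∈ centralizer ({x} : Set X)
    have h1 : Commute s x := mem_cent.1 (hR hs)
    have h2 := ((Commute.conj_iff g).2 h1)
    rw [hg] at h2
    have h3 := h2.inv_right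
    rw [inv_inv] at h3
    exact mem_cent.2 h3
  set C := centralizer ({x} : Set X)
  obtain ⟨l, hl⟩ := MulAction.exists_smul_eq C ((g • R).subtype hgR) (R.subtype hR)
  have hnR : (l : X) * g ∈ normalizer ((R : Subgroup X) : Set X) := by
    refine mem_normalizer_fintype fun s hs => ?_
    have h1 : (⟨g * s * g⁻¹, hgR ⟨s, hs, rfl⟩⟩ : C) ∈ ((g • R).subtype hgR : Subgroup C) :=
      ⟨s, hs, rfl⟩
    have h2 := Subgroup.smul_mem_pointwise_smul _ (MulAut.conj l) _ h1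
    rw [show (MulAut.conj l • (((g • R).subtype hgR : Sylow q C) : Subgroup C)) =
      ((l • (g • R).subtype hgR : Sylow q C) : Subgroup C) from rfl, hl] at h2
    show (l : X) * g * s * ((l : X) * g)⁻¹ ∈ (R : Subgroup X)
    rw [show (l : X) * g * s * ((l : X) * g)⁻¹ = (l : X) * (g * s * g⁻¹) * (l : X)⁻¹ by group]
    simpa [mem_subgroupOf, MulAut.smul_def] using h2
  obtain ⟨m, a, hm, ha⟩ := exists_two_part ((l : X) * g)
  refine ⟨_, ⟨a, ha⟩, conj_inv_odd ?_ hm, pow_mem hnR m⟩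
  rw [show (l : X) * g * x * ((l : X) * g)⁻¹ = (l : X) * (g * x * g⁻¹) * (l : X)⁻¹ by group, hg,
    (show Commute (l : X) x from mem_cent.1 l.2).inv_right.eq, mul_inv_cancel_right]

theorem exists_data {P : ℕ → Prop} (hM : Mod P X V) {d : ℕ} (hd : Nat.card V = 2 ^ d) (h6 : d ≠ 6)
    (hreal : ∃ (x : X) (p : ℕ), p.Prime ∧ p ≠ 2 ∧ orderOf x = p ∧ Real x) :
    ∃ c v v₀ r k L, Data P X V c v v₀ d r k L := by
  classical
  haveI : Fact (Nat.Prime 2) := ⟨Nat.prime_two⟩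
  obtain ⟨k, hk0, hkcard, -, hcount⟩ := hM.exists_k
  rw [hd] at hcount
  obtain ⟨x₀, p₀, hp₀, hp₀2, hx₀, hx₀r⟩ := hreal
  -- a component is proper
  have hkd : k < d := by
    obtain ⟨g, ⟨a, ha⟩, hg⟩ := hx₀r.exists_two_inverter
    obtain ⟨S, hS⟩ := (isPGroup_zpowers ha).exists_le_sylow
    have hle : 2 ^ k ≤ 2 ^ d := by
      rw [← hkcard S, ← hd]
      exact Nat.card_le_card_of_injective _ Subtype.val_injective
    rcases (Nat.pow_le_pow_iff_right (by norm_num : 1 < 2)).1 hle |>.lt_or_eq with h | h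
    · exact h
    · exfalso
      have h1 : g = 1 := hM.faithful g fun u =>
        (AddSubgroup.eq_top_of_card_eq (fixSub (V := V) (S : Subgroup X)) (by rw [hkcard, hd, h]) ▸
          AddSubgroup.mem_top u : u ∈ fixSub (V := V) (S : Subgroup X)) g (hS (mem_zpowers g))
      rw [h1, one_mul, inv_one, mul_one] at hg
      have h2 := sq_ne_one_of_odd (fun e => by rw [e, orderOf_one] at hx₀; exact hp₀.ne_one hx₀.symm)
        (hx₀ ▸ hp₀.odd_of_ne_two hp₀2)
      exact h2 (eq_inv_iff_mul_eq_one.1 hg)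
  obtain ⟨r, hr, hr2, hrd, hprim⟩ := Arith.exists_primitive (n := d) (by omega) h6
  haveI := Fact.mk hr
  have hrn : r ∣ Nat.card (Sylow 2 X) := by
    rcases hr.dvd_mul.1 (hcount.symm ▸ hrd) with h | h
    · exact h
    · exact absurd (Nat.le_of_dvd hk0 (hprim k h)) hkd.not_ge
  have hPr := hM.syl r hr hrn
  have hsing : ∀ c : X, orderOf c = r → Sing X V c d r := fun c hc =>
    ⟨hM.two, hM.faithful, hd, by omega, hr, hr2, hc, hprim⟩
  obtain ⟨R⟩ : Nonempty (Sylow r X) := inferInstance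
  have hR1 : r ∣ Nat.card (R : Subgroup X) :=
    R.dvd_card_of_dvd_card (hrn.trans (Sylow.card_eq_index_normalizer (default : Sylow 2 X) ▸
      index_dvd_card _))
  haveI : Nontrivial (R : Subgroup X) := Finite.one_lt_card_iff_nontrivial.1
    (lt_of_lt_of_le hr.one_lt (Nat.le_of_dvd Nat.card_pos hR1))
  haveI := R.isPGroup'.center_nontrivial
  obtain ⟨m, hm, hmc⟩ :=
    (R.isPGroup'.to_subgroup (center (R : Subgroup X))).nontrivial_iff_card.1 inferInstance
  obtain ⟨z, hz⟩ := exists_prime_orderOf_dvd_card' (G := center (R : Subgroup X)) r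
    (hmc ▸ dvd_pow_self r hm.ne')
  set c : X := ((z : (R : Subgroup X)) : X) with hc
  have hco : orderOf c = r := by rw [hc, orderOf_coe, orderOf_coe, hz]
  have hs := hsing c hco
  set Q := centralizer ({c} : Set X) with hQ
  have hcR : (R : Subgroup X) ≤ Q := fun s hs' =>
    mem_cent.2 (congrArg Subtype.val (mem_center_iff.1 z.2 ⟨s, hs'⟩))
  haveI : IsCyclic Q := hs.centralizer_cyclic
  have hcQ : c ∈ Q := mem_cent.2 rfl
  have hQodd : Odd (Nat.card Q) := Odd.of_dvd_nat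
    (Nat.Even.sub_odd Nat.one_le_two_pow ((Nat.even_pow.2 ⟨even_two, by omega⟩)) odd_one)
    hs.centralizer_card_dvd
  set N := normalizer ((zpowers c : Subgroup X) : Set X) with hN
  obtain ⟨T⟩ : Nonempty (Sylow 2 N) := inferInstance
  have hQtwo : ∀ g ∈ Q, ∀ a : ℕ, g ^ 2 ^ a = 1 → g = 1 := fun g hg a ha =>
    orderOf_eq_one_iff.1 (Nat.eq_one_of_dvd_coprimes (Nat.Coprime.pow_left a (Nat.coprime_two_left.2
      (Odd.of_dvd_nat hQodd (Q.orderOf_dvd_natCard hg)))) (orderOf_dvd_of_pow_eq_one ha) dvd_rfl)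
  have hTcyc : IsCyclic (T : Subgroup N) := by
    haveI : IsCyclic (MulAut (zpowers c)) := by
      haveI : IsCyclic (ZMod (Nat.card (zpowers c)))ˣ := by
        rw [Nat.card_zpowers, hco]
        exact ZMod.isCyclic_units_prime hr
      exact isCyclic_of_surjective (IsCyclic.mulAutMulEquiv (zpowers c)).symm.toMonoidHom
        (IsCyclic.mulAutMulEquiv (zpowers c)).symm.surjective
    refine isCyclic_of_injective ((zpowers c).normalizerMonoidHom.comp (T : Subgroup N).subtype)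
      ((injective_iff_map_eq_one _).2 fun t ht => ?_)
    have h1 : (t : N) ∈ (zpowers c).normalizerMonoidHom.ker := MonoidHom.mem_ker.2 ht
    rw [normalizerMonoidHom_ker, mem_subgroupOf] at h1
    obtain ⟨a, ha⟩ := T.isPGroup' t
    refine Subtype.ext (Subtype.ext (hQtwo _ (mem_cent.2 (h1 c (mem_zpowers c)).symm) a ?_))
    simpa using congrArg (fun s : (T : Subgroup N) => ((s : N) : X)) ha
  obtain ⟨w, hw⟩ := hTcyc.exists_generator
  set v : X := ((w : N) : X) with hv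
  -- every real element has a conjugate in `Q` inverted by a power of `v`
  have hkey : ∀ (x : X) (p : ℕ), p.Prime → p ≠ 2 → orderOf x = p → Real x →
      ∃ x' ∈ Q, orderOf x' = p ∧ ∃ j : ℕ, v ^ j * x' * (v ^ j)⁻¹ = x'⁻¹ := by
    intro x p hp hp2 ho hr'
    obtain ⟨R', hR'⟩ := exists_sylow_le (q := r) _ (hM.size x p hp hp2 ho hr' r hr hPr)
    obtain ⟨g, rfl⟩ := MulAction.exists_smul_eq X R R'
    obtain ⟨u, ⟨a, ha⟩, hux, huN⟩ := exists_normalizing_inverter hr' (g • R) hR'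
    set x₁ := g⁻¹ * x * g with hx₁
    set u₁ := g⁻¹ * u * g with hu₁
    have hx₁Q : x₁ ∈ Q := by
      have h1 : Commute (g * c * g⁻¹) x :=
        mem_cent.1 (hR' ⟨c, ((z : (R : Subgroup X))).2, rfl⟩)
      have h2 := (Commute.conj_iff g⁻¹).2 h1
      rw [inv_inv, show g⁻¹ * (g * c * g⁻¹) * g = c by group] at h2
      exact mem_cent.2 h2.symm
    have hu₁N : u₁ ∈ N := by
      refine mem_normalizer_zpowers ?_
      have h1 := (mem_normalizer_iff.1 huN (g * c * g⁻¹)).1 ⟨c, ((z : (R : Subgroup X))).2, rfl⟩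
      obtain ⟨s, hs', hse⟩ := h1
      have hse' : g * s * g⁻¹ = u * (g * c * g⁻¹) * u⁻¹ := hse
      have e : u₁ * c * u₁⁻¹ = s := by
        rw [hu₁, show g⁻¹ * u * g * c * (g⁻¹ * u * g)⁻¹ = g⁻¹ * (u * (g * c * g⁻¹) * u⁻¹) * g by group,
          ← hse']
        group
      rw [e]
      refine mem_zpowers_of_orderOf' (C := Q) (hcR hs') hcQ (dvd_of_eq ?_)
      rw [← e, Invol.orderOf_conj_eq]
    have hu₁2 : (⟨u₁, hu₁N⟩ : N) ^ 2 ^ a = 1 := Subtype.ext (by
      show (g⁻¹ * u * g) ^ 2 ^ a = 1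
      rw [show g⁻¹ * u * g = g⁻¹ * u * (g⁻¹)⁻¹ by group, conj_pow, ha]; group)
    obtain ⟨T', hT'⟩ := (isPGroup_zpowers hu₁2).exists_le_sylow
    obtain ⟨y, rfl⟩ := MulAction.exists_smul_eq N T T'
    obtain ⟨t, ht, hte⟩ := hT' (mem_zpowers (⟨u₁, hu₁N⟩ : N))
    obtain ⟨j, hj⟩ := (mem_powers_iff_mem_zpowers.2 (hw ⟨t, ht⟩) :
      (⟨t, ht⟩ : (T : Subgroup N)) ∈ Submonoid.powers w)
    have hte' : (y : X) * (t : X) * (y : X)⁻¹ = u₁ := congrArg Subtype.val hte
    have hvj : v ^ j = (y : X)⁻¹ * u₁ * y := by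
      rw [← hte']
      have := congrArg (fun s : (T : Subgroup N) => ((s : N) : X)) hj
      simp at this
      rw [hv, this]; group
    refine ⟨(y : X)⁻¹ * x₁ * y, ?_, ?_, j, ?_⟩
    · have h1 : (y : X) * c * (y : X)⁻¹ ∈ zpowers c :=
        (mem_normalizer_iff.1 y.2 c).1 (mem_zpowers c)
      obtain ⟨i, hi⟩ := mem_zpowers_iff.1 h1
      have h2 : Commute x₁ ((y : X) * c * (y : X)⁻¹) :=
        hi ▸ (show Commute x₁ c from mem_cent.1 hx₁Q).zpow_right i
      have h3 := (Commute.conj_iff (y : X)⁻¹).2 h2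
      rw [inv_inv, show (y : X)⁻¹ * ((y : X) * c * (y : X)⁻¹) * y = c by group] at h3
      exact mem_cent.2 h3
    · rw [show (y : X)⁻¹ * x₁ * y = (g * y)⁻¹ * x * ((g * y)⁻¹)⁻¹ by rw [hx₁]; group,
        Invol.orderOf_conj_eq, ho]
    · rw [hvj, hx₁, hu₁, show (y : X)⁻¹ * (g⁻¹ * u * g) * y * ((y : X)⁻¹ * (g⁻¹ * x * g) * y) *
        ((y : X)⁻¹ * (g⁻¹ * u * g) * y)⁻¹ = (y : X)⁻¹ * g⁻¹ * (u * x * u⁻¹) * g * y by group, hux]
      group
  have hinv : ∀ (x : X) (p : ℕ), p.Prime → p ≠ 2 → orderOf x = p → Real x →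
      ∀ y ∈ Q, orderOf y = p → ∃ j : ℕ, v ^ j * y * (v ^ j)⁻¹ = y⁻¹ := by
    intro x p hp hp2 ho hr' y hy hyo
    obtain ⟨x', hx', hxo, j, hj⟩ := hkey x p hp hp2 ho hr'
    obtain ⟨i, rfl⟩ := mem_zpowers_iff.1
      (mem_zpowers_of_orderOf' (C := Q) hy hx' (dvd_of_eq (hyo.trans hxo.symm)))
    exact ⟨j, by rw [← conj_zpow, hj, inv_zpow]⟩
  obtain ⟨L, hL⟩ : ∃ L, orderOf v = 2 ^ L := by
    obtain ⟨a, ha⟩ := T.isPGroup' w
    obtain ⟨L, -, hL⟩ := (Nat.dvd_prime_pow Nat.prime_two).1 (orderOf_dvd_of_pow_eq_one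
      (show v ^ 2 ^ a = 1 by simpa using congrArg (fun s : (T : Subgroup N) => ((s : N) : X)) ha))
    exact ⟨L, hL⟩
  have hnorm : v * c * v⁻¹ ∈ zpowers c := (mem_normalizer_iff.1 (w : N).2 c).1 (mem_zpowers c)
  -- the involution of `⟨v⟩` inverts `c`
  have hLpos : 0 < L := by
    rcases L.eq_zero_or_pos with rfl | h
    · exfalso
      obtain ⟨x', hx', hxo, j, hj⟩ := hkey x₀ p₀ hp₀ hp₀2 hx₀ hx₀r
      rw [show v = 1 from orderOf_eq_one_iff.1 (by simpa using hL), one_pow, one_mul, inv_one, mul_one] at hj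
      exact sq_ne_one_of_odd (fun e => by rw [e, orderOf_one] at hxo; exact hp₀.ne_one hxo.symm)
        (hxo ▸ hp₀.odd_of_ne_two hp₀2) (eq_inv_iff_mul_eq_one.1 hj)
    · exact h
  have hcreal : Real c := by
    set i := v ^ 2 ^ (L - 1) with hi
    have hi2 : i * i = 1 := by
      rw [hi, ← pow_add, ← two_mul, ← pow_succ', Nat.sub_add_cancel hLpos, ← hL, pow_orderOf_eq_one]
    have hii : i⁻¹ = i := inv_eq_of_mul_eq_one_right hi2
    have hiN : i * c * i⁻¹ ∈ zpowers c :=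
      (mem_normalizer_iff.1 (pow_mem (w : N).2 _) c).1 (mem_zpowers c)
    obtain ⟨e, he⟩ := (mem_powers_iff_mem_zpowers.2 hiN : i * c * i⁻¹ ∈ Submonoid.powers c)
    have he' : c ^ e = i * c * i⁻¹ := he
    have h1 : c ^ (e * e) = c := by
      rw [pow_mul, he', conj_pow, he', show i * (i * c * i⁻¹) * i⁻¹ = i * i * c * (i * i)⁻¹ by group,
        hi2, one_mul, inv_one, mul_one]
    have h2 : ((e : ZMod r) * e) = 1 := by
      have h3 : c ^ (e * e) = c ^ 1 := by rw [h1, pow_one]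
      rw [pow_eq_pow_iff_modEq, hco] at h3
      simpa using (ZMod.natCast_eq_natCast_iff _ _ _).2 h3
    rcases mul_self_eq_one_iff.1 h2 with he1 | he1
    · exfalso
      have h3 : c ^ e = c ^ 1 := by
        rw [pow_eq_pow_iff_modEq, hco, ← ZMod.natCast_eq_natCast_iff]; simpa using he1
      rw [he', pow_one] at h3
      have h4 := hQtwo i (mem_cent.2 (mul_inv_eq_iff_eq_mul.1 h3)) 1 (by rw [pow_one, pow_two, hi2])
      have h5 := orderOf_dvd_of_pow_eq_one (hi ▸ h4 : v ^ 2 ^ (L - 1) = 1)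
      rw [hL] at h5
      have := Nat.pow_dvd_pow_iff_le_right'.1 h5
      omega
    · refine ⟨i, ?_⟩
      have h3 : c ^ (e + 1) = 1 := orderOf_dvd_iff_pow_eq_one.1 (by
        rw [hco, ← ZMod.natCast_eq_zero_iff]; push_cast; rw [he1, neg_add_cancel])
      rw [pow_succ, he'] at h3
      exact eq_inv_of_mul_eq_one_left h3
  have hsylq : ∀ q : ℕ, q.Prime → P q → ¬ q ∣ csize c := hM.size c r hr hr2 hco hcreal
  obtain ⟨v₀, hv₀, hv₀f⟩ : ∃ v₀ : V, v₀ ≠ 0 ∧ v • v₀ = v₀ := by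
    obtain ⟨S, hS⟩ := (isPGroup_zpowers (show v ^ 2 ^ L = 1 by rw [← hL, pow_orderOf_eq_one])).exists_le_sylow
    obtain ⟨u, hu⟩ := hM.exists_sylOf S
    exact ⟨u.1, u.2, hM.sylOf_spec u v (hu.symm ▸ hS (mem_zpowers v))⟩
  refine ⟨c, v, v₀, r, k, L, hs, hk0, hkd, hkcard, hcount, hL, hLpos, hnorm, hv₀, hv₀f, hinv, hsylq,
    fun m hm' => ?_⟩
  have hdvd : m ∣ Nat.card Q := by
    refine hm'.trans ((Nat.dvd_iff_prime_pow_dvd_dvd (Nat.card Q) _).2 fun q a hq hqa => ?_)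
    rcases a.eq_zero_or_pos with rfl | ha
    · simp
    have hPq := hM.syl q hq ((dvd_pow_self q ha.ne').trans hqa)
    have h1 : q ^ a ∣ Nat.card Q * Q.index := by
      rw [card_mul_index]
      exact hqa.trans (Sylow.card_eq_index_normalizer (default : Sylow 2 X) ▸ index_dvd_card _)
    exact (Nat.Coprime.pow_left a (hq.coprime_iff_not_dvd.2 (hsylq q hq hPq))).dvd_of_dvd_mul_right h1
  obtain ⟨t, ht⟩ := (inferInstance : IsCyclic Q).exists_ofOrder_eq_natCard
  refine ⟨(t : X) ^ (Nat.card Q / m), pow_mem t.2 _, ?_⟩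
  rw [orderOf_pow_of_dvd (Nat.div_pos (Nat.le_of_dvd Nat.card_pos hdvd)
      (Nat.pos_of_dvd_of_pos hdvd Nat.card_pos)).ne' (by rw [orderOf_coe, ht]; exact Nat.div_dvd_of_dvd hdvd),
    orderOf_coe, ht, Nat.div_div_self hdvd Nat.card_pos.ne']

end Cfsg.Agent.RealClassGraph
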